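import Groth.Agent.FibDim.RelDim
import Mathlib.RingTheory.Extension.Presentation.Core
import Mathlib.AlgebraicGeometry.Morphisms.UniversallyOpen

/-!
# Local dimension along flat morphisms; retrocompactness of the semicontinuity sets
-/

set_option autoImplicit false
set_option linter.style.haveILetI false

open AlgebraicGeometry CategoryTheory Limits Topology TensorProduct

namespace Groth.Agent.FibDim

universe u

variable {X Y : Scheme.{u}}

theorem topologicalKrullDim_eq_iSup_codim [IsLocallyNoetherian X] :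
    topologicalKrullDim ↥X = ⨆ x : X, ((DimFormula.codim x : ℕ∞) : WithBot ℕ∞) := by
  simp only [DimFormula.coe_codim]
  rw [topologicalKrullDim, Order.krullDim_eq_of_orderIso (irreducibleSetEquivPoints (α := ↥X))]
  exact Order.krullDim_eq_iSup_coheight

theorem codim_opens [IsLocallyNoetherian X] (U : X.Opens) (u : (U : Scheme.{u})) :
    DimFormula.codim u = DimFormula.codim (U.ι u) := by
  have h := ringKrullDim_eq_of_ringEquiv (asIso (U.ι.stalkMap u)).commRingCatIsoToRingEquiv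
  rw [DimFormula.ringKrullDim_stalk, DimFormula.ringKrullDim_stalk] at h
  exact_mod_cast h.symm

theorem topologicalKrullDim_opens [IsLocallyNoetherian X] (U : X.Opens) :
    topologicalKrullDim ↥(U : Set X) = ⨆ x : (U : Set X), ((DimFormula.codim x.1 : ℕ∞) : WithBot ℕ∞) := by
  refine (topologicalKrullDim_eq_iSup_codim (X := (U : Scheme.{u}))).trans (iSup_congr fun u => ?_)
  rw [codim_opens U u]
  rfl

theorem localDim_eq_add (f : X ⟶ Y) [Flat f] [LocallyOfFiniteType f] [IsLocallyNoetherian X]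
    [IsLocallyNoetherian Y] {d : ℕ} (hd : Cyc.HasRelDim f d) (x : X) :
    FlatMor.localDim ↥X x = FlatMor.localDim ↥Y (f x) + (d : WithBot ℕ∞) := by
  haveI : LocallyOfFinitePresentation f := LocallyOfFinitePresentation.iff_locallyOfFiniteType.2 ‹_›
  have hsum : ∀ z, rd f z + DimFormula.fb f z = d := fun z => by
    have := fibreDimAt_eq_of_hasRelDim f hd z
    rw [DimFormula.fibreDimAt_eq_add] at this
    exact_mod_cast this
  refine le_antisymm ?_ (le_iInf fun U => ?_)
  · haveI : Nonempty {V : TopologicalSpace.Opens ↥Y // f x ∈ V} := ⟨⟨⊤, trivial⟩⟩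
    obtain ⟨⟨V, hV⟩, he⟩ := ciInf_mem fun V : {V : TopologicalSpace.Opens ↥Y // f x ∈ V} =>
      topologicalKrullDim (V.1 : Set Y)
    rw [FlatMor.localDim, FlatMor.localDim, ← he]
    refine iInf_le_of_le ⟨f ⁻¹ᵁ V, hV⟩ ?_
    dsimp only
    rw [topologicalKrullDim_opens]
    refine iSup_le fun u => ?_
    rw [topologicalKrullDim_opens]
    refine le_trans ?_ (add_le_add (le_iSup
      (fun v : (V : Set Y) => ((DimFormula.codim v.1 : ℕ∞) : WithBot ℕ∞)) ⟨f u.1, u.2⟩) le_rfl)
    have h1 := DimFormula.codim_le_add f u.1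
    have h2 := hsum u.1
    exact_mod_cast (show DimFormula.codim u.1 ≤ DimFormula.codim (f u.1) + d by omega)
  · obtain ⟨U, hU⟩ := U
    let V : TopologicalSpace.Opens ↥Y := ⟨f '' U, f.isOpenMap _ U.isOpen⟩
    refine (add_le_add (iInf_le (fun V : {V : TopologicalSpace.Opens ↥Y // f x ∈ V} =>
      topologicalKrullDim (V.1 : Set Y)) ⟨V, ⟨x, hU, rfl⟩⟩) le_rfl).trans ?_
    dsimp only
    rw [topologicalKrullDim_opens (X := Y) V, topologicalKrullDim_opens (X := X) U]
    haveI : Nonempty ↥(V : Set Y) := ⟨⟨f x, x, hU, rfl⟩⟩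
    obtain ⟨u₀, hu₀⟩ : ∃ u₀ : (U : Set X), u₀.1 = x := ⟨⟨x, hU⟩, rfl⟩
    have key : ∀ v : (V : Set Y), ∃ u : (U : Set X), DimFormula.codim v.1 + d ≤ DimFormula.codim u.1 := by
      rintro ⟨_, w, hw, rfl⟩
      let U' : X.Opens := U
      obtain ⟨c, hc, hc0⟩ := VarDim.exists_fdeg_eq_zero (U'.ι ≫ f) (y := f w) ⟨⟨w, hw⟩, rfl⟩
      have hrd : rd f (U'.ι c) = 0 := by
        rw [← rd_opens]
        have := rd_eq_rdeg (U'.ι ≫ f) c
        rw [VarDim.fdeg, ← this] at hc0
        simpa using hc0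
      obtain ⟨z, -, hfz, -, hzle, -⟩ := DimFormula.codim_add_fb_le f (U'.ι c)
      refine ⟨⟨U'.ι c, c.2⟩, ?_⟩
      have h1 := CycLib.codim_flat_le f z
      have h2 := hsum (U'.ι c)
      have h3 : f z = f w := hfz.trans hc
      rw [h3] at h1
      show DimFormula.codim (f w) + d ≤ DimFormula.codim (U'.ι c)
      omega
    obtain ⟨v, hv⟩ | hb : (∃ v : (V : Set Y), ∀ v' : (V : Set Y),
        DimFormula.codim v'.1 ≤ DimFormula.codim v.1) ∨ ¬ BddAbove (Set.range fun v : (V : Set Y) => DimFormula.codim v.1) := by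
      by_cases hb : BddAbove (Set.range fun v : (V : Set Y) => DimFormula.codim v.1)
      · obtain ⟨v, hv⟩ := Nat.sSup_mem (Set.range_nonempty _) hb
        exact Or.inl ⟨v, fun v' => hv.ge.trans' (le_csSup hb ⟨v', rfl⟩)⟩
      · exact Or.inr hb
    · obtain ⟨u, hu⟩ := key v
      refine le_trans (b := ((DimFormula.codim v.1 : ℕ∞) : WithBot ℕ∞) + (d : WithBot ℕ∞))
        (add_le_add (iSup_le fun v' => ?_) le_rfl)
        (le_trans ?_ (le_iSup (fun u : (U : Set X) => ((DimFormula.codim u.1 : ℕ∞) : WithBot ℕ∞)) u))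
      · exact (show ((DimFormula.codim v'.1 : ℕ∞) : WithBot ℕ∞) ≤ ((DimFormula.codim v.1 : ℕ∞) : WithBot ℕ∞) by
          exact_mod_cast hv v')
      · exact_mod_cast hu
    · refine le_of_le_of_eq le_top (eq_top_iff.2 ?_).symm
      refine le_iSup_iff.2 fun b hb' => ?_
      induction b with
      | bot => exact absurd (hb' u₀) (by simp)
      | coe b =>
        induction b with
        | top => exact le_rfl
        | coe n =>
          exfalso
          refine hb ⟨n, ?_⟩
          rintro _ ⟨v, rfl⟩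
          obtain ⟨u, hu⟩ := key v
          have := hb' u
          have h' : DimFormula.codim u.1 ≤ n := by exact_mod_cast this
          show DimFormula.codim v.1 ≤ n
          omega

theorem fibreDimAt_comp_mono {Z : Scheme.{u}} (h : X ⟶ Y) (j : Y ⟶ Z) [Mono j] [LocallyOfFiniteType j]
    [LocallyOfFiniteType h] (x : X) : FlatMor.fibreDimAt (h ≫ j) x = FlatMor.fibreDimAt h x := by
  have : IsPullback (𝟙 X) h (h ≫ j) j := by
    have h0 : IsPullback (𝟙 Y) (𝟙 Y) j j := IsPullback.of_isLimit (PullbackCone.isLimitMkIdId j)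
    exact (IsPullback.of_horiz_isIso (fst := 𝟙 X) (snd := h) (f := h) (g := 𝟙 Y) ⟨by simp⟩).paste_vert h0
  exact (fibreDimAt_baseChange this x).symm

theorem fibreDimAt_openImmersion_comp {Z : Scheme.{u}} (j : X ⟶ Y) (f : Y ⟶ Z) [IsOpenImmersion j]
    [LocallyOfFiniteType f] (x : X) : FlatMor.fibreDimAt (j ≫ f) x = FlatMor.fibreDimAt f (j x) := by
  obtain ⟨z, -, -, -, he⟩ := exists_fibMax_generization j x
  have h0 : rd j z = 0 := by
    have := rd_eq_rdeg j z
    rw [VarDim.rdeg_preimmersion] at this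
    exact_mod_cast this
  rw [h0] at he
  rw [fibreDimAt_comp_of_flat j f x (Flat.stalkMap j x), he]
  simp

theorem isCompact_setOf_fibreDimAt_le_Spec (A B : Type u) [CommRing A] [CommRing B] [Algebra A B]
    [Algebra.FinitePresentation A B] [LocallyOfFiniteType (Spec.map (CommRingCat.ofHom (algebraMap A B)))]
    (n : ℕ) :
    IsCompact {P : ↥(Spec (CommRingCat.of B)) |
      FlatMor.fibreDimAt (Spec.map (CommRingCat.ofHom (algebraMap A B))) P ≤ n} := by
  let P := Algebra.Presentation.ofFinitePresentation A B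
  let A₀ := P.Core
  let B₀ := P.ModelOfHasCoeffs A₀
  haveI : IsNoetherianRing A₀ := Algebra.FiniteType.isNoetherianRing ℤ A₀
  haveI : IsNoetherianRing B₀ := Algebra.FiniteType.isNoetherianRing A₀ B₀
  let f₀ := Spec.map (CommRingCat.ofHom (algebraMap A₀ B₀))
  haveI : LocallyOfFiniteType f₀ :=
    HasRingHomProperty.Spec_iff.2 (RingHom.finiteType_algebraMap.2 inferInstance)
  let e : Spec (CommRingCat.of B) ≅ Spec (CommRingCat.of (A ⊗[A₀] B₀)) :=
    Scheme.Spec.mapIso (P.tensorModelOfHasCoeffsEquiv A₀).toRingEquiv.toCommRingCatIso.op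
  have sq₀ := isPullback_SpecMap_of_isPushout _ _ _ _ (CommRingCat.isPushout_tensorProduct A₀ A B₀)
  have he : e.hom ≫ Spec.map (CommRingCat.ofHom (Algebra.TensorProduct.includeLeftRingHom
      (R := A₀) (A := A) (B := B₀))) = Spec.map (CommRingCat.ofHom (algebraMap A B)) := by
    refine (Spec.map_comp _ _).symm.trans (congrArg Spec.map (CommRingCat.hom_ext (RingHom.ext fun a => ?_)))
    exact (P.tensorModelOfHasCoeffsEquiv A₀).commutes a
  let π := e.hom ≫ Spec.map (CommRingCat.ofHom (Algebra.TensorProduct.includeRight (R := A₀) (A := A)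
    (B := B₀)).toRingHom)
  have sq : IsPullback π (Spec.map (CommRingCat.ofHom (algebraMap A B))) f₀
      (Spec.map (CommRingCat.ofHom (algebraMap A₀ A))) :=
    IsPullback.of_iso sq₀.flip e.symm (Iso.refl _) (Iso.refl _) (Iso.refl _) (by simp [π]) (by simp [← he])
      (by simp [f₀]) (by simp)
  haveI : IsLocallyNoetherian (Spec (CommRingCat.of B₀)) := inferInstance
  haveI : TopologicalSpace.NoetherianSpace ↥(Spec (CommRingCat.of B₀)) :=
    inferInstanceAs (TopologicalSpace.NoetherianSpace (PrimeSpectrum B₀))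
  simp only [fibreDimAt_baseChange sq]
  exact QuasiCompact.isCompact_preimage (f := π) _ (isOpen_fibreDimAt_le f₀ n)
    (TopologicalSpace.NoetherianSpace.isCompact _)

theorem isRetrocompact_setOf_fibreDimAt_le (f : X ⟶ Y) [LocallyOfFinitePresentation f] (n : ℕ) :
    IsRetrocompact {x : X | FlatMor.fibreDimAt f x ≤ n} := by
  intro W hW hWo
  have : ∀ x ∈ W, ∃ U : X.Opens, x ∈ U ∧ (U : Set X) ⊆ W ∧
      IsCompact ({x : X | FlatMor.fibreDimAt f x ≤ n} ∩ U) := by
    intro x hx
    obtain ⟨V, hV, hxV, -⟩ := exists_isAffineOpen_mem_and_subset (x := f x) (U := ⊤) trivial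
    obtain ⟨U, hU, hxU, hsub⟩ := exists_isAffineOpen_mem_and_subset (x := x)
      (U := f ⁻¹ᵁ V ⊓ ⟨W, hWo⟩) ⟨hxV, hx⟩
    have hUV : U ≤ f ⁻¹ᵁ V := fun z hz => (hsub hz).1
    refine ⟨U, hxU, fun z hz => (hsub hz).2, ?_⟩
    letI : Algebra Γ(Y, V) Γ(X, U) := (f.appLE V U hUV).hom.toAlgebra
    haveI : Algebra.FinitePresentation Γ(Y, V) Γ(X, U) :=
      LocallyOfFinitePresentation.finitePresentation_appLE f hV hU hUV
    haveI : LocallyOfFiniteType (Spec.map (CommRingCat.ofHom (algebraMap Γ(Y, V) Γ(X, U)))) :=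
      HasRingHomProperty.Spec_iff.2 (RingHom.finiteType_algebraMap.2 inferInstance)
    haveI : LocallyOfFiniteType hV.fromSpec := inferInstance
    have hkey : ∀ P : ↥(Spec Γ(X, U)), FlatMor.fibreDimAt f (hU.fromSpec P) =
        FlatMor.fibreDimAt (Spec.map (CommRingCat.ofHom (algebraMap Γ(Y, V) Γ(X, U)))) P := fun P => by
      rw [← fibreDimAt_openImmersion_comp hU.fromSpec f P,
        ← fibreDimAt_comp_mono (Spec.map (CommRingCat.ofHom (algebraMap Γ(Y, V) Γ(X, U)))) hV.fromSpec P]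
      congr 1
      exact (hV.SpecMap_appLE_fromSpec f hU hUV).symm
    have hset : {x : X | FlatMor.fibreDimAt f x ≤ n} ∩ U = hU.fromSpec ''
        {P | FlatMor.fibreDimAt (Spec.map (CommRingCat.ofHom (algebraMap Γ(Y, V) Γ(X, U)))) P ≤ n} := by
      ext z
      constructor
      · rintro ⟨hz, hzU⟩
        obtain ⟨P, rfl⟩ : z ∈ Set.range hU.fromSpec := by rwa [hU.range_fromSpec]
        exact ⟨P, (hkey P).symm.trans_le hz, rfl⟩
      · rintro ⟨P, hP, rfl⟩
        refine ⟨(hkey P).trans_le hP, ?_⟩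
        have : hU.fromSpec P ∈ Set.range hU.fromSpec := ⟨P, rfl⟩
        rwa [hU.range_fromSpec] at this
    rw [hset]
    exact (isCompact_setOf_fibreDimAt_le_Spec _ _ n).image hU.fromSpec.continuous
  choose U hxU hUW hUc using this
  obtain ⟨t, ht⟩ := hW.elim_finite_subcover (fun x : W => (U x.1 x.2 : Set X)) (fun x => (U x.1 x.2).isOpen)
    fun x hx => Set.mem_iUnion.2 ⟨⟨x, hx⟩, hxU x hx⟩
  have he : W ∩ {x : X | FlatMor.fibreDimAt f x ≤ n} =
      ⋃ x ∈ t, {x : X | FlatMor.fibreDimAt f x ≤ n} ∩ U x.1 x.2 := by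
    ext z
    constructor
    · rintro ⟨hz, hzn⟩
      obtain ⟨x, hx, hzx⟩ := Set.mem_iUnion₂.1 (ht hz)
      exact Set.mem_iUnion₂.2 ⟨x, hx, hzn, hzx⟩
    · intro hz
      obtain ⟨x, hx, hzn, hzx⟩ := Set.mem_iUnion₂.1 hz
      exact ⟨hUW x.1 x.2 hzx, hzn⟩
  rw [Set.inter_comm, he]
  exact t.isCompact_biUnion fun x _ => hUc x.1 x.2

end Groth.Agent.FibDim
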