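import Groth.Agent.FibDim.Top

/-!
# Upper semicontinuity of the dimension of fibres (EGA IV 13.1.3)
-/

set_option autoImplicit false
set_option linter.style.haveILetI false

open AlgebraicGeometry CategoryTheory Topology

namespace Groth.Agent.FibDim

universe u

variable {X Y : Scheme.{u}} (f : X ⟶ Y) [LocallyOfFiniteType f]

theorem exists_open_dim_le {W Z : Set X} (hW : IsOpen W) (hZ : IsClosed Z) {x : X} (hxW : x ∈ W)
    (hxZ : x ∈ Z) (n : ℕ) (h : topologicalKrullDim ↥(W ∩ Z ∩ f ⁻¹' {f x}) ≤ n) :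
    ∃ U : Set X, IsOpen U ∧ x ∈ U ∧ U ⊆ W ∧
      ∀ y : Y, topologicalKrullDim ↥(U ∩ Z ∩ f ⁻¹' {y}) ≤ n := by
  obtain ⟨V, hV, hxV, -⟩ := exists_isAffineOpen_mem_and_subset (x := f x) (U := ⊤) trivial
  obtain ⟨U, hU, hxU, hUsub⟩ := exists_isAffineOpen_mem_and_subset (x := x)
    (U := ⟨W, hW⟩ ⊓ f ⁻¹ᵁ V) ⟨hxW, hxV⟩
  have hUV : U ≤ f ⁻¹ᵁ V := fun z hz => (hUsub hz).2
  letI : Algebra Γ(Y, V) Γ(X, U) := (f.appLE V U hUV).hom.toAlgebra
  haveI : Algebra.FiniteType Γ(Y, V) Γ(X, U) := f.finiteType_appLE hV hU hUV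
  obtain ⟨I, hI⟩ := (PrimeSpectrum.isClosed_iff_zeroLocus_ideal (hU.fromSpec ⁻¹' Z)).mp
    (hZ.preimage hU.fromSpec.continuous)
  let q : PrimeSpectrum (Γ(X, U) ⧸ I) → X := fun R =>
    hU.fromSpec (PrimeSpectrum.comap (Ideal.Quotient.mk I) R)
  have hq : IsEmbedding q := hU.fromSpec.isOpenEmbedding.isEmbedding.comp
    (PrimeSpectrum.isClosedEmbedding_comap_of_surjective _ _ Ideal.Quotient.mk_surjective).isEmbedding
  have hqr : Set.range q = (U : Set X) ∩ Z := by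
    have h1 : Set.range q = hU.fromSpec '' Set.range (PrimeSpectrum.comap (Ideal.Quotient.mk I)) :=
      Set.range_comp hU.fromSpec _
    have h2 : Set.range (PrimeSpectrum.comap (Ideal.Quotient.mk I)) =
        PrimeSpectrum.zeroLocus (I : Set Γ(X, U)) := by
      rw [_root_.range_comap_of_surjective _ _ Ideal.Quotient.mk_surjective, Ideal.mk_ker]
    rw [h1]
    refine ((congrArg (hU.fromSpec '' ·) h2).trans ?_)
    refine ((congrArg (hU.fromSpec '' ·) hI).symm.trans ?_)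
    refine Set.image_preimage_eq_inter_range.trans ?_
    rw [hU.range_fromSpec, Set.inter_comm]
  have hfq : ∀ R, f (q R) = hV.fromSpec (PrimeSpectrum.comap (algebraMap Γ(Y, V) (Γ(X, U) ⧸ I)) R) :=
    fun R => by
    show (hU.fromSpec ≫ f) (PrimeSpectrum.comap (Ideal.Quotient.mk I) R) = _
    rw [← IsAffineOpen.SpecMap_appLE_fromSpec f hV hU hUV]
    show hV.fromSpec (PrimeSpectrum.comap (f.appLE V U hUV).hom (PrimeSpectrum.comap _ R)) = _
    rw [← PrimeSpectrum.comap_comp_apply]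
    rfl
  obtain ⟨P, hP⟩ : x ∈ Set.range q := hqr ▸ ⟨hxU, hxZ⟩
  have hdim : topologicalKrullDim ↥(Set.univ ∩ fib (B := Γ(X, U) ⧸ I)
      (PrimeSpectrum.comap (algebraMap Γ(Y, V) (Γ(X, U) ⧸ I)) P)) ≤ n := by
    refine le_trans (IsInducing.topologicalKrullDim_le (f := fun R =>
      (⟨q R.1, ⟨(hUsub (hqr.le ⟨R.1, rfl⟩).1).1, (hqr.le ⟨R.1, rfl⟩).2⟩, ?_⟩ :
        ↥(W ∩ Z ∩ f ⁻¹' {f x}))) ((hq.isInducing.comp IsInducing.subtypeVal).codRestrict _)) h
    have hR : PrimeSpectrum.comap (algebraMap Γ(Y, V) (Γ(X, U) ⧸ I)) R.1 =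
        PrimeSpectrum.comap (algebraMap Γ(Y, V) (Γ(X, U) ⧸ I)) P := R.2.2
    rw [Set.mem_preimage, Set.mem_singleton_iff, hfq, hR, ← hfq, hP]
  obtain ⟨O, hO, hPO, -, hbound⟩ := exists_basicOpen_dim_le P n Set.univ isOpen_univ trivial hdim
  obtain ⟨O', hO', rfl⟩ := hq.isInducing.isOpen_iff.mp hO
  refine ⟨(U : Set X) ∩ O', U.isOpen.inter hO', ⟨hxU, hP ▸ hPO⟩, fun z hz => (hUsub hz.1).1, fun y => ?_⟩
  by_cases hy : y ∈ V
  · obtain ⟨p, rfl⟩ : y ∈ Set.range hV.fromSpec := by rw [hV.range_fromSpec]; exact hy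
    refine le_of_eq_of_le ?_ (hbound p)
    refine ((Homeomorph.isHomeomorph ((hq.homeomorphImage _).trans (Homeomorph.setCongr ?_))
      ).topologicalKrullDim_eq).symm
    ext z
    constructor
    · rintro ⟨R, ⟨h1, h2⟩, rfl⟩
      exact ⟨⟨⟨(hqr.le ⟨R, rfl⟩).1, h1⟩, (hqr.le ⟨R, rfl⟩).2⟩,
        (hfq R).trans (congrArg hV.fromSpec h2)⟩
    · rintro ⟨⟨⟨h1, h2⟩, h3⟩, h4⟩
      obtain ⟨R, rfl⟩ : z ∈ Set.range q := hqr ▸ ⟨h1, h3⟩
      exact ⟨R, ⟨h2, hV.fromSpec.isOpenEmbedding.injective ((hfq R).symm.trans h4)⟩, rfl⟩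
  · have : (U : Set X) ∩ O' ∩ Z ∩ f ⁻¹' {y} = ∅ := by
      refine Set.eq_empty_of_forall_notMem fun z hz => hy ?_
      have h1 : f z ∈ V := hUV hz.1.1.1
      rwa [show f z = y from hz.2] at h1
    rw [this]
    haveI : IsEmpty (TopologicalSpace.IrreducibleCloseds ↥(∅ : Set X)) :=
      ⟨fun C => C.isIrreducible.nonempty.some.2⟩
    exact le_of_eq_of_le Order.krullDim_eq_bot bot_le

theorem exists_nhd_rd_le (x : X) (n : ℕ) (h : FlatMor.fibreDimAt f x ≤ n) :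
    ∃ U : X.Opens, x ∈ U ∧ ∀ z ∈ U, rd f z ≤ n := by
  haveI : IsLocallyNoetherian (f.fiber (f x)) :=
    LocallyOfFiniteType.isLocallyNoetherian (f.fiberToSpecResidueField (f x))
  obtain ⟨W, hxW, hW⟩ := exists_nhd_generizing (X := f.fiber (f x)) isClosed_univ (f.asFiber x)
  obtain ⟨W', hW', hWW'⟩ := (f.fiberι (f x)).isEmbedding.isInducing.isOpen_iff.mp W.isOpen
  have hxW' : x ∈ W' := by
    have : f.asFiber x ∈ (f.fiberι (f x)) ⁻¹' W' := hWW'.symm ▸ hxW
    simpa [Scheme.Hom.fiberι_asFiber] using this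
  have hdim : topologicalKrullDim ↥(W' ∩ Set.univ ∩ f ⁻¹' {f x}) ≤ n := by
    refine (dim_inter_le_iff f _ hW' isClosed_univ _).2 fun w h1 _ h3 => ?_
    obtain ⟨w', rfl⟩ : w ∈ Set.range (f.fiberι (f x)) := by rw [Scheme.Hom.range_fiberι]; exact h3
    obtain ⟨η, -, hηx, hηw⟩ := hW w' (hWW'.le h1) trivial
    have hfη : f (f.fiberι (f x) η) = f x := by
      have : f.fiberι (f x) η ∈ Set.range (f.fiberι (f x)) := ⟨η, rfl⟩
      rw [Scheme.Hom.range_fiberι] at this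
      exact this
    refine le_trans (rd_le_of_specializes f (hηw.map (f.fiberι (f x)).continuous)
      (hfη.trans h3.symm)) ((fibreDimAt_le_iff f x n).1 h _ ?_ hfη)
    have := hηx.map (f.fiberι (f x)).continuous
    rwa [Scheme.Hom.fiberι_asFiber] at this
  obtain ⟨U, hU, hxU, -, hUb⟩ := exists_open_dim_le f hW' isClosed_univ hxW' trivial n hdim
  exact ⟨⟨U, hU⟩, hxU, fun z hz => (dim_inter_le_iff f _ hU isClosed_univ _).1 (hUb (f z)) z hz trivial rfl⟩

theorem isOpen_fibreDimAt_le (n : ℕ) : IsOpen {x : X | FlatMor.fibreDimAt f x ≤ n} := by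
  refine isOpen_iff_forall_mem_open.2 fun x hx => ?_
  obtain ⟨U, hxU, hU⟩ := exists_nhd_rd_le f x n hx
  exact ⟨U, fun z hz => (fibreDimAt_le_iff f z n).2 fun w hw _ => hU w (hw.mem_open U.isOpen hz),
    U.isOpen, hxU⟩

theorem isClosed_le_fibreDimAt (n : ℕ) : IsClosed {x : X | (n : WithBot ℕ∞) ≤ FlatMor.fibreDimAt f x} := by
  cases n with
  | zero =>
    convert! (isClosed_univ : IsClosed (Set.univ : Set X)) using 1
    ext x
    obtain ⟨z, -, -, he, -⟩ := exists_fibreDimAt_eq f x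
    simp [he]
  | succ n =>
    rw [← isOpen_compl_iff]
    convert! isOpen_fibreDimAt_le f n using 1
    ext x
    obtain ⟨z, -, -, he, -⟩ := exists_fibreDimAt_eq f x
    simp only [Set.mem_compl_iff, Set.mem_ofPred_eq, he]
    norm_cast
    omega

/-- Along a generization, some point of the fibre in between has at least the same relative degree. -/
theorem exists_rd_ge {η x : X} (h : η ⤳ x) :
    ∃ z, η ⤳ z ∧ z ⤳ x ∧ f z = f x ∧ rd f η ≤ rd f z := by
  obtain ⟨z, hz, hzx, hfz, hmax⟩ := exists_max_rd f (Z := closure {η}) (specializes_iff_mem_closure.1 h)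
  refine ⟨z, specializes_iff_mem_closure.2 hz, hzx, hfz, ?_⟩
  haveI : IsLocallyNoetherian (f.fiber (f x)) :=
    LocallyOfFiniteType.isLocallyNoetherian (f.fiberToSpecResidueField (f x))
  obtain ⟨W, hxW, hW⟩ := exists_nhd_generizing
    ((isClosed_closure (s := {η})).preimage (f.fiberι (f x)).continuous) (f.asFiber x)
  obtain ⟨W', hW', hWW'⟩ := (f.fiberι (f x)).isEmbedding.isInducing.isOpen_iff.mp W.isOpen
  have hxW' : x ∈ W' := by
    have : f.asFiber x ∈ (f.fiberι (f x)) ⁻¹' W' := hWW'.symm ▸ hxW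
    simpa [Scheme.Hom.fiberι_asFiber] using this
  have hdim : topologicalKrullDim ↥(W' ∩ closure {η} ∩ f ⁻¹' {f x}) ≤ rd f z := by
    refine (dim_inter_le_iff f _ hW' isClosed_closure _).2 fun w h1 h2 h3 => ?_
    obtain ⟨w', rfl⟩ : w ∈ Set.range (f.fiberι (f x)) := by rw [Scheme.Hom.range_fiberι]; exact h3
    obtain ⟨ζ, hζ, hζx, hζw⟩ := hW w' (hWW'.le h1) h2
    have hfζ : f (f.fiberι (f x) ζ) = f x := by
      have : f.fiberι (f x) ζ ∈ Set.range (f.fiberι (f x)) := ⟨ζ, rfl⟩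
      rw [Scheme.Hom.range_fiberι] at this
      exact this
    refine le_trans (rd_le_of_specializes f (hζw.map (f.fiberι (f x)).continuous)
      (hfζ.trans h3.symm)) (hmax _ hζ ?_ hfζ)
    have := hζx.map (f.fiberι (f x)).continuous
    rwa [Scheme.Hom.fiberι_asFiber] at this
  obtain ⟨U, hU, hxU, -, hUb⟩ := exists_open_dim_le f hW' isClosed_closure hxW'
    (specializes_iff_mem_closure.1 h) _ hdim
  exact (dim_inter_le_iff f _ hU isClosed_closure _).1 (hUb (f η)) η (h.mem_open hU hxU)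
    (subset_closure rfl) rfl

/-- The dimension of a fibre. -/
theorem topologicalKrullDim_fiber (y : Y) :
    topologicalKrullDim ↥(f.fiber y) = ⨆ z : ↥(f ⁻¹' {y}), ((rd f z.1 : ℕ∞) : WithBot ℕ∞) := by
  rw [(f.fiberHomeo y).isHomeomorph.topologicalKrullDim_eq]
  have := dim_closed_inter_eq_iSup f y (Z := Set.univ) isClosed_univ
  rwa [Set.univ_inter] at this

theorem le_topologicalKrullDim_fiber_iff (y : Y) (n : ℕ) :
    (n : WithBot ℕ∞) ≤ topologicalKrullDim ↥(f.fiber y) ↔ ∃ z, f z = y ∧ n ≤ rd f z := by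
  rw [topologicalKrullDim_fiber f y]
  constructor
  · intro h
    by_contra hn
    push Not at hn
    cases n with
    | zero =>
      haveI : IsEmpty ↥(f ⁻¹' {y}) := ⟨fun z => absurd (hn z.1 z.2) (Nat.not_lt_zero _)⟩
      rw [iSup_of_empty] at h
      simp at h
    | succ n =>
      have : (⨆ z : ↥(f ⁻¹' {y}), ((rd f z.1 : ℕ∞) : WithBot ℕ∞)) ≤ n :=
        iSup_le fun z => by exact_mod_cast Nat.lt_succ_iff.1 (hn z.1 z.2)
      have h2 := h.trans this
      norm_cast at h2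
      omega
  · rintro ⟨z, hz, hn⟩
    exact le_trans (by exact_mod_cast hn) (le_iSup _ (⟨z, hz⟩ : ↥(f ⁻¹' {y})))

end Groth.Agent.FibDim
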