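import Groth.Agent.FibDim.Indep

/-!
# Openness at a point and dimensions of fibres (EGA IV 14.2), valuation rings (13.2)
-/

set_option autoImplicit false
set_option linter.style.haveILetI false

open AlgebraicGeometry CategoryTheory Topology

namespace Groth.Agent.FibDim

universe u

variable {X Y : Scheme.{u}} (f : X ⟶ Y)

section Affine

variable {V : Y.Opens} (hV : IsAffineOpen V) {U : X.Opens} (hU : IsAffineOpen U) (hUV : U ≤ f ⁻¹ᵁ V)

include hV hU hUV in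
theorem fromSpec_comm (P : PrimeSpectrum Γ(X, U)) :
    f (hU.fromSpec P) = hV.fromSpec (PrimeSpectrum.comap (f.appLE V U hUV).hom P) := by
  show (hU.fromSpec ≫ f) P = _
  rw [← IsAffineOpen.SpecMap_appLE_fromSpec f hV hU hUV]
  rfl

include hV hU hUV in
theorem le_rd_iff [LocallyOfFiniteType f] (P : PrimeSpectrum Γ(X, U)) (n : ℕ) :
    n ≤ rd f (hU.fromSpec P) ↔
      letI : Algebra Γ(Y, V) Γ(X, U) := (f.appLE V U hUV).hom.toAlgebra
      ∃ t : Fin n → Γ(X, U), IndepMod (A := Γ(Y, V)) t P.asIdeal := by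
  letI : Algebra Γ(Y, V) Γ(X, U) := (f.appLE V U hUV).hom.toAlgebra
  haveI : Algebra.FiniteType Γ(Y, V) Γ(X, U) := f.finiteType_appLE hV hU hUV
  rw [← le_dim_fiber_quotient_iff (A := Γ(Y, V)) P.asIdeal n]
  set x := hU.fromSpec P with hx
  let p : PrimeSpectrum Γ(Y, V) := PrimeSpectrum.comap (algebraMap Γ(Y, V) Γ(X, U)) P
  show n ≤ rd f x ↔ (n : WithBot ℕ∞) ≤ ringKrullDim (p.asIdeal.Fiber (Γ(X, U) ⧸ P.asIdeal))
  rw [← topologicalKrullDim_fib]
  let q : PrimeSpectrum (Γ(X, U) ⧸ P.asIdeal) → X := fun R =>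
    hU.fromSpec (PrimeSpectrum.comap (Ideal.Quotient.mk P.asIdeal) R)
  have hq : IsEmbedding q := hU.fromSpec.isOpenEmbedding.isEmbedding.comp
    (PrimeSpectrum.isClosedEmbedding_comap_of_surjective _ _ Ideal.Quotient.mk_surjective).isEmbedding
  have hfq : ∀ R, f (q R) =
      hV.fromSpec (PrimeSpectrum.comap (algebraMap Γ(Y, V) (Γ(X, U) ⧸ P.asIdeal)) R) := fun R => by
    show f (hU.fromSpec _) = _
    rw [fromSpec_comm f hV hU hUV, ← PrimeSpectrum.comap_comp_apply]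
    rfl
  have hxU : x ∈ U := VarDim.fromSpec_mem hU P
  have himg : q '' fib p = (U : Set X) ∩ closure {x} ∩ f ⁻¹' {f x} := by
    ext z
    constructor
    · rintro ⟨R, hR, rfl⟩
      refine ⟨⟨VarDim.fromSpec_mem hU _, specializes_iff_mem_closure.1 ?_⟩, ?_⟩
      · refine (VarDim.fromSpec_specializes_iff hU P _).2 fun b hb => ?_
        show Ideal.Quotient.mk P.asIdeal b ∈ R.asIdeal
        rw [Ideal.Quotient.eq_zero_iff_mem.2 hb]
        exact R.asIdeal.zero_mem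
      · rw [Set.mem_preimage, Set.mem_singleton_iff, hfq, hx, fromSpec_comm f hV hU hUV]
        exact congrArg hV.fromSpec hR
    · rintro ⟨⟨h1, h2⟩, h3⟩
      obtain ⟨Q, rfl⟩ := VarDim.exists_fromSpec_eq hU h1
      have hPQ : P ≤ Q := (VarDim.fromSpec_specializes_iff hU P Q).1 (specializes_iff_mem_closure.2 h2)
      obtain ⟨R, hR⟩ : Q ∈ Set.range (PrimeSpectrum.comap (Ideal.Quotient.mk P.asIdeal)) := by
        rw [_root_.range_comap_of_surjective _ _ Ideal.Quotient.mk_surjective, Ideal.mk_ker]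
        exact hPQ
      have hqR : q R = hU.fromSpec Q := congrArg hU.fromSpec hR
      refine ⟨R, hV.fromSpec.isOpenEmbedding.injective ?_, hqR⟩
      rw [← hfq, hqR, show f (hU.fromSpec Q) = f x from h3, hx, fromSpec_comm f hV hU hUV]
      rfl
  rw [((hq.homeomorphImage (fib p)).trans (Homeomorph.setCongr himg)).isHomeomorph.topologicalKrullDim_eq,
    dim_inter_eq_iSup f _ U.isOpen isClosed_closure]
  have h2 : (⨆ z : ↥((U : Set X) ∩ closure {x} ∩ f ⁻¹' {f x}), ((rd f z.1 : ℕ∞) : WithBot ℕ∞)) =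
      ((rd f x : ℕ∞) : WithBot ℕ∞) := by
    refine le_antisymm (iSup_le fun z => ?_) (le_iSup_of_le ⟨x, ⟨hxU, subset_closure rfl⟩, rfl⟩ le_rfl)
    exact_mod_cast rd_le_of_specializes f (specializes_iff_mem_closure.2 z.2.1.2) z.2.2.symm
  rw [h2]
  norm_cast

end Affine

variable [LocallyOfFiniteType f]

/-- Openness at a point lifts generizations. -/
theorem exists_generization_of_isOpenAt {x : X} (h : EGA43.IsOpenAt f.base x) {y' : Y}
    (hy : y' ⤳ f x) : ∃ ζ, ζ ⤳ x ∧ f ζ = y' := by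
  by_contra hne
  push Not at hne
  haveI : IsLocallyNoetherian (f.fiber y') :=
    LocallyOfFiniteType.isLocallyNoetherian (f.fiberToSpecResidueField y')
  obtain ⟨V, hV, hxV, -⟩ := exists_isAffineOpen_mem_and_subset (x := f x) (U := ⊤) trivial
  obtain ⟨U, hU, hxU, hUV⟩ := exists_isAffineOpen_mem_and_subset (x := x) (U := f ⁻¹ᵁ V) hxV
  letI : Algebra Γ(Y, V) Γ(X, U) := (f.appLE V U hUV).hom.toAlgebra
  haveI : Algebra.FiniteType Γ(Y, V) Γ(X, U) := f.finiteType_appLE hV hU hUV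
  obtain ⟨p', hp'⟩ := VarDim.exists_fromSpec_eq hV (hy.mem_open V.isOpen hxV)
  obtain ⟨P, hP⟩ := VarDim.exists_fromSpec_eq hU hxU
  haveI : IsNoetherianRing (p'.asIdeal.Fiber Γ(X, U)) :=
    Algebra.FiniteType.isNoetherianRing p'.asIdeal.ResidueField _
  let e := PrimeSpectrum.preimageOrderIsoFiber Γ(Y, V) Γ(X, U) p'
  let S : Set (PrimeSpectrum (p'.asIdeal.Fiber Γ(X, U))) :=
    {R | R.asIdeal ∈ minimalPrimes (p'.asIdeal.Fiber Γ(X, U))}
  have hS : S.Finite := (minimalPrimes.finite_of_isNoetherianRing _).preimage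
    (fun a _ b _ h => PrimeSpectrum.ext h)
  let pt : PrimeSpectrum (p'.asIdeal.Fiber Γ(X, U)) → X := fun R => hU.fromSpec (e.symm R).1
  have hpt : ∀ R, f (pt R) = y' := fun R => by
    rw [fromSpec_comm f hV hU hUV, ← hp']
    exact congrArg hV.fromSpec (e.symm R).2
  let O : Set X := (U : Set X) ∩ (⋃ R ∈ S, closure {pt R})ᶜ
  have hO : O ∈ nhds x := by
    refine (U.isOpen.inter (hS.isClosed_biUnion fun R _ => isClosed_closure).isOpen_compl).mem_nhds
      ⟨hxU, fun hmem => ?_⟩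
    obtain ⟨R, -, hR⟩ := Set.mem_iUnion₂.1 hmem
    exact hne _ (specializes_iff_mem_closure.2 hR) (hpt R)
  obtain ⟨w, ⟨hwU, hw⟩, hfw⟩ := mem_of_mem_nhds (Filter.mem_of_superset
    (show (f.base '' O) ∈ nhds y' from hy (h O hO)) subset_rfl)
  obtain ⟨Q, rfl⟩ := VarDim.exists_fromSpec_eq hU hwU
  have hQ : PrimeSpectrum.comap (algebraMap Γ(Y, V) Γ(X, U)) Q = p' :=
    hV.fromSpec.isOpenEmbedding.injective ((fromSpec_comm f hV hU hUV Q).symm.trans (hfw.trans hp'.symm))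
  obtain ⟨M, hM, hMle⟩ := Ideal.exists_minimalPrimes_le
    (bot_le : (⊥ : Ideal (p'.asIdeal.Fiber Γ(X, U))) ≤ (e ⟨Q, hQ⟩).asIdeal)
  refine hw (Set.mem_iUnion₂.2 ⟨⟨M, hM.1.1⟩, hM, specializes_iff_mem_closure.1 ?_⟩)
  refine (VarDim.fromSpec_specializes_iff hU _ Q).2 ?_
  have := e.symm.monotone (show (⟨M, hM.1.1⟩ : PrimeSpectrum _) ≤ e ⟨Q, hQ⟩ from hMle)
  rw [e.symm_apply_apply] at this
  exact this

/-- EGA IV 14.2.1: at a point where `f` is open, every generization of the image lifts to a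
generization of at least the same relative degree. -/
theorem exists_generization_rd_ge [IsLocallyNoetherian Y] {x : X} (h : EGA43.IsOpenAt f.base x)
    {y' : Y} (hy : y' ⤳ f x) : ∃ ζ, ζ ⤳ x ∧ f ζ = y' ∧ rd f x ≤ rd f ζ := by
  obtain ⟨V, hV, hxV, -⟩ := exists_isAffineOpen_mem_and_subset (x := f x) (U := ⊤) trivial
  obtain ⟨U, hU, hxU, hUV⟩ := exists_isAffineOpen_mem_and_subset (x := x) (U := f ⁻¹ᵁ V) hxV
  letI : Algebra Γ(Y, V) Γ(X, U) := (f.appLE V U hUV).hom.toAlgebra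
  haveI : Algebra.FiniteType Γ(Y, V) Γ(X, U) := f.finiteType_appLE hV hU hUV
  haveI : IsNoetherianRing Γ(Y, V) := IsLocallyNoetherian.component_noetherian ⟨V, hV⟩
  haveI : IsNoetherianRing Γ(X, U) := Algebra.FiniteType.isNoetherianRing Γ(Y, V) _
  obtain ⟨P, rfl⟩ := VarDim.exists_fromSpec_eq hU hxU
  obtain ⟨Q, rfl⟩ := VarDim.exists_fromSpec_eq hV (hy.mem_open V.isOpen hxV)
  have hQ : Q.asIdeal ≤ P.asIdeal.under Γ(Y, V) := by
    rw [fromSpec_comm f hV hU hUV] at hy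
    exact (VarDim.fromSpec_specializes_iff hV _ _).1 hy
  obtain ⟨t, ht⟩ := (le_rd_iff f hV hU hUV P _).1 le_rfl
  obtain ⟨R, hR, hRP, hRA, htR⟩ := exists_indepMod_below P.asIdeal (fun Q' hQ'p hQ' => by
    haveI := hQ'p
    have hs : hV.fromSpec ⟨Q', hQ'p⟩ ⤳ f (hU.fromSpec P) := by
      rw [fromSpec_comm f hV hU hUV]
      exact (VarDim.fromSpec_specializes_iff hV _ _).2 hQ'
    obtain ⟨ζ, hζ, hfζ⟩ := exists_generization_of_isOpenAt f h hs
    obtain ⟨R, rfl⟩ := VarDim.exists_fromSpec_eq hU (hζ.mem_open U.isOpen hxU)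
    refine ⟨R.asIdeal, R.isPrime, (VarDim.fromSpec_specializes_iff hU _ _).1 hζ, ?_⟩
    rw [fromSpec_comm f hV hU hUV] at hfζ
    exact congrArg PrimeSpectrum.asIdeal (hV.fromSpec.isOpenEmbedding.injective hfζ)) ht Q.asIdeal hQ
  refine ⟨hU.fromSpec ⟨R, hR⟩, (VarDim.fromSpec_specializes_iff hU _ _).2 hRP, ?_,
    (le_rd_iff f hV hU hUV ⟨R, hR⟩ _).2 ⟨t, htR⟩⟩
  rw [fromSpec_comm f hV hU hUV]
  exact congrArg hV.fromSpec (PrimeSpectrum.ext hRA)

/-- Over a valuation ring, relative degrees cannot drop towards the generic fibre. -/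
theorem rd_le_of_valuationRing {A : Type u} [CommRing A] [IsDomain A] [ValuationRing A]
    {X : Scheme.{u}} (f : X ⟶ Spec (CommRingCat.of A)) [LocallyOfFiniteType f] {η x : X} (h : η ⤳ x)
    (hη : ∀ y, f η ⤳ y) : rd f x ≤ rd f η := by
  obtain ⟨U, hU, hxU, hUV⟩ := exists_isAffineOpen_mem_and_subset (x := x) (U := f ⁻¹ᵁ ⊤) trivial
  have hV := isAffineOpen_top (Spec (CommRingCat.of A))
  obtain ⟨P, rfl⟩ := VarDim.exists_fromSpec_eq hU hxU
  obtain ⟨Q, rfl⟩ := VarDim.exists_fromSpec_eq hU (h.mem_open U.isOpen hxU)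
  letI : Algebra Γ(Spec (CommRingCat.of A), ⊤) Γ(X, U) := (f.appLE ⊤ U hUV).hom.toAlgebra
  let e : Γ(Spec (CommRingCat.of A), ⊤) ≃+* A :=
    (Scheme.ΓSpecIso (CommRingCat.of A)).commRingCatIsoToRingEquiv
  haveI : IsDomain Γ(Spec (CommRingCat.of A), ⊤) := e.toMulEquiv.isDomain
  haveI : ValuationRing Γ(Spec (CommRingCat.of A), ⊤) :=
    Function.Surjective.valuationRing e.symm.toRingHom e.symm.surjective
  obtain ⟨t, ht⟩ := (le_rd_iff f hV hU hUV P _).1 le_rfl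
  refine (le_rd_iff f hV hU hUV Q _).2
    ⟨t, indepMod_of_valuationRing ((VarDim.fromSpec_specializes_iff hU _ _).1 h) ?_ ht⟩
  have h0 : hV.fromSpec (PrimeSpectrum.comap (f.appLE ⊤ U hUV).hom Q) ⤳
      hV.fromSpec ⟨⊥, Ideal.isPrime_bot⟩ := by
    rw [← fromSpec_comm f hV hU hUV]; exact hη _
  exact le_bot_iff.1 ((VarDim.fromSpec_specializes_iff hV _ _).1 h0)

end Groth.Agent.FibDim
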