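import Groth.Agent.FibDim.Open
import Groth.Agent.ProConsLib.Basic
import Mathlib.AlgebraicGeometry.Morphisms.FinitePresentation

/-!
# Components of fibres; neighbourhoods from constructible sets containing all generizations
-/

set_option autoImplicit false
set_option linter.style.haveILetI false

open AlgebraicGeometry CategoryTheory Topology

namespace Groth.Agent.FibDim

universe u

theorem exists_maximal_generization {α : Type u} [TopologicalSpace α] [QuasiSober α] [T0Space α] (x : α) :
    ∃ η, η ⤳ x ∧ ∀ z, z ⤳ η → z = η := by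
  obtain ⟨η, he, hη⟩ := FDescent.exists_maximal_of_mem_irreducibleComponents
    (irreducibleComponent_mem_irreducibleComponents x)
  exact ⟨η, specializes_iff_mem_closure.2 (he ▸ mem_irreducibleComponent), hη⟩

variable {X Y : Scheme.{u}}

theorem isLocallyConstructible_inter [IsLocallyNoetherian X] {W Z : Set X} (hW : IsOpen W)
    (hZ : IsClosed Z) : IsLocallyConstructible (W ∩ Z) := by
  intro x
  obtain ⟨U, hU, hxU, -⟩ := exists_isAffineOpen_mem_and_subset (x := x) (U := ⊤) trivial
  obtain ⟨_, _, _, _⟩ := ProConsLib.spectral_opens hU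
  haveI : IsNoetherianRing Γ(X, U) := IsLocallyNoetherian.component_noetherian ⟨U, hU⟩
  haveI : IsAffine (U : Scheme.{u}) := hU
  haveI : IsNoetherian (U : Scheme.{u}) := { }
  haveI : TopologicalSpace.NoetherianSpace (U : Set X) :=
    inferInstanceAs (TopologicalSpace.NoetherianSpace (U : Scheme.{u}))
  have hop : ∀ O : Set X, IsOpen O → IsConstructible (Subtype.val ⁻¹' O : Set (U : Set X)) := fun O hO =>
    (TopologicalSpace.NoetherianSpace.isCompact _).isConstructible (hO.preimage continuous_subtype_val)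
  refine ⟨U, U.isOpen.mem_nhds hxU, U.isOpen, ?_⟩
  have := (hop W hW).inter (hop _ hZ.isOpen_compl).compl
  rwa [Set.preimage_compl, compl_compl] at this

theorem mem_nhds_of_generizations {C : Set Y} (hC : IsLocallyConstructible C) {y : Y}
    (h : ∀ y', y' ⤳ y → y' ∈ C) : C ∈ nhds y := by
  obtain ⟨V, hV, hyV, -⟩ := exists_isAffineOpen_mem_and_subset (x := y) (U := ⊤) trivial
  obtain ⟨_, _, _, _⟩ := ProConsLib.spectral_opens hV
  have hc : ProConsLib.ConsClosed (Subtype.val ⁻¹' C : Set (V : Set Y))ᶜ :=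
    ProConsLib.consClosed_of_isConstructible
      (hC.preimage_of_isOpenEmbedding V.isOpen.isOpenEmbedding_subtypeVal).isConstructible.compl
  have hn : (⟨y, hyV⟩ : (V : Set Y)) ∉ closure (Subtype.val ⁻¹' C : Set (V : Set Y))ᶜ := fun hmem => by
    obtain ⟨z, hz, hzy⟩ := hc.exists_specializes_of_mem_closure hmem
    exact hz (h z.1 (hzy.map continuous_subtype_val))
  obtain ⟨O, hO, hOy⟩ : ∃ O : Set Y, IsOpen O ∧ Subtype.val ⁻¹' O =
      ((closure (Subtype.val ⁻¹' C : Set (V : Set Y))ᶜ)ᶜ) :=
    isOpen_induced_iff.1 isClosed_closure.isOpen_compl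
  refine Filter.mem_of_superset ((hO.inter V.isOpen).mem_nhds ⟨?_, hyV⟩) fun z ⟨hz, hzV⟩ => ?_
  · exact hOy.ge hn
  · by_contra hzC
    exact (hOy.le (show (⟨z, hzV⟩ : (V : Set Y)) ∈ Subtype.val ⁻¹' O from hz)) (subset_closure hzC)

theorem image_mem_nhds [IsLocallyNoetherian Y] (f : X ⟶ Y) [LocallyOfFiniteType f] [QuasiCompact f]
    {L : Set X} (hL : IsLocallyConstructible L) {y : Y} (h : ∀ y', y' ⤳ y → y' ∈ f '' L) :
    f '' L ∈ nhds y := by
  haveI : LocallyOfFinitePresentation f := LocallyOfFinitePresentation.iff_locallyOfFiniteType.2 ‹_›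
  exact mem_nhds_of_generizations (f.isLocallyConstructible_image hL) h

variable (f : X ⟶ Y) [LocallyOfFiniteType f]

/-- Dimensions of the irreducible components of a fibre. -/
theorem fiber_component_dims (y : Y) :
    (fun Z : Set ↥(f.fiber y) => topologicalKrullDim ↥Z) '' irreducibleComponents ↥(f.fiber y) =
      (fun z => ((rd f z : ℕ∞) : WithBot ℕ∞)) '' {z : X | f z = y ∧ FibMax f z} := by
  ext d
  constructor
  · rintro ⟨Z, hZ, rfl⟩
    obtain ⟨w, rfl, hw⟩ := FDescent.exists_maximal_of_mem_irreducibleComponents hZ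
    refine ⟨f.fiberι y w, ⟨fiber_apply_fiberι f w, (fibMax_fiberι_iff f w).2 hw⟩, ?_⟩
    dsimp only
    rw [VarDim.topologicalKrullDim_closure_singleton (k := Y.residueField y)
      (f.fiberToSpecResidueField y), deg_fiber]
  · rintro ⟨z, ⟨hz, hmax⟩, rfl⟩
    obtain ⟨w, rfl⟩ : z ∈ Set.range (f.fiberι y) := by rw [Scheme.Hom.range_fiberι]; exact hz
    refine ⟨closure {w}, FDescent.closure_mem_irreducibleComponents ((fibMax_fiberι_iff f w).1 hmax), ?_⟩
    dsimp only
    rw [VarDim.topologicalKrullDim_closure_singleton (k := Y.residueField y)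
      (f.fiberToSpecResidueField y), deg_fiber]

theorem topologicalKrullDim_fiber_le_iff (y : Y) (n : ℕ) :
    topologicalKrullDim ↥(f.fiber y) ≤ n ↔ ∀ z, f z = y → rd f z ≤ n := by
  rw [topologicalKrullDim_fiber f, iSup_le_iff]
  exact ⟨fun h z hz => by exact_mod_cast h ⟨z, hz⟩, fun h z => by exact_mod_cast h z.1 z.2⟩

theorem topologicalKrullDim_fiber_mono {y y' : Y}
    (h : ∀ z, f z = y → ∃ z', f z' = y' ∧ rd f z ≤ rd f z') :
    topologicalKrullDim ↥(f.fiber y) ≤ topologicalKrullDim ↥(f.fiber y') := by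
  rw [topologicalKrullDim_fiber f, topologicalKrullDim_fiber f]
  refine iSup_le fun z => ?_
  obtain ⟨z', hz', hle⟩ := h z.1 z.2
  exact le_iSup_of_le ⟨z', hz'⟩ (by exact_mod_cast hle)

/-- With openness at the points of the fibre, the dimensions of the components of the fibre occur in
the fibre over any generization of the image. -/
theorem exists_fibMax_eq_of_isOpenAt [IsLocallyNoetherian Y] {z : X} (hz : FibMax f z)
    (h : EGA43.IsOpenAt f.base z) {y' : Y} (hy : y' ⤳ f z) :
    ∃ ζ, ζ ⤳ z ∧ f ζ = y' ∧ FibMax f ζ ∧ rd f ζ = rd f z := by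
  obtain ⟨ζ, hζ, hfζ, hle⟩ := exists_generization_rd_ge f h hy
  obtain ⟨w, hw, hfw, hmax, he⟩ := exists_fibMax_generization f ζ
  have h1 := rd_le_fibreDimAt f (specializes_refl ζ) rfl
  rw [he] at h1
  have h2 : rd f ζ ≤ rd f w := by exact_mod_cast h1
  obtain ⟨u, -, huz, hfu, hge⟩ := exists_rd_ge f (hw.trans hζ)
  rw [hz u huz hfu] at hge
  exact ⟨w, hw.trans hζ, hfw.trans hfζ, hmax, le_antisymm hge (hle.trans h2)⟩

end Groth.Agent.FibDim
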