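import Groth.Agent.FibDim.Minimal
import Groth.Agent.FibDim.Comp
import Groth.Agent.FBaseLib.Basic
import Groth.Prelude.Def_FDesc

/-!
# Dimensions and extensions of the base field
-/

set_option autoImplicit false
set_option linter.style.haveILetI false

open AlgebraicGeometry CategoryTheory Limits Topology

namespace Groth.Agent.FibDim

universe u

variable {X Y : Scheme.{u}}

section Subsingleton

variable (f : X ⟶ Y) [LocallyOfFiniteType f] [Subsingleton Y]

theorem topologicalKrullDim_eq_iSup_rd :
    topologicalKrullDim ↥X = ⨆ x : X, ((rd f x : ℕ∞) : WithBot ℕ∞) := by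
  rcases isEmpty_or_nonempty X with hX | ⟨⟨x⟩⟩
  · rw [VarDim.topologicalKrullDim_eq_iSup_height]
    exact le_antisymm (iSup_le fun z => isEmptyElim z) (iSup_le fun z => isEmptyElim z)
  · have he : (Set.univ : Set X) = f ⁻¹' {f x} :=
      (Set.eq_univ_of_forall fun z => Subsingleton.elim (f z) (f x)).symm
    let e : X ≃ₜ ↥(f ⁻¹' {f x}) := (Homeomorph.Set.univ X).symm.trans (Homeomorph.setCongr he)
    have h := dim_closed_inter_eq_iSup f (f x) (Z := Set.univ) isClosed_univ
    rw [Set.univ_inter] at h
    rw [e.isHomeomorph.topologicalKrullDim_eq, h]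
    exact (e.toEquiv.iSup_congr fun z => rfl).symm

theorem topologicalKrullDim_closure (x : X) :
    topologicalKrullDim ↥(closure ({x} : Set X)) = ((rd f x : ℕ∞) : WithBot ℕ∞) := by
  have he : closure ({x} : Set X) = closure {x} ∩ f ⁻¹' {f x} := by
    ext z
    exact ⟨fun h => ⟨h, Subsingleton.elim (f z) (f x)⟩, fun h => h.1⟩
  rw [(Homeomorph.setCongr he).isHomeomorph.topologicalKrullDim_eq, dim_closure_inter]

end Subsingleton

variable {X' Y' : Scheme.{u}} {p : X' ⟶ X} {q : X' ⟶ Y'} {f : X ⟶ Y} {g : Y' ⟶ Y}

/-- Base change between one-point schemes keeps the dimension. -/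
theorem topologicalKrullDim_baseChange [LocallyOfFiniteType f] [LocallyOfFiniteType q] [Subsingleton Y]
    [Subsingleton Y'] [Nonempty Y'] (h : IsPullback p q f g) :
    topologicalKrullDim ↥X' = topologicalKrullDim ↥X := by
  rw [topologicalKrullDim_eq_iSup_rd q, topologicalKrullDim_eq_iSup_rd f]
  refine le_antisymm (iSup_le fun z => le_iSup_of_le (p z) ?_) (iSup_le fun x => ?_)
  · exact_mod_cast rd_baseChange_le h z
  · obtain ⟨z, -, -, hz⟩ := exists_rd_baseChange_eq h x (Classical.arbitrary Y') (Subsingleton.elim _ _)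
    exact le_iSup_of_le z (by rw [hz])

theorem topologicalKrullDim_range_closed {T : Type u} [TopologicalSpace T] {S : Set T} (W : Set ↥S) :
    topologicalKrullDim ↥W = topologicalKrullDim ↥(Subtype.val '' W) :=
  ((IsEmbedding.subtypeVal.homeomorphImage W)).isHomeomorph.topologicalKrullDim_eq

/-- Components of the inverse image of a closed irreducible set keep its dimension. -/
theorem topologicalKrullDim_component_preimage [LocallyOfFiniteType f] [LocallyOfFiniteType q]
    [Subsingleton Y] [Subsingleton Y'] [Flat g] (h : IsPullback p q f g) (Z : Set X) (hZc : IsClosed Z)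
    (hZi : IsIrreducible Z) (W : Set ↥(p ⁻¹' Z)) (hW : W ∈ irreducibleComponents ↥(p ⁻¹' Z)) :
    topologicalKrullDim ↥W = topologicalKrullDim ↥Z := by
  haveI : Flat p := MorphismProperty.of_isPullback h.flip ‹Flat g›
  have hc : IsClosed (p ⁻¹' Z) := hZc.preimage p.continuous
  haveI : QuasiSober ↥(p ⁻¹' Z) := hc.isClosedEmbedding_subtypeVal.quasiSober
  obtain ⟨w, rfl, hw⟩ := FDescent.exists_maximal_of_mem_irreducibleComponents hW
  have hmax : ∀ v, v ⤳ w.1 → p v ∈ Z → v = w.1 := fun v hv hvZ =>
    congrArg Subtype.val (hw ⟨v, hvZ⟩ ((subtype_specializes_iff _ _).2 hv))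
  have hZ : closure {hZi.genericPoint} = Z := (hZi.isGenericPoint_genericPoint hZc).def
  obtain ⟨v, hv, hpv⟩ := Flat.generalizingMap p
    ((hZi.isGenericPoint_genericPoint hZc).specializes w.2)
  have hvw : v = w.1 := hmax v hv (by rw [hpv]; exact (hZi.isGenericPoint_genericPoint hZc).mem)
  have himg : Subtype.val '' closure ({w} : Set ↥(p ⁻¹' Z)) = closure {w.1} := by
    rw [← hc.isClosedEmbedding_subtypeVal.closure_image_eq, Set.image_singleton]
  rw [topologicalKrullDim_range_closed, himg, topologicalKrullDim_closure q,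
    ← (Homeomorph.setCongr hZ).isHomeomorph.topologicalKrullDim_eq, topologicalKrullDim_closure f, ← hpv, hvw,
    rd_baseChange_eq_of_minimal h w.1 fun u hu hpu _ => hmax u hu (by rw [hpu]; exact w.2)]

/-- The set of dimensions of components is invariant. -/
theorem component_dims_baseChange [LocallyOfFiniteType f] [LocallyOfFiniteType q] [Subsingleton Y]
    [Subsingleton Y'] [Flat g] [Surjective g] (h : IsPullback p q f g) :
    (fun Z : Set X' => topologicalKrullDim ↥Z) '' irreducibleComponents X' =
      (fun Z : Set X => topologicalKrullDim ↥Z) '' irreducibleComponents X := by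
  haveI : Flat p := MorphismProperty.of_isPullback h.flip ‹Flat g›
  haveI : Surjective p := MorphismProperty.of_isPullback h.flip ‹Surjective g›
  have key : ∀ w : X', (∀ v, v ⤳ w → v = w) →
      (∀ y, y ⤳ p w → y = p w) ∧ rd q w = rd f (p w) := fun w hw => by
    refine ⟨fun y hy => ?_, rd_baseChange_eq_of_minimal h w fun v hv _ _ => hw v hv⟩
    obtain ⟨v, hv, rfl⟩ := Flat.generalizingMap p hy
    rw [hw v hv]
  ext d
  constructor
  · rintro ⟨Z, hZ, rfl⟩
    obtain ⟨w, rfl, hw⟩ := FDescent.exists_maximal_of_mem_irreducibleComponents hZ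
    refine ⟨_, FDescent.closure_mem_irreducibleComponents (key w hw).1, ?_⟩
    dsimp only
    rw [topologicalKrullDim_closure f, topologicalKrullDim_closure q, (key w hw).2]
  · rintro ⟨Z, hZ, rfl⟩
    obtain ⟨η, rfl, hη⟩ := FDescent.exists_maximal_of_mem_irreducibleComponents hZ
    obtain ⟨w₀, rfl⟩ := p.surjective η
    obtain ⟨w, hww₀, hw⟩ := exists_maximal_generization w₀
    refine ⟨_, FDescent.closure_mem_irreducibleComponents hw, ?_⟩
    dsimp only
    rw [topologicalKrullDim_closure f, topologicalKrullDim_closure q, (key w hw).2,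
      hη (p w) (hww₀.map p.continuous)]

theorem subsingleton_spec_field (k : Type u) [Field k] : Subsingleton ↥(Spec (CommRingCat.of k)) :=
  inferInstanceAs (Subsingleton (PrimeSpectrum k))

/-- The dimension of the components of a product over a field. -/
theorem topologicalKrullDim_component_pullback [Subsingleton Y] [Flat f] [Flat g] [LocallyOfFiniteType f]
    [LocallyOfFiniteType g] [IsIntegral X] [IsIntegral Y'] (Z : Set ↥(pullback f g))
    (hZ : Z ∈ irreducibleComponents ↥(pullback f g)) :
    topologicalKrullDim ↥Z = topologicalKrullDim ↥X + topologicalKrullDim ↥Y' := by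
  obtain ⟨w, rfl, hw⟩ := FDescent.exists_maximal_of_mem_irreducibleComponents hZ
  have h1 : pullback.fst f g w = genericPoint X := by
    obtain ⟨v, hv, he⟩ := Flat.generalizingMap (pullback.fst f g)
      ((genericPoint_spec X).specializes (Set.mem_univ (pullback.fst f g w)))
    rw [← he, hw v hv]
  have h2 : pullback.snd f g w = genericPoint Y' := by
    obtain ⟨v, hv, he⟩ := Flat.generalizingMap (pullback.snd f g)
      ((genericPoint_spec Y').specializes (Set.mem_univ (pullback.snd f g w)))
    rw [← he, hw v hv]
  have hX : topologicalKrullDim ↥X = ((rd f (genericPoint X) : ℕ∞) : WithBot ℕ∞) := by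
    rw [← topologicalKrullDim_closure f, (genericPoint_spec X).def]
    exact (Homeomorph.Set.univ X).symm.isHomeomorph.topologicalKrullDim_eq
  have hY : topologicalKrullDim ↥Y' = ((rd g (genericPoint Y') : ℕ∞) : WithBot ℕ∞) := by
    rw [← topologicalKrullDim_closure g, (genericPoint_spec Y').def]
    exact (Homeomorph.Set.univ Y').symm.isHomeomorph.topologicalKrullDim_eq
  have h3 := rd_baseChange_eq_of_minimal (IsPullback.of_hasPullback f g).flip w fun v hv _ _ => hw v hv
  rw [topologicalKrullDim_closure (pullback.fst f g ≫ f), rd_comp, h3, hX, hY, h1, h2]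
  push_cast
  rfl

/-- The dimension of a product over a field. -/
theorem topologicalKrullDim_pullback [Subsingleton Y] [LocallyOfFiniteType f]
    [LocallyOfFiniteType g] :
    topologicalKrullDim ↥(pullback f g) = topologicalKrullDim ↥X + topologicalKrullDim ↥Y' := by
  rw [topologicalKrullDim_eq_iSup_rd (pullback.fst f g ≫ f), topologicalKrullDim_eq_iSup_rd f,
    topologicalKrullDim_eq_iSup_rd g]
  have h := (IsPullback.of_hasPullback f g).flip
  refine le_antisymm (iSup_le fun z => ?_) ?_
  · rw [rd_comp]
    push_cast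
    exact add_le_add (le_iSup_of_le (pullback.fst f g z) le_rfl)
      (le_iSup_of_le (pullback.snd f g z) (by exact_mod_cast rd_baseChange_le h z))
  · rcases isEmpty_or_nonempty X with hX | hX
    · simp
    rcases isEmpty_or_nonempty Y' with hY | hY
    · simp
    rw [← WithBot.coe_iSup (OrderTop.bddAbove _), ← WithBot.coe_iSup (OrderTop.bddAbove _),
      ← WithBot.coe_iSup (OrderTop.bddAbove _), ← WithBot.coe_add, WithBot.coe_le_coe]
    refine ENat.iSup_add_iSup_le fun x y => ?_
    obtain ⟨z, hz1, hz2, hz⟩ := exists_rd_baseChange_eq h y x (Subsingleton.elim _ _)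
    refine le_iSup_of_le z (le_of_eq ?_)
    rw [rd_comp, hz2, hz]
    push_cast
    rfl

end Groth.Agent.FibDim
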