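import Groth.Agent.FibDim.BaseChange
import Groth.Agent.VarDim.Fibre
import Mathlib.AlgebraicGeometry.Morphisms.UniversallyOpen
import Mathlib.RingTheory.RingHom.Flat
import Mathlib.RingTheory.Flat.TorsionFree

/-!
# Relative degree at the maximal points over given points, and additivity
-/

set_option autoImplicit false
set_option linter.style.haveILetI false

open AlgebraicGeometry CategoryTheory Limits Topology TensorProduct

namespace Groth.Agent.FibDim

universe u

section Field

/-- An algebraically independent family stays so modulo every minimal prime after field extension. -/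
theorem algebraicIndependent_mod_minimalPrime {k L K : Type u} [Field k] [Field L] [Field K] [Algebra k L]
    [Algebra k K] {n : ℕ} {t : Fin n → L} (ht : AlgebraicIndependent k t) {R : Ideal (K ⊗[k] L)}
    (hR : R ∈ minimalPrimes (K ⊗[k] L)) (H : MvPolynomial (Fin n) K)
    (hH : MvPolynomial.aeval (fun i => (1 : K) ⊗ₜ[k] t i) H ∈ R) : H = 0 := by
  by_contra hne
  let φ : MvPolynomial (Fin n) k →ₐ[k] L := MvPolynomial.aeval t
  have hφ : φ.Flat := by
    let k₀ := FractionRing (MvPolynomial (Fin n) k)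
    let g : k₀ →+* L := IsFractionRing.lift (A := MvPolynomial (Fin n) k) (g := φ.toRingHom)
      (algebraicIndependent_iff_injective_aeval.1 ht)
    have hg : g.comp (algebraMap _ k₀) = φ.toRingHom :=
      RingHom.ext fun G => IsFractionRing.lift_algebraMap (K := k₀) (algebraicIndependent_iff_injective_aeval.1 ht) G
    show φ.toRingHom.Flat
    rw [← hg]
    refine RingHom.Flat.comp ?_ (RingHom.Flat.of_isField (Field.toIsField _) g)
    rw [RingHom.flat_algebraMap_iff]
    exact IsLocalization.flat k₀ (nonZeroDivisors _)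
  let e := MvPolynomial.algebraTensorAlgEquiv k K (σ := Fin n)
  let Ψ : MvPolynomial (Fin n) K →ₐ[K] K ⊗[k] L :=
    (Algebra.TensorProduct.map (AlgHom.id K K) φ).comp e.symm.toAlgHom
  have hΨf : Ψ.Flat := by
    show RingHom.Flat ((Algebra.TensorProduct.map (AlgHom.id K K) φ).toRingHom.comp e.symm.toAlgHom.toRingHom)
    refine RingHom.Flat.comp (RingHom.Flat.of_bijective e.symm.bijective) ?_
    exact RingHom.Flat.tensorProductMap (RingHom.Flat.id K) hφ
  have hΨ : Ψ = MvPolynomial.aeval (fun i => (1 : K) ⊗ₜ[k] t i) := MvPolynomial.algHom_ext fun i => by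
    simp [Ψ, e, φ]
  letI := Ψ.toRingHom.toAlgebra
  haveI : Module.Flat (MvPolynomial (Fin n) K) (K ⊗[k] L) := hΨf
  have hreg : IsSMulRegular (K ⊗[k] L) H :=
    Module.Flat.isSMulRegular_of_nonZeroDivisors (mem_nonZeroDivisors_of_ne_zero hne)
  refine notMem_nonZeroDivisors_of_mem_mem_minimalPrimes hH hR (mem_nonZeroDivisors_iff_right.2 fun z hz => ?_)
  refine hreg (show H • z = H • (0 : K ⊗[k] L) from ?_)
  rw [smul_zero, Algebra.smul_def]
  show Ψ H * z = 0
  rw [hΨ, mul_comm]
  exact hz

variable {A B A' : Type u} [CommRing A] [CommRing B] [Algebra A B] [CommRing A'] [Algebra A A']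

/-- At a prime of the base change that is minimal over its two contractions, independent elements
stay independent. -/
theorem indepMod_baseChange_of_minimal (Q : Ideal (A' ⊗[A] B)) [Q.IsPrime]
    (hmin : ∀ Q₀ : Ideal (A' ⊗[A] B), Q₀.IsPrime → Q₀ ≤ Q → Q₀.under A' = Q.under A' →
      Q₀.comap (Algebra.TensorProduct.includeRight (R := A) (A := A')).toRingHom =
        Q.comap (Algebra.TensorProduct.includeRight (R := A) (A := A')).toRingHom → Q₀ = Q)
    {n : ℕ} {t : Fin n → B}
    (ht : IndepMod (A := A) t (Q.comap (Algebra.TensorProduct.includeRight (R := A) (A := A')).toRingHom)) :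
    IndepMod (A := A') (fun i => (1 : A') ⊗ₜ[A] t i) Q := by
  let ι : B →+* A' ⊗[A] B := (Algebra.TensorProduct.includeRight (R := A) (A := A')).toRingHom
  let P : Ideal B := Q.comap ι
  haveI : P.IsPrime := Ideal.IsPrime.comap _
  let p := P.under A
  let p' := Q.under A'
  have hincl : ∀ a : A, (1 : A') ⊗ₜ[A] algebraMap A B a = algebraMap A' (A' ⊗[A] B) (algebraMap A A' a) :=
    fun a => by
    rw [Algebra.TensorProduct.algebraMap_apply, Algebra.algebraMap_self, RingHom.id_apply,
      Algebra.algebraMap_eq_smul_one, Algebra.algebraMap_eq_smul_one, TensorProduct.smul_tmul]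
  have hpp : p = p'.comap (algebraMap A A') := by
    ext a
    simp only [p, p', P, ι, Ideal.mem_comap, Ideal.under, AlgHom.toRingHom_eq_coe, RingHom.coe_coe,
      Algebra.TensorProduct.includeRight_apply, hincl]
  let rk : p.ResidueField →+* p'.ResidueField := Ideal.ResidueField.map p p' (algebraMap A A') hpp
  have hrk : ∀ a, rk (algebraMap A p.ResidueField a) = algebraMap A' p'.ResidueField (algebraMap A A' a) :=
    fun a => Ideal.ResidueField.map_algebraMap _ _ _ hpp a
  let kP : p.ResidueField →+* P.ResidueField := Ideal.ResidueField.map p P (algebraMap A B) rfl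
  have hkP : ∀ a, kP (algebraMap A p.ResidueField a) = algebraMap B P.ResidueField (algebraMap A B a) :=
    fun a => Ideal.ResidueField.map_algebraMap _ _ _ rfl a
  let rK : p'.ResidueField →+* Q.ResidueField :=
    Ideal.ResidueField.map p' Q (algebraMap A' (A' ⊗[A] B)) rfl
  let rL : P.ResidueField →+* Q.ResidueField := Ideal.ResidueField.map P Q ι rfl
  letI : Algebra p.ResidueField p'.ResidueField := rk.toAlgebra
  letI : Algebra p.ResidueField P.ResidueField := kP.toAlgebra
  letI : Algebra p.ResidueField Q.ResidueField := (rK.comp rk).toAlgebra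
  have hcomm : ∀ c, rL (kP c) = rK (rk c) := fun c => by
    refine congrFun (congrArg DFunLike.coe (Ideal.ResidueField.ringHom_ext (f := rL.comp kP)
      (g := rK.comp rk) ?_)) c
    ext a
    simp only [RingHom.comp_apply, hkP, hrk, rL, rK, Ideal.ResidueField.map_algebraMap]
    exact congrArg _ (hincl a)
  let ρ : p'.ResidueField ⊗[p.ResidueField] P.ResidueField →ₐ[p.ResidueField] Q.ResidueField :=
    Algebra.TensorProduct.lift ({ rK with commutes' := fun _ => rfl } : p'.ResidueField →ₐ[p.ResidueField] _)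
      ({ rL with commutes' := hcomm } : P.ResidueField →ₐ[p.ResidueField] _) fun x y => mul_comm (rK x) (rL y)
  haveI : (RingHom.ker ρ.toRingHom).IsPrime := RingHom.ker_isPrime _
  obtain ⟨R, hR, hRle⟩ := Ideal.exists_minimalPrimes_le
    (bot_le : (⊥ : Ideal (p'.ResidueField ⊗[p.ResidueField] P.ResidueField)) ≤ RingHom.ker ρ.toRingHom)
  haveI : R.IsPrime := hR.1.1
  obtain ⟨Ω, hΩ, τ, hτ⟩ : ∃ (Ω : Type u) (_ : Field Ω)
      (τ : p'.ResidueField ⊗[p.ResidueField] P.ResidueField →+* Ω), RingHom.ker τ = R :=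
    ⟨R.ResidueField, inferInstance, algebraMap _ _, Ideal.ker_algebraMap_residueField R⟩
  let Φ₁ : A' →+* Ω :=
    (τ.comp Algebra.TensorProduct.includeLeftRingHom).comp (algebraMap A' p'.ResidueField)
  let Φ₂ : B →+* Ω :=
    (τ.comp (Algebra.TensorProduct.includeRight (R := p.ResidueField) (A := p'.ResidueField)).toRingHom).comp
      (algebraMap B P.ResidueField)
  have hkey : ∀ c : p.ResidueField, algebraMap p.ResidueField p'.ResidueField c ⊗ₜ[p.ResidueField] (1 : P.ResidueField) =
      (1 : p'.ResidueField) ⊗ₜ[p.ResidueField] algebraMap p.ResidueField P.ResidueField c := fun c => by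
    rw [Algebra.algebraMap_eq_smul_one, Algebra.algebraMap_eq_smul_one, TensorProduct.smul_tmul]
  have hcompat : ∀ a : A, Φ₁ (algebraMap A A' a) = Φ₂ (algebraMap A B a) := fun a => by
    show τ (algebraMap A' p'.ResidueField _ ⊗ₜ (1 : P.ResidueField)) = τ ((1 : p'.ResidueField) ⊗ₜ _)
    rw [← hrk, ← hkP]
    show τ (algebraMap p.ResidueField p'.ResidueField _ ⊗ₜ (1 : P.ResidueField)) =
      τ ((1 : p'.ResidueField) ⊗ₜ algebraMap p.ResidueField P.ResidueField _)
    exact congrArg τ (hkey _)
  letI : Algebra A Ω := (Φ₂.comp (algebraMap A B)).toAlgebra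
  let Φ : A' ⊗[A] B →ₐ[A] Ω := Algebra.TensorProduct.lift
    ({ Φ₁ with commutes' := hcompat } : A' →ₐ[A] Ω)
    ({ Φ₂ with commutes' := fun _ => rfl } : B →ₐ[A] Ω) fun x y => mul_comm (Φ₁ x) (Φ₂ y)
  have hΦ1 : ∀ a, Φ.toRingHom (algebraMap A' (A' ⊗[A] B) a) = Φ₁ a := fun a => by
    show Φ (algebraMap A' (A' ⊗[A] B) a) = _
    rw [Algebra.TensorProduct.algebraMap_apply, Algebra.algebraMap_self, RingHom.id_apply,
      Algebra.TensorProduct.lift_tmul, map_one, mul_one]
    rfl
  have hΦ2 : ∀ b, Φ.toRingHom ((1 : A') ⊗ₜ[A] b) = Φ₂ b := fun b => by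
    show Φ ((1 : A') ⊗ₜ[A] b) = _
    rw [Algebra.TensorProduct.lift_tmul, map_one, one_mul]
    rfl
  -- `ρ` sends the image of `z` to its class in the residue field of `Q`
  let θ : A' ⊗[A] B → p'.ResidueField ⊗[p.ResidueField] P.ResidueField → Prop :=
    fun z w => Φ z = τ w ∧ ρ w = algebraMap _ Q.ResidueField z
  have hθ : ∀ z, ∃ w, θ z w := fun z => by
    induction z using TensorProduct.induction_on with
    | zero => exact ⟨0, by simp, by simp⟩
    | add x y hx hy =>
      obtain ⟨v, hv⟩ := hx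
      obtain ⟨w, hw⟩ := hy
      exact ⟨v + w, by rw [map_add, map_add, hv.1, hw.1], by rw [map_add, map_add, hv.2, hw.2]⟩
    | tmul a b =>
      refine ⟨algebraMap A' p'.ResidueField a ⊗ₜ algebraMap B P.ResidueField b, ?_, ?_⟩
      · rw [Algebra.TensorProduct.lift_tmul]
        show τ (_ ⊗ₜ (1 : P.ResidueField)) * τ ((1 : p'.ResidueField) ⊗ₜ _) = _
        rw [← map_mul, Algebra.TensorProduct.tmul_mul_tmul, mul_one, one_mul]
      · rw [Algebra.TensorProduct.lift_tmul]
        show rK (algebraMap A' p'.ResidueField a) * rL (algebraMap B P.ResidueField b) = _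
        rw [show rK _ = _ from Ideal.ResidueField.map_algebraMap _ _ _ rfl a,
          show rL _ = _ from Ideal.ResidueField.map_algebraMap _ _ _ rfl b, ← map_mul]
        show algebraMap _ Q.ResidueField (algebraMap A' (A' ⊗[A] B) a * (1 : A') ⊗ₜ[A] b) = _
        rw [Algebra.TensorProduct.algebraMap_apply, Algebra.algebraMap_self, RingHom.id_apply,
          Algebra.TensorProduct.tmul_mul_tmul, mul_one, one_mul]
  have hle : RingHom.ker Φ.toRingHom ≤ Q := fun z hz => by
    obtain ⟨w, hw1, hw2⟩ := hθ z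
    have hw : w ∈ R := hτ.le (hw1.symm.trans hz)
    exact Ideal.algebraMap_residueField_eq_zero.1 (hw2.symm.trans (hRle hw))
  have hinj₁ : Function.Injective (τ.comp Algebra.TensorProduct.includeLeftRingHom) := RingHom.injective _
  have hinj₂ : Function.Injective
      (τ.comp (Algebra.TensorProduct.includeRight (R := p.ResidueField) (A := p'.ResidueField)).toRingHom :
        P.ResidueField →+* Ω) := RingHom.injective _
  have hQ : RingHom.ker Φ.toRingHom = Q := by
    refine hmin _ (RingHom.ker_isPrime _) hle ?_ ?_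
    · ext a
      rw [Ideal.mem_comap, RingHom.mem_ker, hΦ1]
      simp only [Φ₁, RingHom.comp_apply]
      rw [← RingHom.comp_apply, map_eq_zero_iff _ hinj₁, Ideal.algebraMap_residueField_eq_zero]
    · ext b
      rw [Ideal.mem_comap, RingHom.mem_ker]
      show Φ.toRingHom ((1 : A') ⊗ₜ[A] b) = 0 ↔ b ∈ P
      rw [hΦ2]
      simp only [Φ₂, RingHom.comp_apply]
      rw [← RingHom.comp_apply, map_eq_zero_iff _ hinj₂, Ideal.algebraMap_residueField_eq_zero]
  have hindP : AlgebraicIndependent p.ResidueField (fun i => algebraMap B P.ResidueField (t i)) :=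
    (indepMod_iff_algebraicIndependent p (algebraMap B P.ResidueField) (fun a => (hkP a).symm) t).1
      (by rw [Ideal.ker_algebraMap_residueField]; exact ht)
  letI : Algebra p'.ResidueField Ω := (τ.comp Algebra.TensorProduct.includeLeftRingHom).toAlgebra
  rw [← hQ]
  refine (indepMod_iff_algebraicIndependent p' Φ.toRingHom (fun a => (hΦ1 a).trans rfl) _).2 ?_
  rw [algebraicIndependent_iff]
  intro H hH
  have he : ∀ G : MvPolynomial (Fin n) p'.ResidueField,
      MvPolynomial.aeval (fun i => Φ.toRingHom ((1 : A') ⊗ₜ[A] t i)) G =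
        τ (MvPolynomial.aeval (fun i => (1 : p'.ResidueField) ⊗ₜ[p.ResidueField]
          algebraMap B P.ResidueField (t i)) G) := fun G => by
    induction G using MvPolynomial.induction_on with
    | C a => rw [MvPolynomial.aeval_C, MvPolynomial.aeval_C]; rfl
    | add G H hG hH => rw [map_add, map_add, map_add, hG, hH]
    | mul_X G i hG =>
      rw [map_mul, map_mul, map_mul, hG, MvPolynomial.aeval_X, MvPolynomial.aeval_X, hΦ2]
      rfl
  rw [he] at hH
  exact algebraicIndependent_mod_minimalPrime hindP hR H (hτ.le hH)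

end Field

section Scheme

variable {X Y X' Y' Z : Scheme.{u}} {p : X' ⟶ X} {q : X' ⟶ Y'} {f : X ⟶ Y} {g : Y' ⟶ Y}

/-- At a point of a fibre product that is maximal over its two images, relative degree is preserved. -/
theorem rd_baseChange_eq_of_minimal [LocallyOfFiniteType f] [LocallyOfFiniteType q] (h : IsPullback p q f g)
    (x' : X') (hmin : ∀ w, w ⤳ x' → p w = p x' → q w = q x' → w = x') : rd q x' = rd f (p x') := by
  refine le_antisymm (rd_baseChange_le h x') ?_
  obtain ⟨V, hV, hxV, -⟩ := exists_isAffineOpen_mem_and_subset (x := f (p x')) (U := ⊤) trivial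
  obtain ⟨U, hU, hxU, hUV⟩ := exists_isAffineOpen_mem_and_subset (x := p x') (U := f ⁻¹ᵁ V) hxV
  have hgq : q x' ∈ g ⁻¹ᵁ V := by
    show (q ≫ g) x' ∈ V
    rw [← h.w]
    exact hxV
  obtain ⟨V', hV', hyV', hV'V⟩ := exists_isAffineOpen_mem_and_subset (x := q x') (U := g ⁻¹ᵁ V) hgq
  obtain ⟨j, hj, hjq, hjp, hrange⟩ := exists_chart h hV hU hUV hV' hV'V
  letI := (f.appLE V U hUV).hom.toAlgebra
  letI := (g.appLE V V' hV'V).hom.toAlgebra
  haveI : Algebra.FiniteType Γ(Y, V) Γ(X, U) := f.finiteType_appLE hV hU hUV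
  obtain ⟨Q, rfl⟩ := hrange x' hyV' hxU
  have hpj : ∀ R : PrimeSpectrum _, p (j R) = hU.fromSpec (PrimeSpectrum.comap
      (Algebra.TensorProduct.includeRight (R := Γ(Y, V)) (A := Γ(Y', V'))).toRingHom R) := fun R => by
    show (j ≫ p) R = _
    rw [hjp]
    rfl
  have hqj : ∀ R : PrimeSpectrum _, q (j R) = hV'.fromSpec (PrimeSpectrum.comap
      (algebraMap Γ(Y', V') (Γ(Y', V') ⊗[Γ(Y, V)] Γ(X, U))) R) := fun R => by
    show (j ≫ q) R = _
    rw [hjq]
    rfl
  let ι : Γ(X, U) →+* Γ(Y', V') ⊗[Γ(Y, V)] Γ(X, U) :=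
    (Algebra.TensorProduct.includeRight (R := Γ(Y, V)) (A := Γ(Y', V'))).toRingHom
  let P : PrimeSpectrum Γ(X, U) := PrimeSpectrum.comap ι Q
  rw [hpj Q]
  show rd f (hU.fromSpec P) ≤ _
  obtain ⟨t, ht⟩ := (le_rd_iff f hV hU hUV P (rd f (hU.fromSpec P))).1 le_rfl
  refine (le_rd_iff' q hV'.fromSpec j hjq Q (rd f (hU.fromSpec P))).2 ⟨fun i => (1 : Γ(Y', V')) ⊗ₜ t i, ?_⟩
  refine indepMod_baseChange_of_minimal Q.asIdeal (fun Q₀ hQ₀ hle h1 h2 => ?_) ht
  refine congrArg PrimeSpectrum.asIdeal (j.isOpenEmbedding.injective (hmin (j (⟨Q₀, hQ₀⟩ : PrimeSpectrum _))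
    ?_ ?_ ?_))
  · exact ((PrimeSpectrum.le_iff_specializes ⟨Q₀, hQ₀⟩ Q).1 hle).map j.continuous
  · rw [hpj, hpj]
    exact congrArg hU.fromSpec (PrimeSpectrum.ext h2)
  · rw [hqj, hqj]
    exact congrArg hV'.fromSpec (PrimeSpectrum.ext h1)

/-- `rd` is the transcendence degree of the extension of residue fields. -/
theorem rd_eq_rdeg (f : X ⟶ Y) [LocallyOfFiniteType f] (x : X) : (rd f x : Cardinal) = VarDim.rdeg f x := by
  have h := VarDim.rdeg_congr (f.fiber_fac (f x)) (f.asFiber x)
  rw [VarDim.rdeg_comp, VarDim.rdeg_comp, VarDim.rdeg_preimmersion (f.fiberι (f x)),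
    VarDim.rdeg_preimmersion (Y.fromSpecResidueField (f x)), add_zero, zero_add,
    ← VarDim.tdeg_eq_rdeg (k := Y.residueField (f x)),
    ← VarDim.deg_eq_tdeg (k := Y.residueField (f x))] at h
  rw [rd, ← h, Scheme.Hom.fiberι_asFiber]

/-- Relative degrees add up in compositions. -/
theorem rd_comp (f : X ⟶ Y) (g : Y ⟶ Z) [LocallyOfFiniteType f] [LocallyOfFiniteType g] (x : X) :
    rd (f ≫ g) x = rd g (f x) + rd f x := by
  have h := VarDim.rdeg_comp f g x
  rw [← rd_eq_rdeg, ← rd_eq_rdeg, ← rd_eq_rdeg] at h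
  exact_mod_cast h

end Scheme

end Groth.Agent.FibDim
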