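import Groth.Agent.FibDim.Open
import Mathlib.AlgebraicGeometry.Pullbacks

/-!
# Relative degree and base change
-/

set_option autoImplicit false
set_option linter.style.haveILetI false

open AlgebraicGeometry CategoryTheory Limits Topology TensorProduct

namespace Groth.Agent.FibDim

universe u

section Alg

variable {A B A' : Type u} [CommRing A] [CommRing B] [Algebra A B] [CommRing A'] [Algebra A A']

/-- Independence modulo `P` is algebraic independence over `κ(p)` in any field receiving `B/P`. -/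
theorem indepMod_iff_algebraicIndependent (p : Ideal A) [p.IsPrime] {Ω : Type u} [Field Ω]
    [Algebra p.ResidueField Ω] (Φ : B →+* Ω)
    (hΦ : ∀ a, Φ (algebraMap A B a) = algebraMap p.ResidueField Ω (algebraMap A p.ResidueField a))
    {n : ℕ} (t : Fin n → B) :
    IndepMod (A := A) t (RingHom.ker Φ) ↔ AlgebraicIndependent p.ResidueField (fun i => Φ (t i)) := by
  have hp : (RingHom.ker Φ).under A = p := by
    ext a
    simp [Ideal.mem_comap, RingHom.mem_ker, hΦ, Ideal.algebraMap_residueField_eq_zero]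
  have key : ∀ G : MvPolynomial (Fin n) A, Φ (MvPolynomial.aeval t G) =
      MvPolynomial.aeval (fun i => Φ (t i)) (MvPolynomial.map (algebraMap A p.ResidueField) G) := by
    intro G
    induction G using MvPolynomial.induction_on with
    | C a => simp [hΦ]
    | add G H hG hH => simp [map_add, hG, hH]
    | mul_X G i hG => simp [map_mul, hG]
  rw [algebraicIndependent_iff]
  constructor
  · intro h H hH
    obtain ⟨s, hs, G, hG⟩ := exists_C_mul_mem_range p H
    have h1 : MvPolynomial.aeval t G ∈ RingHom.ker Φ := by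
      rw [RingHom.mem_ker, key, ← hG, map_mul, hH, mul_zero]
    have h2 : MvPolynomial.map (algebraMap A p.ResidueField) G = 0 := by
      ext d
      rw [MvPolynomial.coeff_map, MvPolynomial.coeff_zero, Ideal.algebraMap_residueField_eq_zero]
      have := MvPolynomial.mem_map_C_iff.1 (h G h1) d
      rwa [hp] at this
    rw [h2] at hG
    exact ((Ne.isUnit (by simpa using hs)).map MvPolynomial.C).mul_right_eq_zero.1 hG
  · intro h G hG
    have h2 := h _ ((key G).symm.trans (RingHom.mem_ker.1 hG))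
    rw [MvPolynomial.mem_map_C_iff, hp]
    intro d
    have := congrArg (MvPolynomial.coeff d) h2
    rwa [MvPolynomial.coeff_map, MvPolynomial.coeff_zero, Ideal.algebraMap_residueField_eq_zero] at this

/-- Two extensions of a field embed into a common one. -/
theorem exists_fieldCompositum (k L K : Type u) [Field k] [Field L] [Field K] [Algebra k L] [Algebra k K] :
    ∃ (Ω : Type u) (_ : Field Ω) (eL : L →+* Ω) (eK : K →+* Ω),
      ∀ c, eL (algebraMap k L c) = eK (algebraMap k K c) := by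
  have h : Function.Injective (Algebra.TensorProduct.includeLeft (R := k) (S := k) (A := L) (B := K)) :=
    Algebra.TensorProduct.includeLeft_injective (algebraMap k K).injective
  haveI : Nontrivial (L ⊗[k] K) := h.nontrivial
  obtain ⟨M, hM⟩ := Ideal.exists_maximal (L ⊗[k] K)
  haveI := hM
  letI := Ideal.Quotient.field M
  refine ⟨(L ⊗[k] K) ⧸ M, inferInstance,
    (Ideal.Quotient.mk M).comp (Algebra.TensorProduct.includeLeftRingHom (R := k) (B := K)),
    (Ideal.Quotient.mk M).comp (Algebra.TensorProduct.includeRight (R := k) (A := L)).toRingHom, fun c => ?_⟩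
  show Ideal.Quotient.mk M (algebraMap k L c ⊗ₜ[k] (1 : K)) =
    Ideal.Quotient.mk M ((1 : L) ⊗ₜ[k] algebraMap k K c)
  rw [Algebra.algebraMap_eq_smul_one, Algebra.algebraMap_eq_smul_one, TensorProduct.smul_tmul]

theorem finite_tensorMap {k K F : Type u} [Field k] [Field K] [Algebra k K] [CommRing F] [Algebra k F]
    {n : ℕ} (ψ : MvPolynomial (Fin n) k →ₐ[k] F) (hψ : ψ.Finite) :
    ((Algebra.TensorProduct.map (AlgHom.id K K) ψ).comp
      (MvPolynomial.algebraTensorAlgEquiv k K).symm.toAlgHom).Finite := by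
  refine AlgHom.Finite.comp ?_ (AlgHom.Finite.of_surjective _ (AlgEquiv.surjective _))
  have h : (Algebra.TensorProduct.map (AlgHom.id k K) ψ).toRingHom.Finite :=
    RingHom.Finite.tensorProductMap (f := AlgHom.id k K) (RingHom.Finite.id K : (AlgHom.id k K).toRingHom.Finite) hψ
  exact h

theorem ringKrullDim_le_of_finite {K G : Type u} [Field K] [CommRing G] [Algebra K G] {n : ℕ}
    (ω : MvPolynomial (Fin n) K →ₐ[K] G) (hω : ω.Finite) : ringKrullDim G ≤ n := by
  letI := ω.toRingHom.toAlgebra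
  haveI : Module.Finite (MvPolynomial (Fin n) K) G := hω
  refine (Order.krullDim_le_of_strictMono _
    (VarDim.strictMono_comap_of_isIntegral (R := MvPolynomial (Fin n) K) (S := G))).trans (le_of_eq ?_)
  show ringKrullDim _ = _
  rw [MvPolynomial.ringKrullDim_of_isNoetherianRing, ringKrullDim_eq_zero_of_field, zero_add]
  simp

theorem isDomain_fiber_quotient (P : Ideal B) [P.IsPrime] : IsDomain ((P.under A).Fiber (B ⧸ P)) :=
  isDomain_fiber_of_ker_eq _ (by
    rw [IsScalarTower.algebraMap_eq A B (B ⧸ P), ← RingHom.comap_ker, Ideal.Quotient.algebraMap_eq,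
      Ideal.mk_ker])

/-- Relative degree does not go up under base change. -/
theorem dim_fiber_quotient_baseChange_le [Algebra.FiniteType A B] (Q : Ideal (A' ⊗[A] B)) [Q.IsPrime]
    {m : ℕ} (t' : Fin m → A' ⊗[A] B) (ht' : IndepMod (A := A') t' Q) :
    (m : WithBot ℕ∞) ≤ ringKrullDim (((Q.comap (Algebra.TensorProduct.includeRight (R := A) (A := A')).toRingHom).under A).Fiber
        (B ⧸ Q.comap (Algebra.TensorProduct.includeRight (R := A) (A := A')).toRingHom)) := by
  let Φ : A' ⊗[A] B →+* Q.ResidueField := algebraMap _ _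
  have hkerΦ : RingHom.ker Φ = Q := Ideal.ker_algebraMap_residueField Q
  let Φ₂ : B →+* Q.ResidueField :=
    Φ.comp (Algebra.TensorProduct.includeRight (R := A) (A := A')).toRingHom
  let P : Ideal B := Q.comap (Algebra.TensorProduct.includeRight (R := A) (A := A')).toRingHom
  show (m : WithBot ℕ∞) ≤ ringKrullDim ((P.under A).Fiber (B ⧸ P))
  haveI : P.IsPrime := Ideal.IsPrime.comap _
  have hkerΦ₂ : RingHom.ker Φ₂ = P := by rw [← RingHom.comap_ker, hkerΦ]
  set p := P.under A with hp
  set p' := Q.under A' with hp'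
  have hincl : ∀ a : A, (1 : A') ⊗ₜ[A] algebraMap A B a = algebraMap A' (A' ⊗[A] B) (algebraMap A A' a) :=
    fun a => by
    rw [Algebra.TensorProduct.algebraMap_apply, Algebra.algebraMap_self, RingHom.id_apply,
      Algebra.algebraMap_eq_smul_one, Algebra.algebraMap_eq_smul_one, TensorProduct.smul_tmul]
  let rK : p'.ResidueField →+* Q.ResidueField :=
    Ideal.ResidueField.map p' Q (algebraMap A' (A' ⊗[A] B)) rfl
  have hrK : ∀ a, rK (algebraMap A' p'.ResidueField a) = Φ (algebraMap A' (A' ⊗[A] B) a) := fun a =>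
    Ideal.ResidueField.map_algebraMap _ _ _ rfl a
  letI : Algebra p'.ResidueField Q.ResidueField := rK.toAlgebra
  have hpp : p = p'.comap (algebraMap A A') := by
    ext a
    simp only [p, p', P, Ideal.mem_comap, Ideal.under, AlgHom.toRingHom_eq_coe, RingHom.coe_coe,
      Algebra.TensorProduct.includeRight_apply, hincl]
  let rk : p.ResidueField →+* p'.ResidueField := Ideal.ResidueField.map p p' (algebraMap A A') hpp
  letI : Algebra p.ResidueField p'.ResidueField := rk.toAlgebra
  haveI : IsDomain (p.Fiber (B ⧸ P)) := isDomain_fiber_quotient P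
  obtain ⟨n, ψ, hinj, hfin⟩ := exists_finite_inj_algHom_of_fg p.ResidueField (p.Fiber (B ⧸ P))
  have hn : ringKrullDim (p.Fiber (B ⧸ P)) = n := by
    letI := ψ.toRingHom.toAlgebra
    haveI : Module.Finite (MvPolynomial (Fin n) p.ResidueField) (p.Fiber (B ⧸ P)) := hfin
    haveI : FaithfulSMul (MvPolynomial (Fin n) p.ResidueField) (p.Fiber (B ⧸ P)) :=
      (faithfulSMul_iff_algebraMap_injective _ _).mpr hinj
    rw [VarDim.ringKrullDim_eq_of_isIntegral (R := MvPolynomial (Fin n) p.ResidueField),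
      MvPolynomial.ringKrullDim_of_isNoetherianRing, ringKrullDim_eq_zero_of_field, zero_add]
    simp
  rw [hn]
  -- everything maps to the residue field of `Q`
  let φk : p.ResidueField →ₐ[A] Q.ResidueField :=
    { rK.comp rk with
      commutes' := fun a => by
        show rK (rk (algebraMap A p.ResidueField a)) = _
        rw [show rk (algebraMap A p.ResidueField a) = algebraMap A' p'.ResidueField (algebraMap A A' a) from
          Ideal.ResidueField.map_algebraMap _ _ _ hpp a, hrK, ← IsScalarTower.algebraMap_apply A A',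
          ← IsScalarTower.algebraMap_apply A (A' ⊗[A] B) Q.ResidueField] }
  let φB : B ⧸ P →ₐ[A] Q.ResidueField :=
    { Ideal.Quotient.lift P Φ₂ (fun b hb => RingHom.mem_ker.1 (hkerΦ₂.ge hb)) with
      commutes' := fun a => by
        show Φ ((1 : A') ⊗ₜ[A] algebraMap A B a) = _
        rw [hincl, ← IsScalarTower.algebraMap_apply A A',
          ← IsScalarTower.algebraMap_apply A (A' ⊗[A] B) Q.ResidueField] }
  let γ : p.Fiber (B ⧸ P) →ₐ[A] Q.ResidueField :=
    Algebra.TensorProduct.lift φk φB fun x y => mul_comm (φk x) (φB y)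
  have hγ1 : ∀ c, γ (c ⊗ₜ[A] (1 : B ⧸ P)) = rK (rk c) := fun c => by
    rw [Algebra.TensorProduct.lift_tmul, map_one, mul_one]
    rfl
  have hγ2 : ∀ b : B, γ ((1 : p.ResidueField) ⊗ₜ[A] Ideal.Quotient.mk P b) = Φ₂ b := fun b => by
    rw [Algebra.TensorProduct.lift_tmul, map_one, one_mul]
    rfl
  letI : Algebra p.ResidueField Q.ResidueField := (rK.comp rk).toAlgebra
  haveI : IsScalarTower p.ResidueField p'.ResidueField Q.ResidueField :=
    IsScalarTower.of_algebraMap_eq fun _ => rfl
  let γ' : p.Fiber (B ⧸ P) →ₐ[p.ResidueField] Q.ResidueField :=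
    { γ.toRingHom with commutes' := fun c => hγ1 c }
  let χ : p'.ResidueField ⊗[p.ResidueField] p.Fiber (B ⧸ P) →ₐ[p'.ResidueField] Q.ResidueField :=
    Algebra.TensorProduct.lift (Algebra.ofId _ _) γ' fun x y =>
      mul_comm (Algebra.ofId p'.ResidueField Q.ResidueField x) (γ' y)
  have hdim : ringKrullDim χ.range ≤ n := by
    refine ringKrullDim_le_of_finite (χ.rangeRestrict.comp
      ((Algebra.TensorProduct.map (AlgHom.id p'.ResidueField p'.ResidueField) ψ).comp
      (MvPolynomial.algebraTensorAlgEquiv p.ResidueField p'.ResidueField).symm.toAlgHom)) ?_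
    exact (AlgHom.Finite.of_surjective _ χ.rangeRestrict_surjective).comp (finite_tensorMap ψ hfin)
  haveI : Algebra.FiniteType p'.ResidueField χ.range :=
    Algebra.FiniteType.of_surjective χ.rangeRestrict χ.rangeRestrict_surjective
  obtain ⟨e, hde, htr⟩ := VarDim.exists_dim_eq_trdeg (k := p'.ResidueField) χ.range
  have hmem : ∀ w : A' ⊗[A] B, Φ w ∈ χ.range := fun w => by
    induction w using TensorProduct.induction_on with
    | zero => rw [map_zero]; exact Subalgebra.zero_mem _
    | add x y hx hy => rw [map_add]; exact Subalgebra.add_mem _ hx hy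
    | tmul a b =>
      refine ⟨algebraMap A' p'.ResidueField a ⊗ₜ[p.ResidueField]
        ((1 : p.ResidueField) ⊗ₜ[A] Ideal.Quotient.mk P b), ?_⟩
      show χ _ = _
      rw [Algebra.TensorProduct.lift_tmul]
      show rK (algebraMap A' p'.ResidueField a) * γ ((1 : p.ResidueField) ⊗ₜ[A] Ideal.Quotient.mk P b) = _
      rw [hγ2, hrK]
      show Φ _ * Φ _ = _
      rw [← map_mul, Algebra.TensorProduct.algebraMap_apply, Algebra.algebraMap_self, RingHom.id_apply]
      show Φ (a ⊗ₜ[A] (1 : B) * (1 : A') ⊗ₜ[A] b) = _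
      rw [Algebra.TensorProduct.tmul_mul_tmul, mul_one, one_mul]
  have hind : AlgebraicIndependent p'.ResidueField (fun i => Φ (t' i)) :=
    (indepMod_iff_algebraicIndependent p' Φ (fun a => (hrK a).symm) t').1 (by rw [hkerΦ]; exact ht')
  have hind' : AlgebraicIndependent p'.ResidueField (fun i => (⟨Φ (t' i), hmem _⟩ : χ.range)) :=
    AlgebraicIndependent.of_comp χ.range.val hind
  have h1 := hind'.lift_cardinalMk_le_trdeg
  rw [Cardinal.mk_fin, htr, Cardinal.lift_natCast, Cardinal.lift_natCast] at h1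
  have h2 : (m : WithBot ℕ∞) ≤ e := by exact_mod_cast h1
  exact h2.trans (hde ▸ hdim)

/-- Independent elements stay independent modulo a prime of the base change above a given one. -/
theorem exists_indepMod_baseChange (P : Ideal B) [P.IsPrime] {n : ℕ}
    {t : Fin n → B} (ht : IndepMod (A := A) t P) (p' : Ideal A') [p'.IsPrime]
    (hp' : p'.under A = P.under A) :
    ∃ Q : Ideal (A' ⊗[A] B), Q.IsPrime ∧ Q.under A' = p' ∧
      Q.comap (Algebra.TensorProduct.includeRight (R := A) (A := A')).toRingHom = P ∧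
      IndepMod (A := A') (fun i => (1 : A') ⊗ₜ[A] t i) Q := by
  set p := P.under A with hp
  let kP : p.ResidueField →+* P.ResidueField := Ideal.ResidueField.map p P (algebraMap A B) rfl
  have hkP : ∀ a, kP (algebraMap A p.ResidueField a) = algebraMap B P.ResidueField (algebraMap A B a) :=
    fun a => Ideal.ResidueField.map_algebraMap _ _ _ rfl a
  letI : Algebra p.ResidueField P.ResidueField := kP.toAlgebra
  let rk : p.ResidueField →+* p'.ResidueField := Ideal.ResidueField.map p p' (algebraMap A A') hp'.symm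
  have hrk : ∀ a, rk (algebraMap A p.ResidueField a) = algebraMap A' p'.ResidueField (algebraMap A A' a) :=
    fun a => Ideal.ResidueField.map_algebraMap _ _ _ hp'.symm a
  have hindP : AlgebraicIndependent p.ResidueField (fun i => algebraMap B P.ResidueField (t i)) :=
    (indepMod_iff_algebraicIndependent p (algebraMap B P.ResidueField) (fun a => (hkP a).symm) t).1
      (by rw [Ideal.ker_algebraMap_residueField]; exact ht)
  let k₀ := FractionRing (MvPolynomial (Fin n) p.ResidueField)
  let K₁ := FractionRing (MvPolynomial (Fin n) p'.ResidueField)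
  let ev : MvPolynomial (Fin n) p.ResidueField →+* P.ResidueField :=
    (MvPolynomial.aeval fun i => algebraMap B P.ResidueField (t i)).toRingHom
  let toL : k₀ →+* P.ResidueField := IsFractionRing.lift (A := MvPolynomial (Fin n) p.ResidueField)
    (g := ev) (algebraicIndependent_iff_injective_aeval.1 hindP)
  let mapK : MvPolynomial (Fin n) p.ResidueField →+* K₁ :=
    (algebraMap (MvPolynomial (Fin n) p'.ResidueField) K₁).comp (MvPolynomial.map rk)
  let toK : k₀ →+* K₁ := IsFractionRing.lift (A := MvPolynomial (Fin n) p.ResidueField) (g := mapK)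
    ((IsFractionRing.injective (MvPolynomial (Fin n) p'.ResidueField) K₁).comp
      (MvPolynomial.map_injective _ rk.injective))
  have htoL : ∀ G, toL (algebraMap _ k₀ G) = ev G := fun G =>
    IsFractionRing.lift_algebraMap (K := k₀) _ G
  have htoK : ∀ G, toK (algebraMap _ k₀ G) = mapK G := fun G =>
    IsFractionRing.lift_algebraMap (K := k₀) _ G
  letI : Algebra k₀ P.ResidueField := toL.toAlgebra
  letI : Algebra k₀ K₁ := toK.toAlgebra
  obtain ⟨Ω, _, eL, eK, heq⟩ := exists_fieldCompositum k₀ P.ResidueField K₁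
  let Φ₂ : B →+* Ω := eL.comp (algebraMap B P.ResidueField)
  let Φ₁ : A' →+* Ω := eK.comp
    ((algebraMap (MvPolynomial (Fin n) p'.ResidueField) K₁).comp
      (MvPolynomial.C.comp (algebraMap A' p'.ResidueField)))
  have hcompat : ∀ a : A, Φ₁ (algebraMap A A' a) = Φ₂ (algebraMap A B a) := by
    intro a
    let c : k₀ := algebraMap _ k₀ (MvPolynomial.C (σ := Fin n) (algebraMap A p.ResidueField a))
    have h1 : Φ₁ (algebraMap A A' a) = eK (algebraMap k₀ K₁ c) := by
      show eK _ = eK (toK c)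
      rw [htoK]
      show _ = eK (algebraMap (MvPolynomial (Fin n) p'.ResidueField) K₁ (MvPolynomial.map rk (MvPolynomial.C _)))
      rw [MvPolynomial.map_C, hrk]
      rfl
    have h2 : Φ₂ (algebraMap A B a) = eL (algebraMap k₀ P.ResidueField c) := by
      show eL _ = eL (toL c)
      rw [htoL]
      show _ = eL (MvPolynomial.aeval (fun i => algebraMap B P.ResidueField (t i)) (MvPolynomial.C _))
      rw [MvPolynomial.aeval_C]
      show _ = eL (kP _)
      rw [hkP]
    rw [h1, h2, heq]
  letI : Algebra A Ω := (Φ₂.comp (algebraMap A B)).toAlgebra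
  let Φ : A' ⊗[A] B →ₐ[A] Ω := Algebra.TensorProduct.lift
    ({ Φ₁ with commutes' := hcompat } : A' →ₐ[A] Ω) ({ Φ₂ with commutes' := fun _ => rfl } : B →ₐ[A] Ω)
    fun x y => mul_comm (Φ₁ x) (Φ₂ y)
  have hΦ1 : ∀ a, Φ.toRingHom (algebraMap A' (A' ⊗[A] B) a) = Φ₁ a := fun a => by
    show Φ (algebraMap A' (A' ⊗[A] B) a) = _
    rw [Algebra.TensorProduct.algebraMap_apply, Algebra.algebraMap_self, RingHom.id_apply,
      Algebra.TensorProduct.lift_tmul, map_one, mul_one]
    rfl
  have hΦ2 : ∀ b, Φ.toRingHom ((1 : A') ⊗ₜ[A] b) = Φ₂ b := fun b => by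
    show Φ ((1 : A') ⊗ₜ[A] b) = _
    rw [Algebra.TensorProduct.lift_tmul, map_one, one_mul]
    rfl
  refine ⟨RingHom.ker Φ.toRingHom, RingHom.ker_isPrime _, ?_, ?_, ?_⟩
  · ext a
    rw [Ideal.mem_comap, RingHom.mem_ker, hΦ1]
    simp only [Φ₁, RingHom.comp_apply]
    rw [map_eq_zero_iff _ eK.injective,
      map_eq_zero_iff _ (IsFractionRing.injective (MvPolynomial (Fin n) p'.ResidueField) K₁),
      map_eq_zero_iff _ (MvPolynomial.C_injective _ _), Ideal.algebraMap_residueField_eq_zero]
  · ext b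
    rw [Ideal.mem_comap, RingHom.mem_ker]
    show Φ.toRingHom ((1 : A') ⊗ₜ[A] b) = 0 ↔ _
    rw [hΦ2]
    simp only [Φ₂, RingHom.comp_apply]
    rw [map_eq_zero_iff _ eL.injective, Ideal.algebraMap_residueField_eq_zero]
  · letI : Algebra p'.ResidueField Ω := (eK.comp
      ((algebraMap (MvPolynomial (Fin n) p'.ResidueField) K₁).comp MvPolynomial.C)).toAlgebra
    refine (indepMod_iff_algebraicIndependent p' Φ.toRingHom (fun a => (hΦ1 a).trans rfl) _).2 ?_
    rw [algebraicIndependent_iff_injective_aeval]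
    have hX : ∀ i, Φ.toRingHom ((1 : A') ⊗ₜ[A] t i) =
        eK (algebraMap (MvPolynomial (Fin n) p'.ResidueField) K₁ (MvPolynomial.X i)) := fun i => by
      rw [hΦ2]
      have h1 : algebraMap k₀ K₁ (algebraMap (MvPolynomial (Fin n) p.ResidueField) k₀ (MvPolynomial.X i)) =
          algebraMap (MvPolynomial (Fin n) p'.ResidueField) K₁ (MvPolynomial.X i) := by
        show toK _ = _
        rw [htoK]
        show algebraMap (MvPolynomial (Fin n) p'.ResidueField) K₁ (MvPolynomial.map rk (MvPolynomial.X i)) = _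
        rw [MvPolynomial.map_X]
      have h2 : algebraMap k₀ P.ResidueField (algebraMap (MvPolynomial (Fin n) p.ResidueField) k₀ (MvPolynomial.X i)) =
          algebraMap B P.ResidueField (t i) := by
        show toL _ = _
        rw [htoL]
        show MvPolynomial.aeval (fun i => algebraMap B P.ResidueField (t i)) (MvPolynomial.X i) = _
        rw [MvPolynomial.aeval_X]
      rw [← h1]
      show eL (algebraMap B P.ResidueField (t i)) = _
      rw [← h2, heq]
    have he : ∀ H : MvPolynomial (Fin n) p'.ResidueField,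
        MvPolynomial.aeval (fun i => Φ.toRingHom ((1 : A') ⊗ₜ[A] t i)) H =
          eK (algebraMap (MvPolynomial (Fin n) p'.ResidueField) K₁ H) := fun H => by
      induction H using MvPolynomial.induction_on with
      | C a => rw [MvPolynomial.aeval_C]; rfl
      | add G H hG hH => rw [map_add, map_add, map_add, hG, hH]
      | mul_X G i hG => rw [map_mul, map_mul, map_mul, hG, MvPolynomial.aeval_X, hX]
    intro G H hGH
    rw [he, he] at hGH
    exact IsFractionRing.injective (MvPolynomial (Fin n) p'.ResidueField) K₁ (eK.injective hGH)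

end Alg

section General

variable {X Y : Scheme.{u}} (f : X ⟶ Y) {A C : Type u} [CommRing A] [CommRing C] [Algebra A C]
  (i : Spec (CommRingCat.of A) ⟶ Y) [IsOpenImmersion i]
  (j : Spec (CommRingCat.of C) ⟶ X) [IsOpenImmersion j]
  (h : j ≫ f = Spec.map (CommRingCat.ofHom (algebraMap A C)) ≫ i)

include h in
/-- The relative degree in an affine chart. -/
theorem le_rd_iff' [LocallyOfFiniteType f] [Algebra.FiniteType A C] (P : PrimeSpectrum C) (n : ℕ) :
    n ≤ rd f (j P) ↔ ∃ t : Fin n → C, IndepMod (A := A) t P.asIdeal := by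
  have hjf : ∀ R : PrimeSpectrum C, f (j R) = i (PrimeSpectrum.comap (algebraMap A C) R) := fun R => by
    show (j ≫ f) R = _
    rw [h]
    rfl
  have hsp : ∀ R R' : PrimeSpectrum C, j R ⤳ j R' ↔ R.asIdeal ≤ R'.asIdeal := fun R R' =>
    (j.isOpenEmbedding.isEmbedding.isInducing.specializes_iff).trans
      (PrimeSpectrum.le_iff_specializes R R').symm
  rw [← le_dim_fiber_quotient_iff (A := A) P.asIdeal n]
  set x := j P with hx
  let p : PrimeSpectrum A := PrimeSpectrum.comap (algebraMap A C) P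
  show n ≤ rd f x ↔ (n : WithBot ℕ∞) ≤ ringKrullDim (p.asIdeal.Fiber (C ⧸ P.asIdeal))
  rw [← topologicalKrullDim_fib]
  let q : PrimeSpectrum (C ⧸ P.asIdeal) → X := fun R =>
    j (PrimeSpectrum.comap (Ideal.Quotient.mk P.asIdeal) R)
  have hq : IsEmbedding q := j.isOpenEmbedding.isEmbedding.comp
    (PrimeSpectrum.isClosedEmbedding_comap_of_surjective _ _ Ideal.Quotient.mk_surjective).isEmbedding
  have hfq : ∀ R, f (q R) = i (PrimeSpectrum.comap (algebraMap A (C ⧸ P.asIdeal)) R) := fun R => by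
    show f (j _) = _
    rw [hjf, ← PrimeSpectrum.comap_comp_apply]
    rfl
  have himg : q '' fib p = (j.opensRange : Set X) ∩ closure {x} ∩ f ⁻¹' {f x} := by
    ext z
    constructor
    · rintro ⟨R, hR, rfl⟩
      refine ⟨⟨⟨_, rfl⟩, specializes_iff_mem_closure.1 ?_⟩, ?_⟩
      · refine (hsp P _).2 fun b hb => ?_
        show Ideal.Quotient.mk P.asIdeal b ∈ R.asIdeal
        rw [Ideal.Quotient.eq_zero_iff_mem.2 hb]
        exact R.asIdeal.zero_mem
      · rw [Set.mem_preimage, Set.mem_singleton_iff, hfq, hx, hjf]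
        exact congrArg i hR
    · rintro ⟨⟨⟨(Q : PrimeSpectrum C), rfl⟩, h2⟩, h3⟩
      have hPQ : P.asIdeal ≤ Q.asIdeal := (hsp P Q).1 (specializes_iff_mem_closure.2 h2)
      obtain ⟨R, hR⟩ : Q ∈ Set.range (PrimeSpectrum.comap (Ideal.Quotient.mk P.asIdeal)) := by
        rw [_root_.range_comap_of_surjective _ _ Ideal.Quotient.mk_surjective, Ideal.mk_ker]
        exact hPQ
      have hqR : q R = j Q := congrArg j hR
      refine ⟨R, i.isOpenEmbedding.injective ?_, hqR⟩
      rw [← hfq, hqR, show f (j Q) = f x from h3, hx, hjf]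
  rw [((hq.homeomorphImage (fib p)).trans (Homeomorph.setCongr himg)).isHomeomorph.topologicalKrullDim_eq,
    dim_inter_eq_iSup f _ j.opensRange.isOpen isClosed_closure]
  have h2 : (⨆ z : ↥((j.opensRange : Set X) ∩ closure {x} ∩ f ⁻¹' {f x}),
      ((rd f z.1 : ℕ∞) : WithBot ℕ∞)) = ((rd f x : ℕ∞) : WithBot ℕ∞) := by
    refine le_antisymm (iSup_le fun z => ?_)
      (le_iSup_of_le ⟨x, ⟨⟨P, rfl⟩, subset_closure rfl⟩, rfl⟩ le_rfl)
    exact_mod_cast rd_le_of_specializes f (specializes_iff_mem_closure.2 z.2.1.2) z.2.2.symm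
  rw [h2]
  norm_cast

end General

section Scheme

variable {X Y X' Y' : Scheme.{u}} {p : X' ⟶ X} {q : X' ⟶ Y'} {f : X ⟶ Y} {g : Y' ⟶ Y}

/-- Affine charts of a fibre product. -/
theorem exists_chart (h : IsPullback p q f g) {V : Y.Opens} (hV : IsAffineOpen V) {U : X.Opens}
    (hU : IsAffineOpen U) (hUV : U ≤ f ⁻¹ᵁ V) {V' : Y'.Opens} (hV' : IsAffineOpen V')
    (hV'V : V' ≤ g ⁻¹ᵁ V) :
    letI := (f.appLE V U hUV).hom.toAlgebra
    letI := (g.appLE V V' hV'V).hom.toAlgebra
    ∃ j : Spec (CommRingCat.of (Γ(Y', V') ⊗[Γ(Y, V)] Γ(X, U))) ⟶ X', IsOpenImmersion j ∧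
      j ≫ q = Spec.map (CommRingCat.ofHom (algebraMap Γ(Y', V') (Γ(Y', V') ⊗[Γ(Y, V)] Γ(X, U)))) ≫
        hV'.fromSpec ∧
      j ≫ p = Spec.map (CommRingCat.ofHom (R := Γ(X, U)) (S := Γ(Y', V') ⊗[Γ(Y, V)] Γ(X, U))
        (Algebra.TensorProduct.includeRight (R := Γ(Y, V)) (A := Γ(Y', V'))).toRingHom) ≫ hU.fromSpec ∧
      ∀ x', q x' ∈ V' → p x' ∈ U → x' ∈ Set.range j := by
  letI := (f.appLE V U hUV).hom.toAlgebra
  letI := (g.appLE V V' hV'V).hom.toAlgebra
  let m := pullback.map (Spec.map (CommRingCat.ofHom (algebraMap Γ(Y, V) Γ(Y', V'))))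
    (Spec.map (CommRingCat.ofHom (algebraMap Γ(Y, V) Γ(X, U)))) g f hV'.fromSpec hU.fromSpec hV.fromSpec
    (IsAffineOpen.SpecMap_appLE_fromSpec g hV hV' hV'V) (IsAffineOpen.SpecMap_appLE_fromSpec f hV hU hUV)
  haveI : IsOpenImmersion m := Scheme.pullback_map_isOpenImmersion ..
  refine ⟨(pullbackSpecIso _ _ _).inv ≫ m ≫ h.flip.isoPullback.inv, inferInstance, ?_, ?_, ?_⟩
  · simp only [Category.assoc, IsPullback.isoPullback_inv_fst, m, pullback.map, pullback.lift_fst,
      pullbackSpecIso_inv_fst'_assoc]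
  · simp only [Category.assoc, IsPullback.isoPullback_inv_snd, m, pullback.map, pullback.lift_snd,
      pullbackSpecIso_inv_snd_assoc]
    rfl
  · intro x' hq hp
    have hm : h.flip.isoPullback.hom x' ∈ Set.range m := by
      rw [Scheme.Pullback.range_map, hV'.range_fromSpec, hU.range_fromSpec]
      constructor
      · show (h.flip.isoPullback.hom ≫ pullback.fst g f) x' ∈ V'
        rwa [IsPullback.isoPullback_hom_fst]
      · show (h.flip.isoPullback.hom ≫ pullback.snd g f) x' ∈ U
        rwa [IsPullback.isoPullback_hom_snd]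
    obtain ⟨w, hw⟩ := hm
    refine ⟨(pullbackSpecIso _ _ _).hom w, ?_⟩
    show ((pullbackSpecIso _ _ _).hom ≫ (pullbackSpecIso _ _ _).inv ≫ m ≫ h.flip.isoPullback.inv) w = x'
    rw [Iso.hom_inv_id_assoc, Scheme.Hom.comp_apply, hw, ← Scheme.Hom.comp_apply, Iso.hom_inv_id]
    rfl

variable [LocallyOfFiniteType f] [LocallyOfFiniteType q]

/-- The relative degree does not go up under base change. -/
theorem rd_baseChange_le (h : IsPullback p q f g) (x' : X') : rd q x' ≤ rd f (p x') := by
  obtain ⟨V, hV, hxV, -⟩ := exists_isAffineOpen_mem_and_subset (x := f (p x')) (U := ⊤) trivial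
  obtain ⟨U, hU, hxU, hUV⟩ := exists_isAffineOpen_mem_and_subset (x := p x') (U := f ⁻¹ᵁ V) hxV
  have hgq : q x' ∈ g ⁻¹ᵁ V := by
    show (q ≫ g) x' ∈ V
    rw [← h.w]
    exact hxV
  obtain ⟨V', hV', hyV', hV'V⟩ := exists_isAffineOpen_mem_and_subset (x := q x') (U := g ⁻¹ᵁ V) hgq
  obtain ⟨j, hj, hjq, hjp, hrange⟩ := exists_chart h hV hU hUV hV' hV'V
  letI := (f.appLE V U hUV).hom.toAlgebra
  letI := (g.appLE V V' hV'V).hom.toAlgebra
  haveI : Algebra.FiniteType Γ(Y, V) Γ(X, U) := f.finiteType_appLE hV hU hUV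
  obtain ⟨Q, rfl⟩ := hrange x' hyV' hxU
  obtain ⟨t', ht'⟩ := (le_rd_iff' q hV'.fromSpec j hjq Q _).1 le_rfl
  have hle := dim_fiber_quotient_baseChange_le Q.asIdeal t' ht'
  obtain ⟨t, ht⟩ := (le_dim_fiber_quotient_iff (A := Γ(Y, V)) _ _).1 hle
  have hpj : p (j Q) = hU.fromSpec (PrimeSpectrum.comap
      (Algebra.TensorProduct.includeRight (R := Γ(Y, V)) (A := Γ(Y', V'))).toRingHom Q) := by
    show (j ≫ p) Q = _
    rw [hjp]
    rfl
  rw [hpj]
  exact (le_rd_iff f hV hU hUV _ _).2 ⟨t, ht⟩

/-- Over every point there is a point of the same relative degree. -/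
theorem exists_rd_baseChange_eq (h : IsPullback p q f g) (x : X) (y' : Y') (hxy : f x = g y') :
    ∃ x', p x' = x ∧ q x' = y' ∧ rd q x' = rd f x := by
  obtain ⟨V, hV, hxV, -⟩ := exists_isAffineOpen_mem_and_subset (x := f x) (U := ⊤) trivial
  obtain ⟨U, hU, hxU, hUV⟩ := exists_isAffineOpen_mem_and_subset (x := x) (U := f ⁻¹ᵁ V) hxV
  obtain ⟨V', hV', hyV', hV'V⟩ :=
    exists_isAffineOpen_mem_and_subset (x := y') (U := g ⁻¹ᵁ V) (show g y' ∈ V from hxy ▸ hxV)
  obtain ⟨j, hj, hjq, hjp, hrange⟩ := exists_chart h hV hU hUV hV' hV'V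
  letI := (f.appLE V U hUV).hom.toAlgebra
  letI := (g.appLE V V' hV'V).hom.toAlgebra
  haveI : Algebra.FiniteType Γ(Y, V) Γ(X, U) := f.finiteType_appLE hV hU hUV
  obtain ⟨P, rfl⟩ := VarDim.exists_fromSpec_eq hU hxU
  obtain ⟨P', rfl⟩ := VarDim.exists_fromSpec_eq hV' hyV'
  obtain ⟨t, ht⟩ := (le_rd_iff f hV hU hUV P _).1 le_rfl
  have hPP : P'.asIdeal.under Γ(Y, V) = P.asIdeal.under Γ(Y, V) := by
    rw [fromSpec_comm f hV hU hUV, fromSpec_comm g hV hV' hV'V] at hxy
    exact congrArg PrimeSpectrum.asIdeal (hV.fromSpec.isOpenEmbedding.injective hxy).symm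
  obtain ⟨Q, hQ, hQ1, hQ2, hQt⟩ := exists_indepMod_baseChange P.asIdeal ht P'.asIdeal hPP
  have hp : p (j (⟨Q, hQ⟩ : PrimeSpectrum _)) = hU.fromSpec P := by
    show (j ≫ p) (⟨Q, hQ⟩ : PrimeSpectrum _) = _
    rw [hjp]
    exact congrArg hU.fromSpec (PrimeSpectrum.ext hQ2)
  refine ⟨j (⟨Q, hQ⟩ : PrimeSpectrum _), hp, ?_, ?_⟩
  · show (j ≫ q) (⟨Q, hQ⟩ : PrimeSpectrum _) = _
    rw [hjq]
    exact congrArg hV'.fromSpec (PrimeSpectrum.ext hQ1)
  · refine le_antisymm ((rd_baseChange_le h _).trans_eq (congrArg _ hp)) ?_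
    exact (le_rd_iff' q hV'.fromSpec j hjq ⟨Q, hQ⟩ _).2 ⟨_, hQt⟩

end Scheme

end Groth.Agent.FibDim
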