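import Groth.Agent.FibDim.Semicont
import Groth.Agent.FibDim.BaseChange
import Mathlib.AlgebraicGeometry.AffineSpace
import Mathlib.RingTheory.NoetherNormalization

/-!
# Charts of affine fibres (EGA IV 13.3.1.1)
-/

set_option autoImplicit false
set_option linter.style.haveILetI false

open AlgebraicGeometry CategoryTheory Limits Topology

namespace Groth.Agent.FibDim

universe u

variable {X Y : Scheme.{u}}

/-- Elements of the residue field at a point of an affine scheme are fractions of global sections. -/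
theorem exists_mul_eq_evaluation [IsAffine Y] (y : Y) (c : Y.residueField y) :
    ∃ a s : Γ(Y, ⊤), Y.evaluation ⊤ y trivial s ≠ 0 ∧
      c * Y.evaluation ⊤ y trivial s = Y.evaluation ⊤ y trivial a := by
  obtain ⟨z, rfl⟩ := Y.residue_surjective y c
  letI := (Y.presheaf.germ ⊤ y trivial).hom.toAlgebra
  haveI : IsLocalization.AtPrime (Y.presheaf.stalk y) ((isAffineOpen_top Y).primeIdealOf ⟨y, trivial⟩).asIdeal :=
    (isAffineOpen_top Y).isLocalization_stalk ⟨y, trivial⟩
  obtain ⟨⟨a, s⟩, h⟩ := IsLocalization.surj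
    ((isAffineOpen_top Y).primeIdealOf ⟨y, trivial⟩).asIdeal.primeCompl z
  refine ⟨a, s.1, ?_, ?_⟩
  · have hu : IsUnit (algebraMap Γ(Y, ⊤) (Y.presheaf.stalk y) s.1) := IsLocalization.map_units _ s
    exact (hu.map (Y.residue y).hom).ne_zero
  · show (Y.residue y).hom z * (Y.residue y).hom (algebraMap Γ(Y, ⊤) (Y.presheaf.stalk y) s.1) = _
    rw [← map_mul, h]
    rfl

theorem fromSpecResidueField_appTop (y : Y) :
    (Y.fromSpecResidueField y).appTop =
      Y.evaluation ⊤ y trivial ≫ (Scheme.ΓSpecIso (Y.residueField y)).inv := by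
  rw [Scheme.fromSpecResidueField, Scheme.Hom.comp_appTop, Scheme.fromSpecStalk_appTop]
  simp only [Category.assoc, Scheme.evaluation]
  rw [Scheme.ΓSpecIso_inv_naturality]
  simp

/-- A global section of the affine fibre is, up to a unit, the restriction of a global section. -/
theorem exists_lift_fibre [IsAffine X] [IsAffine Y] (f : X ⟶ Y) (y : Y) (x : Γ(f.fiber y, ⊤)) :
    ∃ (b : Γ(X, ⊤)) (c : Y.residueField y), c ≠ 0 ∧
      (f.fiberι y).appTop b =
        (f.fiberToSpecResidueField y).appTop ((Scheme.ΓSpecIso _).inv c) * x := by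
  let K := Y.residueField y
  let ev : Γ(Y, ⊤) → K := Y.evaluation ⊤ y trivial
  let κ : K →+* Γ(f.fiber y, ⊤) :=
    ((Scheme.ΓSpecIso (Y.residueField y)).inv ≫ (f.fiberToSpecResidueField y).appTop).hom
  have hsq : ∀ a, (f.fiberι y).appTop (f.appTop a) = κ (ev a) := fun a => by
    have h1 : (f.fiberι y ≫ f).appTop a = (f.fiberToSpecResidueField y ≫ Y.fromSpecResidueField y).appTop a := by
      rw [show f.fiberι y ≫ f = f.fiberToSpecResidueField y ≫ Y.fromSpecResidueField y from pullback.condition]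
    rw [Scheme.Hom.comp_appTop, Scheme.Hom.comp_appTop, fromSpecResidueField_appTop] at h1
    exact h1
  let T : Subring Γ(f.fiber y, ⊤) :=
    { carrier := {x | ∃ (b : Γ(X, ⊤)) (c : K), c ≠ 0 ∧ (f.fiberι y).appTop b = κ c * x}
      zero_mem' := ⟨0, 1, one_ne_zero, by simp⟩
      one_mem' := ⟨1, 1, one_ne_zero, by simp⟩
      neg_mem' := by rintro x ⟨b, c, hc, h⟩; exact ⟨-b, c, hc, by simp [h]⟩
      mul_mem' := by
        rintro x y ⟨b, c, hc, h⟩ ⟨b', c', hc', h'⟩
        exact ⟨b * b', c * c', mul_ne_zero hc hc', by rw [map_mul, h, h', map_mul]; ring⟩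
      add_mem' := by
        rintro x z ⟨b, c, hc, h⟩ ⟨b', c', hc', h'⟩
        obtain ⟨a₁, s₁, hs₁, e₁⟩ := exists_mul_eq_evaluation (Y := Y) _ c
        obtain ⟨a₂, s₂, hs₂, e₂⟩ := exists_mul_eq_evaluation (Y := Y) _ c'
        refine ⟨f.appTop (a₂ * s₁) * b + f.appTop (a₁ * s₂) * b', ev (a₁ * a₂), ?_, ?_⟩
        · show Y.evaluation ⊤ y trivial (a₁ * a₂) ≠ 0
          rw [map_mul, ← e₁, ← e₂]
          exact mul_ne_zero (mul_ne_zero hc hs₁) (mul_ne_zero hc' hs₂)
        · have k1 : κ (ev a₁) = κ c * κ (ev s₁) := by rw [← map_mul]; exact congrArg κ e₁.symm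
          have k2 : κ (ev a₂) = κ c' * κ (ev s₂) := by rw [← map_mul]; exact congrArg κ e₂.symm
          have m : ∀ p q, κ (ev (p * q)) = κ (ev p) * κ (ev q) := fun p q => by
            show κ (Y.evaluation ⊤ y trivial (p * q)) = _
            rw [map_mul, map_mul]
          simp only [map_add, map_mul, hsq]
          rw [h, h', m, k1, k2]
          ring }
  suffices hT : T = ⊤ by
    have : x ∈ T := hT ▸ Subring.mem_top x
    exact this
  have hrange₁ : ∀ b, (f.fiberι y).appTop b ∈ T := fun b => ⟨b, 1, one_ne_zero, by simp⟩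
  have hrange₂ : ∀ r, (f.fiberToSpecResidueField y).appTop r ∈ T := fun r => by
    obtain ⟨c, rfl⟩ : ∃ c, (Scheme.ΓSpecIso (Y.residueField y)).inv c = r :=
      ⟨(Scheme.ΓSpecIso (Y.residueField y)).hom r, by simp⟩
    obtain ⟨a, s, hs, e⟩ := exists_mul_eq_evaluation (Y := Y) _ c
    refine ⟨f.appTop a, ev s, hs, ?_⟩
    rw [hsq]
    show κ (ev a) = κ (ev s) * κ c
    rw [← map_mul, mul_comm]
    exact congrArg κ e.symm
  have hpo := isPushout_appTop_of_isPullback (IsPullback.of_hasPullback f (Y.fromSpecResidueField y))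
  let incl : CommRingCat.of T ⟶ Γ(f.fiber y, ⊤) := CommRingCat.ofHom T.subtype
  let a₁ : Γ(X, ⊤) ⟶ CommRingCat.of T := CommRingCat.ofHom ((f.fiberι y).appTop.hom.codRestrict T hrange₁)
  let a₂ : Γ(Spec (Y.residueField y), ⊤) ⟶ CommRingCat.of T :=
    CommRingCat.ofHom ((f.fiberToSpecResidueField y).appTop.hom.codRestrict T hrange₂)
  let σ : Γ(f.fiber y, ⊤) ⟶ CommRingCat.of T := hpo.desc a₁ a₂ (by
    ext r : 2
    exact Subtype.ext (congr($(hpo.w).hom r)))
  have hid : σ ≫ incl = 𝟙 _ := hpo.hom_ext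
    (by
      ext r
      have h := hpo.inl_desc a₁ a₂ (by ext r : 2; exact Subtype.ext (congr($(hpo.w).hom r)))
      exact congrArg Subtype.val congr(($h).hom r))
    (by
      ext r
      have h := hpo.inr_desc a₁ a₂ (by ext r : 2; exact Subtype.ext (congr($(hpo.w).hom r)))
      exact congrArg Subtype.val congr(($h).hom r))
  refine top_le_iff.1 fun z _ => ?_
  rw [show z = (σ ≫ incl) z by rw [hid]; rfl]
  exact (σ z).2

/-- The map from polynomials over the residue field given by global sections. -/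
noncomputable def fibrePoly (f : X ⟶ Y) (y : Y) {e : ℕ} (t : Fin e → Γ(X, ⊤)) :
    MvPolynomial (Fin e) (Y.residueField y) →+* Γ(f.fiber y, ⊤) :=
  MvPolynomial.eval₂Hom ((Scheme.ΓSpecIso (Y.residueField y)).inv ≫ (f.fiberToSpecResidueField y).appTop).hom
    fun i => (f.fiberι y).appTop (t i)

theorem exists_fibrePoly_finite [IsAffine X] [IsAffine Y] (f : X ⟶ Y) [LocallyOfFiniteType f] (y : Y)
    (hy : y ∈ Set.range f.base) (e : ℕ) (he : topologicalKrullDim ↥(f.fiber y) = e) :
    ∃ t : Fin e → Γ(X, ⊤), (fibrePoly f y t).Finite := by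
  let K := Y.residueField y
  let S := Γ(f.fiber y, ⊤)
  haveI : IsAffine (f.fiber y) := .of_isPullback (IsPullback.of_hasPullback f (Y.fromSpecResidueField y))
  let κ : K →+* S :=
    ((Scheme.ΓSpecIso (Y.residueField y)).inv ≫ (f.fiberToSpecResidueField y).appTop).hom
  letI : Algebra K S := κ.toAlgebra
  have hft : κ.FiniteType := by
    have h1 := HasRingHomProperty.appTop (P := @LocallyOfFiniteType) (f.fiberToSpecResidueField y) inferInstance
    exact h1.comp (RingHom.FiniteType.of_surjective _ (ConcreteCategory.bijective_of_isIso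
      ((Scheme.ΓSpecIso (Y.residueField y)).inv)).2)
  haveI : Algebra.FiniteType K S := hft
  obtain ⟨x, hx⟩ := hy
  obtain ⟨z, -⟩ : x ∈ Set.range (f.fiberι y) := by rw [Scheme.Hom.range_fiberι]; exact hx
  haveI : Nonempty (f.fiber y) := ⟨z⟩
  haveI : Nontrivial S := by
    rw [← PrimeSpectrum.nonempty_iff_nontrivial]
    exact ⟨(f.fiber y).isoSpec.hom z⟩
  obtain ⟨n, ψ, hinj, hfin⟩ := exists_finite_inj_algHom_of_fg K S
  obtain rfl : n = e := by
    letI := ψ.toRingHom.toAlgebra
    haveI : Module.Finite (MvPolynomial (Fin n) K) S := hfin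
    haveI : FaithfulSMul (MvPolynomial (Fin n) K) S := (faithfulSMul_iff_algebraMap_injective _ _).mpr hinj
    have hn : ringKrullDim S = n := by
      rw [VarDim.ringKrullDim_eq_of_isIntegral (R := MvPolynomial (Fin n) K),
        MvPolynomial.ringKrullDim_of_isNoetherianRing, ringKrullDim_eq_zero_of_field, zero_add]
      simp
    rw [(f.fiber y).isoSpec.hom.homeomorph.isHomeomorph.topologicalKrullDim_eq] at he
    have h1 : topologicalKrullDim (PrimeSpectrum S) = ringKrullDim S :=
      PrimeSpectrum.topologicalKrullDim_eq_ringKrullDim S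
    have h2 : ((n : ℕ∞) : WithBot ℕ∞) = ((e : ℕ∞) : WithBot ℕ∞) := by
      refine (hn.symm.trans h1.symm).trans ?_
      exact he
    exact_mod_cast h2
  choose b c hc hb using fun i => exists_lift_fibre f y (ψ (MvPolynomial.X i))
  refine ⟨b, ?_⟩
  let sc : MvPolynomial (Fin n) K →ₐ[K] MvPolynomial (Fin n) K :=
    MvPolynomial.aeval fun i => MvPolynomial.C (c i) * MvPolynomial.X i
  have hsc : Function.Surjective sc := by
    rw [← AlgHom.range_eq_top, eq_top_iff, ← MvPolynomial.adjoin_range_X, Algebra.adjoin_le_iff]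
    rintro _ ⟨i, rfl⟩
    refine ⟨MvPolynomial.C (c i)⁻¹ * MvPolynomial.X i, ?_⟩
    show sc _ = _
    rw [map_mul, MvPolynomial.aeval_C, MvPolynomial.aeval_X, MvPolynomial.algebraMap_eq, ← mul_assoc, ← map_mul,
      inv_mul_cancel₀ (hc i), map_one, one_mul]
  have heq : fibrePoly f y b = (ψ.comp sc).toRingHom := by
    refine MvPolynomial.ringHom_ext (fun r => ?_) fun i => ?_
    · rw [fibrePoly, MvPolynomial.eval₂Hom_C]
      exact ((ψ.comp sc).commutes r).symm
    · rw [fibrePoly, MvPolynomial.eval₂Hom_X', hb]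
      show _ = ψ (sc (MvPolynomial.X i))
      rw [MvPolynomial.aeval_X, map_mul, ← MvPolynomial.algebraMap_eq, AlgHom.commutes]
      rfl
  rw [heq]
  exact RingHom.Finite.comp hfin (RingHom.Finite.of_surjective _ hsc)

/-- The sections give a morphism to affine space which is finite on the fibre. -/
theorem exists_chart_finite [IsAffine X] [IsAffine Y] (f : X ⟶ Y) [LocallyOfFiniteType f] (y : Y)
    (hy : y ∈ Set.range f.base) (e : ℕ) (he : topologicalKrullDim ↥(f.fiber y) = e) :
    ∃ g : X ⟶ 𝔸(ULift.{u} (Fin e); Y), g ≫ (𝔸(ULift.{u} (Fin e); Y) ↘ Y) = f ∧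
      IsFinite (pullback.snd g ((𝔸(ULift.{u} (Fin e); Y) ↘ Y).fiberι y)) := by
  obtain ⟨t, ht⟩ := exists_fibrePoly_finite f y hy e he
  let π := (𝔸(ULift.{u} (Fin e); Y) ↘ Y)
  let g := AffineSpace.homOfVector f fun i : ULift.{u} (Fin e) => t i.down
  have hg : g ≫ π = f := AffineSpace.homOfVector_over _ _
  refine ⟨g, hg, ?_⟩
  haveI : IsAffine (π.fiber y) := .of_isPullback (IsPullback.of_hasPullback π (Y.fromSpecResidueField y))
  have hP := (IsPullback.of_hasPullback g (π.fiberι y)).paste_vert (IsPullback.of_hasPullback π (Y.fromSpecResidueField y))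
  rw [hg] at hP
  haveI : IsAffine (pullback g (π.fiberι y)) := .of_isPullback hP
  rw [HasAffineProperty.iff_of_isAffine (P := @IsFinite)]
  refine ⟨inferInstance, ?_⟩
  let iso := hP.isoPullback
  let θ : MvPolynomial (Fin e) (Y.residueField y) →+* Γ(π.fiber y, ⊤) :=
    MvPolynomial.eval₂Hom ((Scheme.ΓSpecIso (Y.residueField y)).inv ≫ (π.fiberToSpecResidueField y).appTop).hom
      fun i => (π.fiberι y).appTop (AffineSpace.coord Y (ULift.up i))
  refine RingHom.Finite.of_comp_finite (f := θ) ?_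
  have h2 : ((pullback.snd g (π.fiberι y)).appTop.hom).comp θ = iso.hom.appTop.hom.comp (fibrePoly f y t) := by
    refine MvPolynomial.ringHom_ext (fun r => ?_) fun i => ?_
    · rw [RingHom.comp_apply, RingHom.comp_apply]
      unfold fibrePoly
      erw [MvPolynomial.eval₂Hom_C, MvPolynomial.eval₂Hom_C]
      show ((pullback.snd g (π.fiberι y) ≫ π.fiberToSpecResidueField y).appTop)
          ((Scheme.ΓSpecIso (Y.residueField y)).inv r) =
        ((iso.hom ≫ pullback.snd f (Y.fromSpecResidueField y)).appTop) _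
      rw [hP.isoPullback_hom_snd]
      rfl
    · rw [RingHom.comp_apply, RingHom.comp_apply]
      unfold fibrePoly
      erw [MvPolynomial.eval₂Hom_X', MvPolynomial.eval₂Hom_X']
      show ((pullback.snd g (π.fiberι y) ≫ π.fiberι y).appTop) (AffineSpace.coord Y (ULift.up i)) =
        ((iso.hom ≫ pullback.fst f (Y.fromSpecResidueField y)).appTop) (t i)
      rw [hP.isoPullback_hom_fst, ← pullback.condition, Scheme.Hom.comp_appTop, CommRingCat.comp_apply,
        AffineSpace.homOfVector_appTop_coord]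
  rw [h2]
  exact RingHom.Finite.comp (RingHom.Finite.of_surjective _ ((Scheme.Γ.mapIso iso.op).commRingCatIsoToRingEquiv.surjective)) ht

end Groth.Agent.FibDim
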