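import Groth.Agent.FibDim.BaseField
import Groth.Agent.FibDim.Semicont
import Groth.Agent.Proj16.DVRPath
import Mathlib.AlgebraicGeometry.Morphisms.UniversallyOpen
import Mathlib.Topology.NoetherianSpace

/-!
# Fibres of images of universally open morphisms (EGA IV 14.3)
-/

set_option autoImplicit false
set_option linter.style.haveILetI false

open AlgebraicGeometry CategoryTheory Limits Topology

namespace Groth.Agent.FibDim

universe u

variable {X Y X' Y' : Scheme.{u}} {p : X' ⟶ X} {q : X' ⟶ Y'} {f : X ⟶ Y} {g : Y' ⟶ Y}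

/-- Fibre-wise, base change projections are open. -/
theorem mem_closure_preimage_fiber (h : IsPullback p q f g) {B : Set X} {x' : X'}
    (hx : p x' ∈ closure (B ∩ f ⁻¹' {f (p x')})) : x' ∈ closure (p ⁻¹' B ∩ q ⁻¹' {q x'}) := by
  set y' := q x' with hy'
  have hfy : f (p x') = g y' := by
    show (p ≫ f) x' = (q ≫ g) x'
    rw [h.w]
  have small : IsPullback (f.fiberι (g y')) (f.fiberToSpecResidueField (g y')) f
      (Y.fromSpecResidueField (g y')) :=
    IsPullback.of_hasPullback _ _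
  have big : IsPullback (q.fiberι y' ≫ p) (q.fiberToSpecResidueField y') f
      (Spec.map (g.residueFieldMap y') ≫ Y.fromSpecResidueField (g y')) := by
    rw [Scheme.Hom.SpecMap_residueFieldMap_fromSpecResidueField]
    exact (IsPullback.of_hasPullback q (Y'.fromSpecResidueField y')).paste_horiz h
  have hw : (q.fiberι y' ≫ p) ≫ f =
      (q.fiberToSpecResidueField y' ≫ Spec.map (g.residueFieldMap y')) ≫ Y.fromSpecResidueField (g y') := by
    rw [Category.assoc, Category.assoc]; exact (Category.assoc _ _ _).symm.trans big.w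
  have sq : IsPullback (small.lift _ _ hw) (q.fiberToSpecResidueField y') (f.fiberToSpecResidueField (g y'))
      (Spec.map (g.residueFieldMap y')) := by
    refine IsPullback.of_right ?_ (small.lift_snd _ _ _) small
    rw [small.lift_fst]
    exact big
  haveI : UniversallyOpen (Spec.map (g.residueFieldMap y')) :=
    FBaseLib.universallyOpen_spec_map_field (g.residueFieldMap y').hom
  haveI : UniversallyOpen (small.lift _ _ hw) := MorphismProperty.of_isPullback sq.flip ‹_›
  set m := small.lift _ _ hw with hm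
  have hmι : ∀ w, f.fiberι (g y') (m w) = p (q.fiberι y' w) := fun w => by
    show (m ≫ f.fiberι (g y')) w = _
    rw [hm, small.lift_fst]
    rfl
  rw [mem_closure_iff]
  intro O hO hxO
  obtain ⟨W, hW, hWeq⟩ := (f.fiberι (g y')).isEmbedding.isInducing.isOpen_iff.1
    (m.isOpenMap _ (hO.preimage (q.fiberι y').continuous))
  have hxW : p x' ∈ W := by
    have hmem : m (q.asFiber x') ∈ f.fiberι (g y') ⁻¹' W := by
      rw [hWeq]
      exact ⟨q.asFiber x', by rw [Set.mem_preimage, Scheme.Hom.fiberι_asFiber]; exact hxO, rfl⟩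
    rw [Set.mem_preimage, hmι, Scheme.Hom.fiberι_asFiber] at hmem
    exact hmem
  obtain ⟨b, hbW, hbB, hbf⟩ := mem_closure_iff.1 hx W hW hxW
  obtain ⟨c, hc⟩ : b ∈ Set.range (f.fiberι (g y')) := by
    rw [Scheme.Hom.range_fiberι]; exact (Set.mem_singleton_iff.1 hbf).trans hfy
  obtain ⟨a, haO, rfl⟩ : c ∈ m '' (q.fiberι y' ⁻¹' O) := by
    rw [← hWeq]; show f.fiberι (g y') c ∈ W; rw [hc]; exact hbW
  refine ⟨q.fiberι y' a, haO, ?_, fiber_apply_fiberι q a⟩
  show p (q.fiberι y' a) ∈ B
  rw [← hmι, hc]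
  exact hbB

/-- In a closed subset of the space of a Noetherian scheme, the closure is computed by finitely many
points. -/
theorem exists_finite_generic {Z : Scheme.{u}} [TopologicalSpace.NoetherianSpace Z] {S : Set Z}
    (hS : IsClosed S) : ∃ P : Finset Z, (∀ η ∈ P, η ∈ S) ∧ S ⊆ ⋃ η ∈ P, closure {η} := by
  classical
  obtain ⟨F, hF, hFc, hFi, rfl⟩ := TopologicalSpace.NoetherianSpace.exists_finite_set_isClosed_irreducible hS
  haveI := hF.to_subtype
  choose η hη using fun s : F => QuasiSober.sober (hFi s.1 s.2) (hFc s.1 s.2)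
  refine ⟨(Set.finite_range η).toFinset, fun x hx => ?_, fun x hx => ?_⟩
  · obtain ⟨s, rfl⟩ := (Set.finite_range η).mem_toFinset.1 hx
    exact ⟨s.1, s.2, (hη s).mem⟩
  · obtain ⟨s, hs, hxs⟩ := hx
    exact Set.mem_iUnion₂.2 ⟨η ⟨s, hs⟩, (Set.finite_range η).mem_toFinset.2 ⟨_, rfl⟩,
      (hη ⟨s, hs⟩).def.ge hxs⟩

/-- EGA IV 14.3: dimensions of fibres of images of universally open morphisms do not drop under
generization. -/
theorem le_dim_image_fibres {S : Scheme.{u}} (f : X ⟶ S) [LocallyOfFiniteType f] [QuasiCompact f]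
    {ι : Type u} (Z : ι → Scheme.{u}) (v : ∀ i, Z i ⟶ X) (hv : ∀ i, UniversallyOpen (v i ≫ f))
    (s s' : S) (hs : s' ⤳ s) :
    topologicalKrullDim ↥(f ⁻¹' {s} ∩ closure ((⋃ i, Set.range (v i)) ∩ f ⁻¹' {s})) ≤
      topologicalKrullDim ↥(f ⁻¹' {s'} ∩ closure ((⋃ i, Set.range (v i)) ∩ f ⁻¹' {s'})) := by
  by_cases hne : s = s'
  · rw [hne]
  set T := ⋃ i, Set.range (v i) with hT
  rw [Set.inter_comm, Set.inter_comm (f ⁻¹' {s'}), dim_closed_inter_eq_iSup f s isClosed_closure,
    dim_closed_inter_eq_iSup f s' isClosed_closure]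
  refine iSup_le fun z => ?_
  obtain ⟨A, τ, -, hclosed, hgen⟩ := Proj16.exists_valuationSubring_path (p := 𝟙 S) (x := s') hs
    (fun h => hne h)
  let η : Spec (CommRingCat.of A) := (⟨⊥, Ideal.isPrime_bot⟩ : PrimeSpectrum A)
  let pt : Spec (CommRingCat.of A) := IsLocalRing.closedPoint A
  have hη : τ η = s' := by
    have h1 : η = Spec.map (CommRingCat.ofHom A.subtype) (IsLocalRing.closedPoint (S.residueField s')) := by
      refine PrimeSpectrum.ext (Ideal.ext fun a => ?_)
      show a ∈ (⊥ : Ideal A) ↔ A.subtype a ∈ IsLocalRing.maximalIdeal (S.residueField s')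
      rw [IsLocalRing.maximalIdeal_eq_bot, Ideal.mem_bot, Ideal.mem_bot]
      exact (map_eq_zero_iff A.subtype Subtype.val_injective).symm
    rw [h1]
    show (Spec.map (CommRingCat.ofHom A.subtype) ≫ τ) _ = s'
    rw [hgen, Category.comp_id]
    have : S.fromSpecResidueField s' (IsLocalRing.closedPoint (S.residueField s')) ∈
        Set.range (S.fromSpecResidueField s') := ⟨_, rfl⟩
    rwa [Scheme.range_fromSpecResidueField] at this
  let p := pullback.fst f τ
  let q := pullback.snd f τ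
  have hpq : IsPullback p q f τ := IsPullback.of_hasPullback f τ
  obtain ⟨z', hz'p, hz'q, hz'rd⟩ := exists_rd_baseChange_eq hpq z.1 pt (by
    show f z.1 = τ pt; rw [show f z.1 = s from z.2.2, hclosed])
  let S' : Set ↥(pullback f τ) := p ⁻¹' T ∩ q ⁻¹' {η}
  have h1 : z' ∈ closure (p ⁻¹' T ∩ q ⁻¹' {pt}) := by
    rw [← hz'q]
    refine mem_closure_preimage_fiber hpq ?_
    rw [hz'p, show f z.1 = s from z.2.2]
    exact z.2.1
  have h2 : p ⁻¹' T ∩ q ⁻¹' {pt} ⊆ closure S' := by
    rintro w ⟨hw, -⟩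
    obtain ⟨i, y, hy⟩ := Set.mem_iUnion.1 hw
    obtain ⟨a, ha1, ha2⟩ := Scheme.Pullback.exists_preimage_pullback (f := v i) (g := p) y w hy
    haveI : UniversallyOpen (pullback.snd (v i) p ≫ q) := MorphismProperty.of_isPullback
      ((IsPullback.of_hasPullback (v i) p).flip.paste_horiz hpq.flip).flip (hv i)
    refine mem_closure_iff.2 fun O hO hwO => ?_
    have hopen := (pullback.snd (v i) p ≫ q).isOpenMap _ (hO.preimage (pullback.snd (v i) p).continuous)
    have hηmem : η ∈ (pullback.snd (v i) p ≫ q) '' (pullback.snd (v i) p ⁻¹' O) :=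
      Specializes.mem_open ((PrimeSpectrum.le_iff_specializes (⟨⊥, Ideal.isPrime_bot⟩ : PrimeSpectrum A)
        ((pullback.snd (v i) p ≫ q) a : PrimeSpectrum A)).1 bot_le) hopen
        ⟨a, by rw [Set.mem_preimage, ha2]; exact hwO, rfl⟩
    obtain ⟨b, hb, hbη⟩ := hηmem
    refine ⟨pullback.snd (v i) p b, hb, Set.mem_iUnion.2 ⟨i, pullback.fst (v i) p b, ?_⟩, hbη⟩
    show (pullback.fst (v i) p ≫ v i) b = _
    rw [pullback.condition]
    rfl
  have h3 : z' ∈ closure S' := closure_minimal h2 isClosed_closure h1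
  haveI : IsLocallyNoetherian (q.fiber η) :=
    LocallyOfFiniteType.isLocallyNoetherian (q.fiberToSpecResidueField η)
  haveI : CompactSpace (q.fiber η) := inferInstance
  haveI : IsNoetherian (q.fiber η) := {}
  haveI : TopologicalSpace.NoetherianSpace (q.fiber η) := inferInstance
  obtain ⟨P, hP, hcov⟩ := exists_finite_generic
    (isClosed_closure (s := S').preimage (q.fiberι η).continuous)
  have h4 : S' ⊆ ⋃ ζ ∈ P, closure {q.fiberι η ζ} := fun w hw => by
    obtain ⟨c, rfl⟩ : w ∈ Set.range (q.fiberι η) := by rw [Scheme.Hom.range_fiberι]; exact hw.2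
    obtain ⟨ζ, hζ, hcζ⟩ := Set.mem_iUnion₂.1 (hcov (show c ∈ q.fiberι η ⁻¹' closure S' from subset_closure hw))
    refine Set.mem_iUnion₂.2 ⟨ζ, hζ, ?_⟩
    have := Set.mem_image_of_mem (q.fiberι η) hcζ
    exact closure_mono (by rw [Set.image_singleton]) (image_closure_subset_closure_image
      (q.fiberι η).continuous this)
  obtain ⟨ζ, hζ, hz'ζ⟩ := Set.mem_iUnion₂.1
    (closure_minimal h4 (P.finite_toSet.isClosed_biUnion fun _ _ => isClosed_closure) h3)
  have hqζ : q (q.fiberι η ζ) = η := fiber_apply_fiberι q ζ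
  have hfp : f (p (q.fiberι η ζ)) = s' := by
    show (p ≫ f) _ = s'
    rw [hpq.w, Scheme.Hom.comp_apply, hqζ, hη]
  have hmem : p (q.fiberι η ζ) ∈ closure (T ∩ f ⁻¹' {s'}) := by
    have hsub : p '' S' ⊆ T ∩ f ⁻¹' {s'} := by
      rintro _ ⟨w, hw, rfl⟩
      refine ⟨hw.1, ?_⟩
      show (p ≫ f) w = s'
      rw [hpq.w, Scheme.Hom.comp_apply, show q w = η from hw.2, hη]
    exact closure_mono hsub (image_closure_subset_closure_image p.continuous ⟨_, hP ζ hζ, rfl⟩)
  refine le_iSup_of_le ⟨p (q.fiberι η ζ), hmem, hfp⟩ ?_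
  have hval := rd_le_of_valuationRing (A := A) q (specializes_iff_mem_closure.2 hz'ζ) fun y => by
    rw [hqζ]
    exact (PrimeSpectrum.le_iff_specializes (⟨⊥, Ideal.isPrime_bot⟩ : PrimeSpectrum A)
      (y : PrimeSpectrum A)).1 bot_le
  exact_mod_cast (hz'rd.symm.le.trans hval).trans (rd_baseChange_le hpq _)

end Groth.Agent.FibDim
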