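import Groth.Agent.FibDim.BaseChange
import Groth.Agent.FibDim.Comp
import Groth.Agent.FibDim.UnivOpenImages
import Groth.Prelude.Def_EGA43

/-!
# Fibre dimensions along generizations (EGA IV 14.3)
-/

set_option autoImplicit false
set_option linter.style.haveILetI false

open AlgebraicGeometry CategoryTheory Limits Topology

namespace Groth.Agent.FibDim

universe u

theorem exists_valuation_lift {S : Scheme.{u}} {s s' : S} (hs : s' ⤳ s) (hne : s ≠ s') :
    ∃ (A : Type u) (_ : CommRing A) (_ : IsDomain A) (_ : ValuationRing A)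
      (τ : Spec (CommRingCat.of A) ⟶ S) (pt η : Spec (CommRingCat.of A)),
      τ pt = s ∧ τ η = s' ∧ ∀ t, η ⤳ t := by
  obtain ⟨A, τ, -, hclosed, hgen⟩ := Proj16.exists_valuationSubring_path (p := 𝟙 S) (x := s') hs
    (fun h => hne h)
  let η : Spec (CommRingCat.of A) := (⟨⊥, Ideal.isPrime_bot⟩ : PrimeSpectrum A)
  refine ⟨A, inferInstance, inferInstance, inferInstance, τ, IsLocalRing.closedPoint A, η, hclosed, ?_, fun t => ?_⟩
  · have h1 : η = Spec.map (CommRingCat.ofHom A.subtype) (IsLocalRing.closedPoint (S.residueField s')) := by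
      refine PrimeSpectrum.ext (Ideal.ext fun a => ?_)
      show a ∈ (⊥ : Ideal A) ↔ A.subtype a ∈ IsLocalRing.maximalIdeal (S.residueField s')
      rw [IsLocalRing.maximalIdeal_eq_bot, Ideal.mem_bot, Ideal.mem_bot]
      exact (map_eq_zero_iff A.subtype Subtype.val_injective).symm
    rw [h1]
    show (Spec.map (CommRingCat.ofHom A.subtype) ≫ τ) _ = s'
    rw [hgen, Category.comp_id]
    have : S.fromSpecResidueField s' (IsLocalRing.closedPoint (S.residueField s')) ∈
        Set.range (S.fromSpecResidueField s') := ⟨_, rfl⟩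
    rwa [Scheme.range_fromSpecResidueField] at this
  · exact (PrimeSpectrum.le_iff_specializes (⟨⊥, Ideal.isPrime_bot⟩ : PrimeSpectrum A)
      (t : PrimeSpectrum A)).1 bot_le

variable {X Y : Scheme.{u}} (f : X ⟶ Y) [LocallyOfFiniteType f]

/-- At a point where `f` is universally open the fibres over generizations are at least as big. -/
theorem exists_rd_ge_of_univOpenAt {x : X} (h : EGA43.IsUnivOpenAt f x) (U : X.Opens) (hx : x ∈ U) {y' : Y}
    (hy : y' ⤳ f x) : ∃ z ∈ U, f z = y' ∧ rd f x ≤ rd f z := by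
  by_cases hne : f x = y'
  · exact ⟨x, hx, hne, le_rfl⟩
  obtain ⟨A, _, _, _, τ, pt, η, hpt, hη, hgen⟩ := exists_valuation_lift hy hne
  obtain ⟨x', hx'p, hx'q, hx'rd⟩ := exists_rd_baseChange_eq (IsPullback.of_hasPullback f τ) x pt hpt.symm
  obtain ⟨ζ, hζ, hζη⟩ := exists_generization_of_isOpenAt (pullback.snd f τ) (h _ τ x' hx'p)
    (y' := η) (hgen _)
  refine ⟨pullback.fst f τ ζ, ?_, ?_, ?_⟩
  · exact ((hζ.map (pullback.fst f τ).continuous).trans (specializes_of_eq hx'p)).mem_open U.isOpen hx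
  · show (pullback.fst f τ ≫ f) ζ = y'
    rw [pullback.condition, Scheme.Hom.comp_apply, hζη, hη]
  · have h1 := rd_le_of_valuationRing (pullback.snd f τ) hζ (fun t => hζη ▸ hgen t)
    exact (hx'rd.symm.le.trans h1).trans (rd_baseChange_le (IsPullback.of_hasPullback f τ) ζ)

omit [LocallyOfFiniteType f] in
theorem fiber_apply_resLE {V : Y.Opens} {U : X.Opens} (hUV : U ≤ f ⁻¹ᵁ V) (z : (U : Scheme.{u})) :
    ((f.resLE V U hUV) z).1 = f (U.ι z) := by
  show (f.resLE V U hUV ≫ V.ι) z = (U.ι ≫ f) z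
  rw [Scheme.Hom.resLE_comp_ι]

/-- Finitely many points generate a fibre inside an affine open. -/
theorem exists_finite_generic_fibre {V : Y.Opens} (hV : IsAffineOpen V) {U : X.Opens} (hU : IsAffineOpen U)
    (hUV : U ≤ f ⁻¹ᵁ V) {y : Y} (hy : y ∈ V) :
    ∃ P : Finset X, (∀ p ∈ P, p ∈ U ∧ f p = y) ∧ ∀ w ∈ U, f w = y → ∃ p ∈ P, p ⤳ w := by
  classical
  haveI : IsAffine (U : Scheme.{u}) := hU
  haveI : IsAffine (V : Scheme.{u}) := hV
  haveI : LocallyOfFiniteType (f.resLE V U hUV ≫ V.ι) := by rw [Scheme.Hom.resLE_comp_ι]; infer_instance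
  haveI : LocallyOfFiniteType (f.resLE V U hUV) := locallyOfFiniteType_of_comp _ V.ι
  let g := f.resLE V U hUV
  let y₀ : (V : Scheme.{u}) := ⟨y, hy⟩
  haveI : IsLocallyNoetherian (g.fiber y₀) :=
    LocallyOfFiniteType.isLocallyNoetherian (g.fiberToSpecResidueField y₀)
  haveI : CompactSpace (g.fiber y₀) := inferInstance
  haveI : IsNoetherian (g.fiber y₀) := {}
  haveI : TopologicalSpace.NoetherianSpace (g.fiber y₀) := inferInstance
  obtain ⟨P, -, hP⟩ := exists_finite_generic (Z := g.fiber y₀) (S := Set.univ) isClosed_univ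
  refine ⟨P.image fun p => U.ι (g.fiberι y₀ p), fun p hp => ?_, fun w hw hfw => ?_⟩
  · obtain ⟨a, -, rfl⟩ := Finset.mem_image.1 hp
    refine ⟨(g.fiberι y₀ a).2, ?_⟩
    rw [← fiber_apply_resLE f hUV, fiber_apply_fiberι g a]
  · obtain ⟨a, ha⟩ : (⟨w, hw⟩ : (U : Scheme.{u})) ∈ Set.range (g.fiberι y₀) := by
      rw [Scheme.Hom.range_fiberι]
      exact Subtype.ext ((fiber_apply_resLE f hUV _).trans hfw)
    obtain ⟨p, hp, hpa⟩ := Set.mem_iUnion₂.1 (hP (Set.mem_univ a))
    refine ⟨_, Finset.mem_image.2 ⟨p, hp, rfl⟩, ?_⟩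
    have := (specializes_iff_mem_closure.2 hpa).map (g.fiberι y₀).continuous
    rw [ha] at this
    exact this.map U.ι.continuous

/-- If all neighbourhoods of a maximal point of a fibre meet a fibre over a generization in dimension at
least that at the point, some point over the generization of that dimension specializes to it. -/
theorem exists_generization_of_dim_ge {x : X} (hx : FibMax f x) {η : Y} (hη : η ⤳ f x)
    (h : ∀ U : X.Opens, x ∈ U →
      FlatMor.fibreDimAt f x ≤ topologicalKrullDim ↥((U : Set X) ∩ f ⁻¹' {η})) :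
    ∃ ζ, ζ ⤳ x ∧ f ζ = η ∧ rd f ζ = rd f x ∧ FibMax f ζ := by
  obtain ⟨U₀, hxU₀, hU₀⟩ := exists_nhd_rd_le f x (rd f x) (le_of_eq (fibreDimAt_eq_rd f hx))
  obtain ⟨V, hV, hxV, -⟩ := exists_isAffineOpen_mem_and_subset (x := f x) (U := ⊤) trivial
  obtain ⟨U, hU, hxU, hUsub⟩ := exists_isAffineOpen_mem_and_subset (x := x) (U := f ⁻¹ᵁ V ⊓ U₀) ⟨hxV, hxU₀⟩
  obtain ⟨P, hP, hcov⟩ := exists_finite_generic_fibre f hV hU (fun z hz => (hUsub hz).1) (hη.mem_open V.isOpen hxV)
  classical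
  have hC : IsClosed (⋃ p ∈ P.filter (fun p => ¬ p ⤳ x), closure ({p} : Set X)) :=
    Set.Finite.isClosed_biUnion (P.filter _).finite_toSet fun _ _ => isClosed_closure
  let O : X.Opens := U ⊓ ⟨_, hC.isOpen_compl⟩
  have hxO : x ∈ O := ⟨hxU, fun hmem => by
    obtain ⟨p, hp, hpx⟩ := Set.mem_iUnion₂.1 hmem
    exact (Finset.mem_filter.1 hp).2 (specializes_iff_mem_closure.2 hpx)⟩
  obtain ⟨w, hwO, hfw, hw⟩ : ∃ w ∈ O, f w = η ∧ rd f x ≤ rd f w := by
    by_contra hne
    push Not at hne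
    have h1 := h O hxO
    rw [dim_open_inter_eq_iSup f η O.isOpen, fibreDimAt_eq_rd f hx] at h1
    rcases Nat.eq_zero_or_pos (rd f x) with h0 | hpos
    · rcases isEmpty_or_nonempty ↥((O : Set X) ∩ f ⁻¹' {η}) with hemp | ⟨⟨w, hw1, hw2⟩⟩
      · rw [iSup_of_empty] at h1
        exact WithBot.coe_ne_bot (le_bot_iff.1 h1)
      · exact absurd (hne w hw1 hw2) (by omega)
    · have h2 : (⨆ z : ↥((O : Set X) ∩ f ⁻¹' {η}), ((rd f z.1 : ℕ∞) : WithBot ℕ∞)) ≤ ((rd f x - 1 : ℕ) : WithBot ℕ∞) :=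
        iSup_le fun z => by
          have := hne z.1 z.2.1 z.2.2
          exact WithBot.coe_le_coe.2 (Nat.cast_le.2 (show rd f z.1 ≤ rd f x - 1 by omega))
      have := h1.trans h2
      have : rd f x ≤ rd f x - 1 := Nat.cast_le.1 (WithBot.coe_le_coe.1 this)
      omega
  obtain ⟨p, hp, hpw⟩ := hcov w hwO.1 hfw
  have hpx : p ⤳ x := by
    by_contra hpx
    exact hwO.2 (Set.mem_iUnion₂.2 ⟨p, Finset.mem_filter.2 ⟨hp, hpx⟩, specializes_iff_mem_closure.1 hpw⟩)
  have hle : rd f x ≤ rd f p := hw.trans (rd_le_of_specializes f hpw ((hP p hp).2.trans hfw.symm))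
  have hge : ∀ v, v ⤳ x → rd f v ≤ rd f x := fun v hv => hU₀ v (hv.mem_open U₀.isOpen hxU₀)
  refine ⟨p, hpx, (hP p hp).2, le_antisymm (hge p hpx) hle, fun v hv hfv => ?_⟩
  by_contra hne
  have := rd_lt f hv hne hfv
  have := hge v (hv.trans hpx)
  omega

/-- Along generizations of the base, components of fibres of an open morphism keep their dimensions. -/
theorem exists_fibMax_eq_rd [IsLocallyNoetherian Y] (hf : IsOpenMap f) {z : X} (hz : FibMax f z) {y' : Y}
    (hy : y' ⤳ f z) : ∃ w, w ⤳ z ∧ f w = y' ∧ FibMax f w ∧ rd f w = rd f z := by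
  obtain ⟨ζ, hζ, hfζ, hr⟩ := exists_generization_rd_ge f (fun U hU => hf.image_mem_nhds hU) hy
  obtain ⟨w, hw, hfw, hm, hd⟩ := exists_fibMax_generization f ζ
  refine ⟨w, hw.trans hζ, hfw.trans hfζ, hm, le_antisymm ?_ ?_⟩
  · have := fibreDimAt_ge_rd f (hw.trans hζ)
    rw [fibreDimAt_eq_rd f hz] at this
    exact_mod_cast this
  · exact hr.trans (rd_le_of_specializes f hw hfw)

/-- EGA IV 14.3: local constancy of the dimensions of components of fibres. -/
theorem exists_nhds_dims [IsLocallyNoetherian Y] [QuasiCompact f] (hf : IsOpenMap f) {z : X} (hz : FibMax f z) :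
    {y : Y | ∃ w, f w = y ∧ FibMax f w ∧ rd f w = rd f z} ∈ nhds (f z) := by
  haveI := LocallyOfFiniteType.isLocallyNoetherian f
  obtain ⟨O, hzO, hO⟩ := exists_nhd_rd_le f z (rd f z) (le_of_eq (fibreDimAt_eq_rd f hz))
  have hL := isLocallyConstructible_inter O.isOpen (isClosed_le_fibreDimAt f (rd f z : ℕ))
  refine Filter.mem_of_superset (image_mem_nhds f hL fun y' hy' => ?_) ?_
  · obtain ⟨w, hw, hfw, hm, he⟩ := exists_fibMax_eq_rd f hf hz hy'
    exact ⟨w, ⟨hw.mem_open O.isOpen hzO, by rw [Set.mem_setOf_eq, fibreDimAt_eq_rd f hm, he]; exact le_refl _⟩, hfw⟩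
  · rintro _ ⟨w, ⟨hwO, hwd⟩, rfl⟩
    obtain ⟨v, hv, hfv, hm, hd⟩ := exists_fibMax_generization f w
    refine ⟨v, hfv, hm, le_antisymm (hO v (hv.mem_open O.isOpen hwO)) ?_⟩
    rw [Set.mem_setOf_eq, hd] at hwd
    exact_mod_cast hwd

end Groth.Agent.FibDim
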