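import Groth.Agent.FibDim.FlatBC
import Groth.Agent.CycLib.Pull
import Groth.Agent.UnivOpen.Criterion
import Groth.Agent.DimFormula.Open

/-!
# Fibre dimensions: composition, base change, flat morphisms
-/

set_option autoImplicit false
set_option linter.style.haveILetI false

open AlgebraicGeometry CategoryTheory Limits Topology

namespace Groth.Agent.FibDim

universe u

variable {X Y Z X' Y' : Scheme.{u}}

theorem trdeg_lt_of_specializes (f : X ⟶ Y) [LocallyOfFiniteType f] {x x' : X} (h : x ⤳ x') (hne : x ≠ x')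
    (he : f x = f x') : VarDim.rdeg f x' < VarDim.rdeg f x := by
  rw [← rd_eq_rdeg, ← rd_eq_rdeg]
  exact_mod_cast rd_lt f h hne he

theorem localDim_le_of_specializes {α : Type u} [TopologicalSpace α] {x x' : α} (h : x ⤳ x') :
    FlatMor.localDim α x ≤ FlatMor.localDim α x' :=
  le_iInf fun U => iInf_le_of_le ⟨U.1, h.mem_open U.1.2 U.2⟩ le_rfl

theorem ringKrullDim_stalk_lt [IsLocallyNoetherian X] {x x' : X} (h : x ⤳ x') (hne : x ≠ x') :
    ringKrullDim (X.presheaf.stalk x) < ringKrullDim (X.presheaf.stalk x') := by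
  rw [DimFormula.ringKrullDim_stalk, DimFormula.ringKrullDim_stalk]
  suffices DimFormula.codim x < DimFormula.codim x' by exact_mod_cast this
  have h1 := DimFormula.codim_mono_add h
  have hlt : x' < x := lt_of_le_not_ge (α := X) h fun h' => hne (h.antisymm h').eq
  have h2 := DimFormula.le_cd h ((RelSeries.singleton _ x').snoc x hlt)
    (by rw [RelSeries.head_snoc, RelSeries.head_singleton])
    (by rw [RelSeries.last_snoc])
  rw [RelSeries.snoc_length, RelSeries.singleton_length] at h2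
  omega

/-- Base change does not change fibre dimensions. -/
theorem fibreDimAt_baseChange {p : X' ⟶ X} {q : X' ⟶ Y'} {f : X ⟶ Y} {g : Y' ⟶ Y}
    [LocallyOfFiniteType f] [LocallyOfFiniteType q] (h : IsPullback p q f g) (x' : X') :
    FlatMor.fibreDimAt q x' = FlatMor.fibreDimAt f (p x') := by
  have hw : ∀ w, f (p w) = g (q w) := fun w => by
    show (p ≫ f) w = (q ≫ g) w
    rw [h.w]
  refine le_antisymm ?_ ?_
  · obtain ⟨z, hz, hqz, -, he⟩ := exists_fibMax_generization q x'
    rw [he]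
    refine le_trans ?_ (rd_le_fibreDimAt f (hz.map p.continuous) (by rw [hw, hw, hqz]))
    exact_mod_cast rd_baseChange_le h z
  · obtain ⟨z, hz, hfz, hmax, he⟩ := exists_fibMax_generization f (p x')
    rw [he]
    have h' : IsPullback (q.fiberι (q x') ≫ p) (q.fiberToSpecResidueField (q x')) f
        (Y'.fromSpecResidueField (q x') ≫ g) :=
      (IsPullback.of_hasPullback q (Y'.fromSpecResidueField (q x'))).paste_horiz h
    obtain ⟨u, hu, hpu⟩ := exists_generization_lift h'.flip (x' := q.asFiber x') (b := z)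
      (by show z ⤳ p (q.fiberι (q x') (q.asFiber x')); rw [Scheme.Hom.fiberι_asFiber]; exact hz)
      (by show f z = f (p (q.fiberι (q x') (q.asFiber x'))); rw [Scheme.Hom.fiberι_asFiber]; exact hfz)
    have hux : q.fiberι (q x') u ⤳ x' := by
      have := hu.map (q.fiberι (q x')).continuous
      rwa [Scheme.Hom.fiberι_asFiber] at this
    have hqu : q (q.fiberι (q x') u) = q x' := fiber_apply_fiberι q u
    obtain ⟨w, hw', hqw, hwmax, -⟩ := exists_fibMax_generization q (q.fiberι (q x') u)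
    have hpw : p w = z := by
      refine hmax _ (hpu ▸ hw'.map p.continuous) ?_
      rw [hw, hqw, hqu, ← hw, ← hfz]
    have hrd : rd q w = rd f z := by
      rw [rd_baseChange_eq_of_minimal h w fun v hv _ hqv => hwmax v hv hqv, hpw]
    rw [← hrd]
    exact rd_le_fibreDimAt q (hw'.trans hux) (hqw.trans hqu)

theorem hasRelDim_baseChange {p : X' ⟶ X} {q : X' ⟶ Y'} {f : X ⟶ Y} {g : Y' ⟶ Y}
    [LocallyOfFiniteType f] [LocallyOfFiniteType q] (h : IsPullback p q f g) {d : ℕ}
    (hd : Cyc.HasRelDim f d) : Cyc.HasRelDim q d := by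
  refine (CycLib.hasRelDim_iff q).2 fun z hz => ?_
  rw [rd_baseChange_eq_of_minimal h z fun w hw _ hqw => hz w hw hqw,
    CycLib.rd_eq_of_hasRelDim f hd (fibMax_of_baseChange h hz)]

theorem fibreDimAt_comp_le (f : X ⟶ Y) (g : Y ⟶ Z) [LocallyOfFiniteType f] [LocallyOfFiniteType g] (x : X) :
    FlatMor.fibreDimAt (f ≫ g) x ≤ FlatMor.fibreDimAt f x + FlatMor.fibreDimAt g (f x) := by
  obtain ⟨z, hz, hfz, -, he⟩ := exists_fibMax_generization (f ≫ g) x
  rw [he, CycLib.rd_comp, add_comm (rd g (f z)) (rd f z)]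
  push_cast
  exact add_le_add (fibreDimAt_ge_rd f hz) (rd_le_fibreDimAt g (hz.map f.continuous) hfz)

/-- Flatness of a stalk map lifts generizations at all generizations of the point. -/
theorem lifts_of_flat_stalk (f : X ⟶ Y) {x z : X} (hf : (f.stalkMap x).hom.Flat) (hz : z ⤳ x) {t : Y}
    (ht : t ⤳ f z) : ∃ ζ, ζ ⤳ z ∧ f ζ = t := by
  obtain ⟨P, rfl⟩ := DimFormula.fromSpecStalk_range_of_specializes hz
  algebraize [(f.stalkMap x).hom]
  have hcomm : ∀ Q, f (X.fromSpecStalk x Q) =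
      Y.fromSpecStalk (f x) (PrimeSpectrum.comap (f.stalkMap x).hom Q) := fun Q => by
    show (X.fromSpecStalk x ≫ f) Q = _
    rw [← Scheme.SpecMap_stalkMap_fromSpecStalk]
    rfl
  rw [hcomm] at ht
  obtain ⟨p, rfl⟩ : t ∈ Set.range (Y.fromSpecStalk (f x)) := by
    rw [Scheme.range_fromSpecStalk]
    refine ht.trans ?_
    have : Y.fromSpecStalk (f x) (PrimeSpectrum.comap (f.stalkMap x).hom P) ∈ Set.range (Y.fromSpecStalk (f x)) :=
      ⟨_, rfl⟩
    rwa [Scheme.range_fromSpecStalk] at this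
  have hle : (p : PrimeSpectrum (Y.presheaf.stalk (f x))).asIdeal ≤
      (PrimeSpectrum.comap (f.stalkMap x).hom P).asIdeal :=
    (PrimeSpectrum.le_iff_specializes (p : PrimeSpectrum (Y.presheaf.stalk (f x)))
      (PrimeSpectrum.comap (f.stalkMap x).hom P)).2
      ((Y.fromSpecStalk (f x)).isEmbedding.isInducing.specializes_iff.1 ht)
  let Pi : Ideal (X.presheaf.stalk x) := (P : PrimeSpectrum (X.presheaf.stalk x)).asIdeal
  let pi : Ideal (Y.presheaf.stalk (f x)) := (p : PrimeSpectrum (Y.presheaf.stalk (f x))).asIdeal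
  have : Pi.IsPrime := (P : PrimeSpectrum (X.presheaf.stalk x)).isPrime
  have : pi.IsPrime := (p : PrimeSpectrum (Y.presheaf.stalk (f x))).isPrime
  obtain ⟨Q, hQP, hQ, hQp⟩ := Ideal.exists_ideal_le_liesOver_of_le Pi (p := pi)
    (q := Pi.under (Y.presheaf.stalk (f x))) hle
  refine ⟨X.fromSpecStalk x (⟨Q, hQ⟩ : PrimeSpectrum (X.presheaf.stalk x)),
    Specializes.map ((PrimeSpectrum.le_iff_specializes _ _).1 hQP) (X.fromSpecStalk x).continuous, ?_⟩
  rw [hcomm]
  exact congrArg (Y.fromSpecStalk (f x)) (PrimeSpectrum.ext hQp.over.symm)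

theorem rdeg_congr_preimmersion {W W' : Scheme.{u}} {a : W ⟶ X} {b : W' ⟶ Y} [IsPreimmersion a]
    [IsPreimmersion b] {f : X ⟶ Y} {f' : W ⟶ W'} (h : f' ≫ b = a ≫ f) (w : W) :
    VarDim.rdeg f' w = VarDim.rdeg f (a w) := by
  have h1 := VarDim.rdeg_congr h w
  rw [VarDim.rdeg_comp, VarDim.rdeg_comp, VarDim.rdeg_preimmersion a, VarDim.rdeg_preimmersion b,
    zero_add, add_zero] at h1
  exact h1

theorem fibreDimAt_comp_of_flat (f : X ⟶ Y) (g : Y ⟶ Z) [LocallyOfFiniteType f] [LocallyOfFiniteType g]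
    (x : X) (hf : (f.stalkMap x).hom.Flat) :
    FlatMor.fibreDimAt (f ≫ g) x = FlatMor.fibreDimAt f x + FlatMor.fibreDimAt g (f x) := by
  refine le_antisymm (fibreDimAt_comp_le f g x) ?_
  obtain ⟨z, hz, hfz, hzmax, hze⟩ := exists_fibMax_generization f x
  obtain ⟨y', hy', hgy', -, hye⟩ := exists_fibMax_generization g (f x)
  let s := g (f x)
  haveI : IsLocallyNoetherian (g.fiber s) :=
    LocallyOfFiniteType.isLocallyNoetherian (g.fiberToSpecResidueField s)
  let a := pullback.fst f (g.fiberι s)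
  let f' := pullback.snd f (g.fiberι s)
  have hsq : f' ≫ g.fiberι s = a ≫ f := pullback.condition.symm
  have hcomm : ∀ w, g.fiberι s (f' w) = f (a w) := fun w => by
    show (f' ≫ g.fiberι s) w = (a ≫ f) w
    rw [hsq]
  have hlift : ∀ (v : X) (w : ↥(g.fiber s)), f v = g.fiberι s w → ∃ v', a v' = v ∧ f' v' = w :=
    fun v w hvw => Scheme.Pullback.exists_preimage_pullback v w hvw
  obtain ⟨w, hw⟩ : f z ∈ Set.range (g.fiberι s) := by rw [Scheme.Hom.range_fiberι, hfz]; rfl
  obtain ⟨z', rfl, -⟩ := hlift z w hw.symm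
  obtain ⟨t, ht⟩ : y' ∈ Set.range (g.fiberι s) := by rw [Scheme.Hom.range_fiberι]; exact hgy'
  have hmax' : FibMax f' z' := fun v hv hfv => a.isEmbedding.injective
    (hzmax _ (hv.map a.continuous) (by rw [← hcomm, ← hcomm, hfv]))
  have hopen : EGA43.IsOpenAt f'.base z' := UnivOpen.isOpenAt_of_lifts f' z' fun u hu => by
    obtain ⟨ζ, hζ, hfζ⟩ := lifts_of_flat_stalk f hf hz (t := g.fiberι s u)
      (hcomm z' ▸ hu.map (g.fiberι s).continuous)
    obtain ⟨ζ', rfl, hζ'⟩ := hlift ζ u hfζ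
    exact ⟨ζ', a.isEmbedding.isInducing.specializes_iff.1 hζ, hζ'⟩
  obtain ⟨ζ, hζ, hfζ, -, hrd⟩ := exists_fibMax_eq_of_isOpenAt f' hmax' hopen (y' := t) (by
    rw [← (g.fiberι s).isEmbedding.isInducing.specializes_iff, ht, hcomm]
    exact hy'.trans (specializes_of_eq hfz.symm))
  have hrd' : rd f (a ζ) = rd f (a z') := by
    have h1 := rdeg_congr_preimmersion hsq ζ
    have h2 := rdeg_congr_preimmersion hsq z'
    rw [← rd_eq_rdeg f', ← rd_eq_rdeg f] at h1 h2
    exact_mod_cast h1.symm.trans ((congrArg Nat.cast hrd).trans h2)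
  have hfa : f (a ζ) = y' := by rw [← hcomm, hfζ, ht]
  have := rd_le_fibreDimAt (f ≫ g) (z := a ζ) (x := x) ((hζ.map a.continuous).trans hz)
    (by rw [Scheme.Hom.comp_apply, Scheme.Hom.comp_apply, hfa, hgy'])
  rw [CycLib.rd_comp, hfa, hrd', add_comm (rd g y')] at this
  rw [hze, hye]
  push_cast at this
  exact this

theorem fibreDimAt_eq_of_hasRelDim (f : X ⟶ Y) [LocallyOfFiniteType f] {d : ℕ} (hd : Cyc.HasRelDim f d)
    (x : X) : FlatMor.fibreDimAt f x = ((d : ℕ∞) : WithBot ℕ∞) := by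
  obtain ⟨z, -, -, hmax, he⟩ := exists_fibMax_generization f x
  rw [he, CycLib.rd_eq_of_hasRelDim f hd hmax]

end Groth.Agent.FibDim
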