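import Groth.Agent.FibDim.Semicont
import Groth.Agent.FibDim.Comp
import Groth.Agent.FibDim.Minimal
import Mathlib.AlgebraicGeometry.AffineSpace
import Mathlib.AlgebraicGeometry.Morphisms.QuasiFinite

/-!
# Fibres of affine space and quasi-finite morphisms
-/

set_option autoImplicit false
set_option linter.style.haveILetI false

open AlgebraicGeometry CategoryTheory Limits Topology

namespace Groth.Agent.FibDim

universe u

variable {X Y : Scheme.{u}} (e : ℕ)

theorem affineSpace_fibre (y : Y) :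
    IrreducibleSpace ↥((𝔸(ULift.{u} (Fin e); Y) ↘ Y).fiber y) ∧
      topologicalKrullDim ↥((𝔸(ULift.{u} (Fin e); Y) ↘ Y).fiber y) = e := by
  let k := Y.residueField y
  let iso : (𝔸(ULift.{u} (Fin e); Y) ↘ Y).fiber y ≅
      Spec (CommRingCat.of (MvPolynomial (ULift.{u} (Fin e)) k)) :=
    (AffineSpace.isPullback_map (n := ULift.{u} (Fin e)) (Y.fromSpecResidueField y)).isoPullback.symm ≪≫
      AffineSpace.SpecIso _ k
  haveI : IrreducibleSpace ↥(Spec (CommRingCat.of (MvPolynomial (ULift.{u} (Fin e)) k))) :=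
    inferInstanceAs (IrreducibleSpace (PrimeSpectrum (MvPolynomial (ULift.{u} (Fin e)) k)))
  refine ⟨iso.inv.homeomorph.surjective.irreducibleSpace iso.inv.homeomorph.continuous, ?_⟩
  rw [iso.hom.homeomorph.isHomeomorph.topologicalKrullDim_eq]
  refine (PrimeSpectrum.topologicalKrullDim_eq_ringKrullDim _).trans ?_
  rw [MvPolynomial.ringKrullDim_of_isNoetherianRing, ringKrullDim_eq_zero_of_field, zero_add]
  simp

theorem rd_affineSpace_le (z : 𝔸(ULift.{u} (Fin e); Y)) : rd (𝔸(ULift.{u} (Fin e); Y) ↘ Y) z ≤ e := by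
  by_contra h
  have := (le_topologicalKrullDim_fiber_iff (𝔸(ULift.{u} (Fin e); Y) ↘ Y) _ (e + 1)).2 ⟨z, rfl, by omega⟩
  rw [(affineSpace_fibre e _).2] at this
  have : e + 1 ≤ e := by exact_mod_cast this
  omega

theorem fibMax_affineSpace {z z' : 𝔸(ULift.{u} (Fin e); Y)} (hz : FibMax (𝔸(ULift.{u} (Fin e); Y) ↘ Y) z)
    (he : (𝔸(ULift.{u} (Fin e); Y) ↘ Y) z' = (𝔸(ULift.{u} (Fin e); Y) ↘ Y) z) : z ⤳ z' := by
  let π := (𝔸(ULift.{u} (Fin e); Y) ↘ Y)
  haveI := (affineSpace_fibre e (π z)).1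
  obtain ⟨a, ha⟩ : z' ∈ Set.range (π.fiberι (π z)) := by rw [Scheme.Hom.range_fiberι]; exact he
  have hg := (genericPoint_spec ↥(π.fiber (π z))).specializes (Set.mem_univ (π.asFiber z))
  have h1 := hg.map (π.fiberι (π z)).continuous
  rw [Scheme.Hom.fiberι_asFiber] at h1
  have h2 := ((genericPoint_spec ↥(π.fiber (π z))).specializes (Set.mem_univ a)).map (π.fiberι (π z)).continuous
  rw [hz _ h1 (fiber_apply_fiberι π _), ha] at h2
  exact h2

theorem rd_affineSpace_fibMax {z : 𝔸(ULift.{u} (Fin e); Y)} (hz : FibMax (𝔸(ULift.{u} (Fin e); Y) ↘ Y) z) :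
    rd (𝔸(ULift.{u} (Fin e); Y) ↘ Y) z = e := by
  refine le_antisymm (rd_affineSpace_le e z) ?_
  obtain ⟨z', hz', hle⟩ := (le_topologicalKrullDim_fiber_iff (𝔸(ULift.{u} (Fin e); Y) ↘ Y)
    ((𝔸(ULift.{u} (Fin e); Y) ↘ Y) z) e).1 (le_of_eq (affineSpace_fibre e _).2.symm)
  exact hle.trans (rd_le_of_specializes _ (fibMax_affineSpace e hz hz') hz'.symm)

theorem rd_eq_zero_of_quasiFinite (g : X ⟶ Y) [LocallyOfFiniteType g] [LocallyQuasiFinite g] (x : X) :
    rd g x = 0 := by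
  have hset : closure {x} ∩ g ⁻¹' {g x} = {x} := by
    refine Set.eq_singleton_iff_unique_mem.2 ⟨⟨subset_closure rfl, rfl⟩, fun z hz => ?_⟩
    haveI : DiscreteTopology ↥(g ⁻¹' {g x}) := isDiscrete_iff_discreteTopology.1 (g.isDiscrete_preimage_singleton (g x))
    have h : (⟨x, rfl⟩ : ↥(g ⁻¹' {g x})) ⤳ ⟨z, hz.2⟩ :=
      IsInducing.subtypeVal.specializes_iff.1 (specializes_iff_mem_closure.2 hz.1)
    exact congrArg Subtype.val h.eq.symm
  have h := dim_closure_inter g x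
  rw [hset] at h
  have h1 : topologicalKrullDim ↥({x} : Set X) ≤ 0 := topologicalKrullDim_zero_of_discreteTopology _
  rw [h] at h1
  have h2 : ((rd g x : ℕ∞)) ≤ 0 := WithBot.coe_le_coe.1 h1
  exact_mod_cast nonpos_iff_eq_zero.1 h2

end Groth.Agent.FibDim
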