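import Groth.Agent.FibDim.Alg
import Groth.Agent.VarDim.Local
import Groth.Prelude.Def_Flat
import Mathlib.AlgebraicGeometry.Fiber
import Mathlib.AlgebraicGeometry.Noetherian
import Mathlib.AlgebraicGeometry.Morphisms.FiniteType

/-!
# Relative degree of a point and dimensions of pieces of fibres
-/

set_option autoImplicit false
set_option linter.style.haveILetI false

open AlgebraicGeometry CategoryTheory Topology

namespace Groth.Agent.FibDim

universe u

instance {k : Type u} [Field k] : IsLocallyNoetherian (Spec (CommRingCat.of k)) := inferInstance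

section NoethNhd

variable {X : Scheme.{u}}

/-- Near a point of a closed set of a locally Noetherian scheme, all points are specializations of
generizations of the point within the set. -/
theorem exists_nhd_generizing [IsLocallyNoetherian X] {Z : Set X} (hZ : IsClosed Z) (x : X) :
    ∃ W : X.Opens, x ∈ W ∧ ∀ z ∈ W, z ∈ Z → ∃ η ∈ Z, η ⤳ x ∧ η ⤳ z := by
  obtain ⟨U, hU, hx, -⟩ := exists_isAffineOpen_mem_and_subset (x := x) (U := ⊤) trivial
  haveI : IsNoetherianRing Γ(X, U) := IsLocallyNoetherian.component_noetherian ⟨U, hU⟩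
  obtain ⟨I, hI⟩ := (PrimeSpectrum.isClosed_iff_zeroLocus_ideal (hU.fromSpec ⁻¹' Z)).mp
    (hZ.preimage hU.fromSpec.continuous)
  obtain ⟨p, rfl⟩ : x ∈ Set.range hU.fromSpec := by rw [hU.range_fromSpec]; exact hx
  let S : Set (Ideal Γ(X, U)) := {q ∈ I.minimalPrimes | ¬ q ≤ p.asIdeal}
  have hC : IsClosed (⋃ q ∈ S, PrimeSpectrum.zeroLocus (q : Set Γ(X, U))) :=
    (I.finite_minimalPrimes_of_isNoetherianRing.subset fun q hq => hq.1).isClosed_biUnion
      fun q _ => PrimeSpectrum.isClosed_zeroLocus _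
  refine ⟨⟨hU.fromSpec '' (⋃ q ∈ S, PrimeSpectrum.zeroLocus (q : Set Γ(X, U)))ᶜ,
    hU.fromSpec.isOpenEmbedding.isOpenMap _ hC.isOpen_compl⟩, ⟨p, ?_, rfl⟩, ?_⟩
  · intro hmem
    obtain ⟨q, hq, hqp⟩ := Set.mem_iUnion₂.1 hmem
    exact hq.2 hqp
  · rintro _ ⟨(r : PrimeSpectrum Γ(X, U)), hr, rfl⟩ hrZ
    have hIr : r ∈ PrimeSpectrum.zeroLocus (I : Set Γ(X, U)) := hI.le hrZ
    obtain ⟨q, hq, hqr⟩ := Ideal.exists_minimalPrimes_le (show I ≤ r.asIdeal from hIr)
    have hqp : q ≤ p.asIdeal := by_contra fun h => hr (Set.mem_iUnion₂.2 ⟨q, ⟨hq, h⟩, hqr⟩)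
    refine ⟨hU.fromSpec (⟨q, hq.1.1⟩ : PrimeSpectrum Γ(X, U)),
      hI.ge (show I ≤ q from hq.1.2), ?_, ?_⟩
    · exact (VarDim.fromSpec_specializes_iff hU _ _).2 hqp
    · exact (VarDim.fromSpec_specializes_iff hU _ _).2 hqr

end NoethNhd

section OverField

variable {k : Type u} [Field k] {X : Scheme.{u}} (f : X ⟶ Spec (CommRingCat.of k))
  [LocallyOfFiniteType f]

theorem topologicalKrullDim_locClosed_eq_iSup_deg {W Z : Set X} (hW : IsOpen W) (hZ : IsClosed Z) :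
    topologicalKrullDim ↥(W ∩ Z) = ⨆ z : ↥(W ∩ Z), ((VarDim.deg f z.1 : ℕ∞) : WithBot ℕ∞) := by
  let U : X.Opens := ⟨W, hW⟩
  have h : U.ι '' (U.ι ⁻¹' Z) = W ∩ Z := by
    rw [Set.image_preimage_eq_inter_range, Scheme.Opens.range_ι, Set.inter_comm]
    rfl
  let e : ↥(U.ι ⁻¹' Z) ≃ₜ ↥(W ∩ Z) :=
    (U.ι.isOpenEmbedding.isEmbedding.homeomorphImage _).trans (Homeomorph.setCongr h)
  rw [← e.isHomeomorph.topologicalKrullDim_eq,
    VarDim.topologicalKrullDim_set_eq_iSup_deg (U.ι ≫ f) (hZ.preimage U.ι.continuous)]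
  exact e.toEquiv.iSup_congr fun z => by rw [VarDim.deg_comp]; rfl

end OverField

variable {X Y : Scheme.{u}} (f : X ⟶ Y) [LocallyOfFiniteType f]

instance locallyOfFiniteType_fiberToSpecResidueField (y : Y) :
    LocallyOfFiniteType (f.fiberToSpecResidueField y) :=
  inferInstanceAs (LocallyOfFiniteType (Limits.pullback.snd f _))

instance locallyOfFiniteType_fiberToSpecResidueField' (y : Y) :
    LocallyOfFiniteType (Y := Spec (CommRingCat.of ↑(Y.residueField y)))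
      (f.fiberToSpecResidueField y) :=
  locallyOfFiniteType_fiberToSpecResidueField f y

/-- The transcendence degree of `κ(x)` over `κ(f x)`. -/
noncomputable def rd (x : X) : ℕ :=
  VarDim.deg (k := Y.residueField (f x)) (f.fiberToSpecResidueField (f x)) (f.asFiber x)

theorem deg_fiber (y : Y) (z : ↥(f.fiber y)) :
    VarDim.deg (k := Y.residueField y) (f.fiberToSpecResidueField y) z = rd f (f.fiberι y z) := by
  have hy : f (f.fiberι y z) = y := by
    have : f.fiberι y z ∈ Set.range (f.fiberι y) := ⟨z, rfl⟩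
    rw [Scheme.Hom.range_fiberι] at this
    exact this
  suffices ∀ (y' : Y) (_ : y' = y) (z' : ↥(f.fiber y')), f.fiberι y' z' = f.fiberι y z →
      VarDim.deg (k := Y.residueField y') (f.fiberToSpecResidueField y') z' =
        VarDim.deg (k := Y.residueField y) (f.fiberToSpecResidueField y) z from
    (this _ hy (f.asFiber _) (f.fiberι_asFiber _)).symm
  rintro _ rfl z' hz'
  rw [(f.fiberι _).isEmbedding.injective hz']

/-- A piece of a fibre, transported to the fibre scheme. -/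
noncomputable def pieceHomeo (y : Y) (S : Set X) :
    ↥(f.fiberι y ⁻¹' S) ≃ₜ ↥(S ∩ f ⁻¹' {y}) :=
  ((f.fiberι y).isEmbedding.homeomorphImage _).trans (Homeomorph.setCongr (by
    rw [Set.image_preimage_eq_inter_range, Scheme.Hom.range_fiberι]))

omit [LocallyOfFiniteType f] in
@[simp] theorem pieceHomeo_apply (y : Y) (S : Set X) (z : ↥(f.fiberι y ⁻¹' S)) :
    ((pieceHomeo f y S z : ↥(S ∩ f ⁻¹' {y})) : X) = f.fiberι y z := rfl

theorem dim_inter_eq_iSup (y : Y) {W Z : Set X} (hW : IsOpen W) (hZ : IsClosed Z) :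
    topologicalKrullDim ↥(W ∩ Z ∩ f ⁻¹' {y}) =
      ⨆ z : ↥(W ∩ Z ∩ f ⁻¹' {y}), ((rd f z.1 : ℕ∞) : WithBot ℕ∞) := by
  rw [← (pieceHomeo f y (W ∩ Z)).isHomeomorph.topologicalKrullDim_eq, Set.preimage_inter,
    topologicalKrullDim_locClosed_eq_iSup_deg (k := Y.residueField y) (f.fiberToSpecResidueField y)
      (hW.preimage (f.fiberι y).continuous) (hZ.preimage (f.fiberι y).continuous)]
  exact (pieceHomeo f y (W ∩ Z)).toEquiv.iSup_congr fun z => by
    rw [deg_fiber]; rfl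

theorem dim_closed_inter_eq_iSup (y : Y) {Z : Set X} (hZ : IsClosed Z) :
    topologicalKrullDim ↥(Z ∩ f ⁻¹' {y}) =
      ⨆ z : ↥(Z ∩ f ⁻¹' {y}), ((rd f z.1 : ℕ∞) : WithBot ℕ∞) := by
  have := dim_inter_eq_iSup f y isOpen_univ hZ
  rwa [Set.univ_inter] at this

theorem dim_open_inter_eq_iSup (y : Y) {W : Set X} (hW : IsOpen W) :
    topologicalKrullDim ↥(W ∩ f ⁻¹' {y}) =
      ⨆ z : ↥(W ∩ f ⁻¹' {y}), ((rd f z.1 : ℕ∞) : WithBot ℕ∞) := by
  have := dim_inter_eq_iSup f y hW isClosed_univ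
  rwa [Set.inter_univ] at this

theorem dim_inter_le_iff (y : Y) {W Z : Set X} (hW : IsOpen W) (hZ : IsClosed Z) (n : ℕ) :
    topologicalKrullDim ↥(W ∩ Z ∩ f ⁻¹' {y}) ≤ n ↔ ∀ z ∈ W, z ∈ Z → f z = y → rd f z ≤ n := by
  rw [dim_inter_eq_iSup f y hW hZ, iSup_le_iff]
  refine ⟨fun h z h1 h2 h3 => ?_, fun h z => ?_⟩
  · exact_mod_cast h ⟨z, ⟨h1, h2⟩, h3⟩
  · exact_mod_cast h z.1 z.2.1.1 z.2.1.2 z.2.2

theorem rd_lt {x x' : X} (h : x ⤳ x') (hne : x ≠ x') (he : f x = f x') : rd f x' < rd f x := by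
  obtain ⟨z, hz⟩ : x ∈ Set.range (f.fiberι (f x')) := by rw [Scheme.Hom.range_fiberι]; exact he
  have hsp : z ⤳ f.asFiber x' := by
    rw [← (f.fiberι (f x')).isEmbedding.isInducing.specializes_iff, Scheme.Hom.fiberι_asFiber, hz]
    exact h
  have hne' : z ≠ f.asFiber x' := fun e => hne (by rw [← hz, e, Scheme.Hom.fiberι_asFiber])
  have := VarDim.deg_strictMono (k := Y.residueField (f x')) (f.fiberToSpecResidueField (f x'))
    (lt_iff_le_not_ge.2 ⟨hsp, fun h' => hne' (hsp.antisymm h').eq⟩ : (f.asFiber x') < z)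
  rwa [deg_fiber, deg_fiber, hz, Scheme.Hom.fiberι_asFiber] at this

theorem rd_le_of_specializes {x x' : X} (h : x ⤳ x') (he : f x = f x') : rd f x' ≤ rd f x := by
  by_cases hne : x = x'
  · rw [hne]
  · exact (rd_lt f h hne he).le

theorem dim_closure_inter (x : X) :
    topologicalKrullDim ↥(closure {x} ∩ f ⁻¹' {f x}) = ((rd f x : ℕ∞) : WithBot ℕ∞) := by
  rw [dim_closed_inter_eq_iSup f _ isClosed_closure]
  refine le_antisymm (iSup_le fun z => ?_) (le_iSup_of_le ⟨x, subset_closure rfl, rfl⟩ le_rfl)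
  exact_mod_cast rd_le_of_specializes f (specializes_iff_mem_closure.2 z.2.1) z.2.2.symm

theorem exists_max_rd {Z : Set X} {x : X} (hx : x ∈ Z) :
    ∃ z ∈ Z, z ⤳ x ∧ f z = f x ∧ ∀ z' ∈ Z, z' ⤳ x → f z' = f x → rd f z' ≤ rd f z := by
  obtain ⟨b, -, -, hb⟩ := VarDim.exists_deg_add_stalk (k := Y.residueField (f x))
    (f.fiberToSpecResidueField (f x)) (f.asFiber x)
  let S : Set ℕ := {n | ∃ z ∈ Z, z ⤳ x ∧ f z = f x ∧ rd f z = n}
  have hbd : BddAbove S := by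
    refine ⟨VarDim.deg (k := Y.residueField (f x)) (f.fiberToSpecResidueField (f x)) (f.asFiber x) + b, ?_⟩
    rintro n ⟨z, -, hzx, hfz, rfl⟩
    obtain ⟨w, hw⟩ : z ∈ Set.range (f.fiberι (f x)) := by rw [Scheme.Hom.range_fiberι]; exact hfz
    have := hb w (by
      rw [← (f.fiberι (f x)).isEmbedding.isInducing.specializes_iff, Scheme.Hom.fiberι_asFiber, hw]
      exact hzx)
    rwa [deg_fiber, hw] at this
  obtain ⟨z, hz, hzx, hfz, he⟩ := Nat.sSup_mem (s := S) ⟨_, x, hx, specializes_rfl, rfl, rfl⟩ hbd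
  exact ⟨z, hz, hzx, hfz, fun z' h1 h2 h3 => he ▸ le_csSup hbd ⟨z', h1, h2, h3, rfl⟩⟩

theorem exists_localDim_inter_eq {Z : Set X} (hZ : IsClosed Z) (x : X) (hx : x ∈ Z) :
    ∃ z ∈ Z, z ⤳ x ∧ f z = f x ∧
      FlatMor.localDim ↥(Z ∩ f ⁻¹' {f x}) ⟨x, hx, rfl⟩ = ((rd f z : ℕ∞) : WithBot ℕ∞) ∧
      ∀ z' ∈ Z, z' ⤳ x → f z' = f x → rd f z' ≤ rd f z := by
  obtain ⟨z, hz, hzx, hfz, hmax⟩ := exists_max_rd f hx
  refine ⟨z, hz, hzx, hfz, ?_, hmax⟩
  have key : ∀ W : Set X, IsOpen W →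
      topologicalKrullDim ↥(Subtype.val ⁻¹' W : Set ↥(Z ∩ f ⁻¹' {f x})) =
        topologicalKrullDim ↥(W ∩ Z ∩ f ⁻¹' {f x}) := fun W _ => by
    refine ((IsEmbedding.subtypeVal.homeomorphImage _).trans
      (Homeomorph.setCongr ?_)).isHomeomorph.topologicalKrullDim_eq
    rw [Subtype.image_preimage_coe, Set.inter_comm _ W, ← Set.inter_assoc]
  refine le_antisymm ?_ (le_iInf fun U => ?_)
  · haveI : IsLocallyNoetherian (f.fiber (f x)) :=
      LocallyOfFiniteType.isLocallyNoetherian (f.fiberToSpecResidueField (f x))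
    obtain ⟨W, hxW, hW⟩ := exists_nhd_generizing (hZ.preimage (f.fiberι (f x)).continuous) (f.asFiber x)
    obtain ⟨W', hW', hWW'⟩ := (f.fiberι (f x)).isEmbedding.isInducing.isOpen_iff.mp W.isOpen
    have hxW' : x ∈ W' := by
      have : f.asFiber x ∈ (f.fiberι (f x)) ⁻¹' W' := hWW'.symm ▸ hxW
      simpa [Scheme.Hom.fiberι_asFiber] using this
    refine iInf_le_of_le ⟨⟨Subtype.val ⁻¹' W', hW'.preimage continuous_subtype_val⟩, hxW'⟩ ?_
    refine (key W' hW').le.trans ?_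
    refine (dim_inter_le_iff f _ hW' hZ _).2 fun w h1 h2 h3 => ?_
    obtain ⟨w', rfl⟩ : w ∈ Set.range (f.fiberι (f x)) := by rw [Scheme.Hom.range_fiberι]; exact h3
    obtain ⟨η, hη, hηx, hηw⟩ := hW w' (hWW'.le h1) h2
    have hfη : f (f.fiberι (f x) η) = f x := by
      have : f.fiberι (f x) η ∈ Set.range (f.fiberι (f x)) := ⟨η, rfl⟩
      rw [Scheme.Hom.range_fiberι] at this
      exact this
    refine le_trans (rd_le_of_specializes f (hηw.map (f.fiberι (f x)).continuous)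
      (hfη.trans h3.symm)) (hmax _ hη ?_ hfη)
    have := hηx.map (f.fiberι (f x)).continuous
    rwa [Scheme.Hom.fiberι_asFiber] at this
  · obtain ⟨⟨U, hU⟩, hxU⟩ := U
    obtain ⟨W', hW', rfl⟩ := isOpen_induced_iff.mp hU
    rw [show topologicalKrullDim ↥((⟨_, hU⟩ : TopologicalSpace.Opens _) : Set ↥(Z ∩ f ⁻¹' {f x})) = _
      from key W' hW', dim_inter_eq_iSup f _ hW' hZ]
    exact le_iSup_of_le ⟨z, ⟨hzx.mem_open hW' hxU, hz⟩, hfz⟩ le_rfl

theorem localDim_homeomorph {α β : Type u} [TopologicalSpace α] [TopologicalSpace β] (e : α ≃ₜ β)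
    (a : α) : FlatMor.localDim β (e a) = FlatMor.localDim α a := by
  refine le_antisymm (le_iInf fun U => ?_) (le_iInf fun U => ?_)
  · refine iInf_le_of_le ⟨⟨e '' U.1, e.isOpenMap _ U.1.2⟩, ⟨a, U.2, rfl⟩⟩ (le_of_eq ?_)
    exact ((e.isEmbedding.homeomorphImage _).isHomeomorph.topologicalKrullDim_eq).symm
  · refine iInf_le_of_le ⟨⟨e ⁻¹' U.1, U.1.2.preimage e.continuous⟩, U.2⟩ (le_of_eq ?_)
    exact (e.sets (s := e ⁻¹' U.1) (t := U.1) rfl).isHomeomorph.topologicalKrullDim_eq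

theorem exists_fibreDimAt_eq (x : X) :
    ∃ z, z ⤳ x ∧ f z = f x ∧ FlatMor.fibreDimAt f x = ((rd f z : ℕ∞) : WithBot ℕ∞) ∧
      ∀ z', z' ⤳ x → f z' = f x → rd f z' ≤ rd f z := by
  obtain ⟨z, -, hzx, hfz, he, hmax⟩ := exists_localDim_inter_eq f isClosed_univ x trivial
  refine ⟨z, hzx, hfz, ?_, fun z' => hmax z' trivial⟩
  rw [← he]
  let e : ↥(f.fiber (f x)) ≃ₜ ↥(Set.univ ∩ f ⁻¹' {f x}) :=
    (f.fiberHomeo (f x)).trans (Homeomorph.setCongr (Set.univ_inter _).symm)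
  have : e (f.asFiber x) = ⟨x, trivial, rfl⟩ := Subtype.ext (f.fiberι_asFiber x)
  rw [← this, localDim_homeomorph]
  rfl

theorem fibreDimAt_le_iff (x : X) (n : ℕ) :
    FlatMor.fibreDimAt f x ≤ n ↔ ∀ z, z ⤳ x → f z = f x → rd f z ≤ n := by
  obtain ⟨z, hzx, hfz, he, hmax⟩ := exists_fibreDimAt_eq f x
  rw [he]
  refine ⟨fun h z' h1 h2 => (hmax z' h1 h2).trans (by exact_mod_cast h), fun h => ?_⟩
  exact_mod_cast h z hzx hfz

end Groth.Agent.FibDim
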