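import Groth.Agent.FibDim.Semicont
import Groth.Agent.FDescent.MaxPoint
import Groth.Prelude.Def_EGA43

/-!
# Maximal points of fibres, open restrictions, equidimensionality in terms of points
-/

set_option autoImplicit false
set_option linter.style.haveILetI false

open AlgebraicGeometry CategoryTheory Topology

namespace Groth.Agent.FibDim

universe u

variable {X Y : Scheme.{u}} (f : X ⟶ Y)

/-- `z` is a maximal point of its fibre. -/
def FibMax (z : X) : Prop := ∀ z', z' ⤳ z → f z' = f z → z' = z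

theorem fibMax_of_maximal {z : X} (h : ∀ z', z' ⤳ z → z' = z) : FibMax f z := fun z' h' _ => h z' h'

theorem fiber_apply_fiberι {y : Y} (w : ↥(f.fiber y)) : f (f.fiberι y w) = y := by
  have : f.fiberι y w ∈ Set.range (f.fiberι y) := ⟨w, rfl⟩
  rw [Scheme.Hom.range_fiberι] at this
  exact this

theorem fiberι_specializes_iff {y : Y} (a b : ↥(f.fiber y)) :
    f.fiberι y a ⤳ f.fiberι y b ↔ a ⤳ b :=
  (f.fiberι y).isEmbedding.isInducing.specializes_iff

theorem fibMax_fiberι_iff {y : Y} (w : ↥(f.fiber y)) :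
    FibMax f (f.fiberι y w) ↔ ∀ w', w' ⤳ w → w' = w := by
  constructor
  · intro h w' hw'
    exact (f.fiberι y).isEmbedding.injective (h _ ((fiberι_specializes_iff f _ _).2 hw')
      ((fiber_apply_fiberι f w').trans (fiber_apply_fiberι f w).symm))
  · intro h z hz hfz
    obtain ⟨w', rfl⟩ : z ∈ Set.range (f.fiberι y) := by
      rw [Scheme.Hom.range_fiberι]; exact hfz.trans (fiber_apply_fiberι f w)
    rw [h w' ((fiberι_specializes_iff f _ _).1 hz)]

/-- Transfer of the fibre-maximality notions used in the statements. -/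
theorem fibMax_fiberι_iff' {y : Y} (w : ↥(f.fiber y)) :
    FibMax f (f.fiberι y w) ↔ ∀ w', w ∈ closure {w'} → w' = w := by
  simp only [fibMax_fiberι_iff, ← specializes_iff_mem_closure]

variable [LocallyOfFiniteType f]

theorem exists_fibMax_generization (x : X) : ∃ z, z ⤳ x ∧ f z = f x ∧ FibMax f z ∧
    FlatMor.fibreDimAt f x = ((rd f z : ℕ∞) : WithBot ℕ∞) := by
  obtain ⟨z, hzx, hfz, he, hmax⟩ := exists_fibreDimAt_eq f x
  refine ⟨z, hzx, hfz, fun z' h1 h2 => ?_, he⟩
  by_contra hne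
  exact absurd (rd_lt f h1 hne h2) (not_lt.2 (hmax z' (h1.trans hzx) (h2.trans hfz)))

theorem fibreDimAt_eq_rd {z : X} (h : FibMax f z) :
    FlatMor.fibreDimAt f z = ((rd f z : ℕ∞) : WithBot ℕ∞) := by
  obtain ⟨z', h1, h2, he, -⟩ := exists_fibreDimAt_eq f z
  rw [he, h z' h1 h2]

theorem rd_le_fibreDimAt {x z : X} (h : z ⤳ x) (he : f z = f x) :
    ((rd f z : ℕ∞) : WithBot ℕ∞) ≤ FlatMor.fibreDimAt f x := by
  obtain ⟨z', -, -, he', hmax⟩ := exists_fibreDimAt_eq f x
  rw [he']
  exact_mod_cast hmax z h he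

theorem exists_fibMax_rd_ge {η x : X} (h : η ⤳ x) :
    ∃ z, z ⤳ x ∧ f z = f x ∧ FibMax f z ∧ rd f η ≤ rd f z := by
  obtain ⟨z, -, hzx, hfz, hle⟩ := exists_rd_ge f h
  obtain ⟨w, hwx, hfw, hmax, he⟩ := exists_fibMax_generization f x
  refine ⟨w, hwx, hfw, hmax, hle.trans ?_⟩
  have := rd_le_fibreDimAt f hzx hfz
  rw [he] at this
  exact_mod_cast this

theorem fibreDimAt_ge_rd {η x : X} (h : η ⤳ x) :
    ((rd f η : ℕ∞) : WithBot ℕ∞) ≤ FlatMor.fibreDimAt f x := by
  obtain ⟨z, -, hzx, hfz, hle⟩ := exists_rd_ge f h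
  exact le_trans (by exact_mod_cast hle) (rd_le_fibreDimAt f hzx hfz)

/-- If `η` is maximal in `X` and maps to `η'`, the fibre over `η'` inside `closure η` has dim `rd η`. -/
theorem dim_closure_inter_fibre (η : X) :
    topologicalKrullDim ↥(closure {η} ∩ f ⁻¹' {f η}) = ((rd f η : ℕ∞) : WithBot ℕ∞) :=
  dim_closure_inter f η

theorem rd_opens (U : X.Opens) (u : (U : Scheme.{u})) : rd (U.ι ≫ f) u = rd f (U.ι u) := by
  have h1 := dim_closure_inter (U.ι ≫ f) u
  have hset : U.ι '' (closure {u} ∩ (U.ι ≫ f) ⁻¹' {(U.ι ≫ f) u}) =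
      (U : Set X) ∩ closure {U.ι u} ∩ f ⁻¹' {f (U.ι u)} := by
    ext z
    constructor
    · rintro ⟨w, ⟨h1, h2⟩, rfl⟩
      refine ⟨⟨w.2, ?_⟩, h2⟩
      exact specializes_iff_mem_closure.1 ((specializes_iff_mem_closure.2 h1).map U.ι.continuous)
    · rintro ⟨⟨h1, h2⟩, h3⟩
      obtain ⟨w, rfl⟩ : z ∈ Set.range U.ι := by rw [Scheme.Opens.range_ι]; exact h1
      exact ⟨w, ⟨specializes_iff_mem_closure.1
        (U.ι.isOpenEmbedding.isInducing.specializes_iff.1 (specializes_iff_mem_closure.2 h2)), h3⟩, rfl⟩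
  rw [((U.ι.isOpenEmbedding.isEmbedding.homeomorphImage _).trans
    (Homeomorph.setCongr hset)).isHomeomorph.topologicalKrullDim_eq,
    dim_inter_eq_iSup f _ U.isOpen isClosed_closure] at h1
  have h2 : (⨆ z : ↥((U : Set X) ∩ closure {U.ι u} ∩ f ⁻¹' {f (U.ι u)}),
      ((rd f z.1 : ℕ∞) : WithBot ℕ∞)) = ((rd f (U.ι u) : ℕ∞) : WithBot ℕ∞) := by
    refine le_antisymm (iSup_le fun z => ?_)
      (le_iSup_of_le ⟨U.ι u, ⟨u.2, subset_closure rfl⟩, rfl⟩ le_rfl)
    exact_mod_cast rd_le_of_specializes f (specializes_iff_mem_closure.2 z.2.1.2) z.2.2.symm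
  rw [h2] at h1
  exact_mod_cast h1.symm

omit [LocallyOfFiniteType f] in
theorem fibMax_opens_iff (U : X.Opens) (u : (U : Scheme.{u})) :
    FibMax (U.ι ≫ f) u ↔ FibMax f (U.ι u) := by
  constructor
  · intro h z hz hfz
    obtain ⟨w, rfl⟩ : z ∈ Set.range U.ι := by
      rw [Scheme.Opens.range_ι]; exact hz.mem_open U.isOpen u.2
    rw [h w (U.ι.isOpenEmbedding.isInducing.specializes_iff.1 hz) hfz]
  · intro h w hw hfw
    exact U.ι.isOpenEmbedding.injective (h _ (hw.map U.ι.continuous) hfw)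

/-- `EGA43.IsEquidimAt` in terms of points. -/
theorem isEquidimAt_iff (x : X) :
    EGA43.IsEquidimAt f x ↔ ∃ (e : ℕ) (U : X.Opens), x ∈ U ∧
      (∀ η ∈ U, (∀ z, z ⤳ η → z = η) → (∀ y, y ⤳ f η → y = f η) ∧ f η ⤳ f x) ∧
      ∀ z ∈ U, FibMax f z → rd f z = e := by
  refine exists_congr fun e => exists_congr fun U => and_congr_right fun hxU => and_congr ?_ ?_
  all_goals
    haveI : QuasiSober ↥U := U.2.isOpenEmbedding_subtypeVal.quasiSober
    haveI : T0Space ↥U := inferInstance
  · constructor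
    · intro h η hη hmax
      let η' : (U : Scheme.{u}) := ⟨η, hη⟩
      obtain ⟨W, hW, hxW, hcl⟩ := h (closure {η'}) (FDescent.closure_mem_irreducibleComponents (X := ↥(U : Scheme.{u}))
        fun w hw => U.ι.isOpenEmbedding.injective (hmax _ (hw.map U.ι.continuous)))
      replace hcl : closure {f (U.ι η')} = W := by
        rw [← hcl]
        refine (Eq.symm ?_)
        refine (closure_image_closure (s := ({η'} : Set ↥(U : Scheme.{u}))) (U.ι ≫ f).continuous).trans ?_
        rw [Set.image_singleton]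
        rfl
      rw [← hcl] at hW hxW
      exact ⟨fun y hy => FDescent.maximal_of_closure_mem_irreducibleComponents hW hy,
        specializes_iff_mem_closure.2 hxW⟩
    · intro h Z hZ
      obtain ⟨η, rfl, hη⟩ := FDescent.exists_maximal_of_mem_irreducibleComponents hZ
      obtain ⟨h1, h2⟩ := h (U.ι η) η.2 fun z hz => by
        obtain ⟨w, rfl⟩ : z ∈ Set.range U.ι := by
          rw [Scheme.Opens.range_ι]; exact hz.mem_open U.isOpen η.2
        rw [hη w (U.ι.isOpenEmbedding.isInducing.specializes_iff.1 hz)]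
      refine ⟨closure {f (U.ι η)}, FDescent.closure_mem_irreducibleComponents h1,
        specializes_iff_mem_closure.1 h2, ?_⟩
      refine (closure_image_closure (s := ({η} : Set ↥(U : Scheme.{u}))) (U.ι ≫ f).continuous).trans ?_
      exact congrArg closure Set.image_singleton
  · constructor
    · intro h z hz hmax
      let z' : (U : Scheme.{u}) := ⟨z, hz⟩
      have hm : FibMax (U.ι ≫ f) z' := (fibMax_opens_iff f U z').2 hmax
      rw [← (U.ι ≫ f).fiberι_asFiber z', fibMax_fiberι_iff] at hm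
      have := h z' (closure {(U.ι ≫ f).asFiber z'}) (FDescent.closure_mem_irreducibleComponents hm)
      rw [VarDim.topologicalKrullDim_closure_singleton (k := Y.residueField _)
        ((U.ι ≫ f).fiberToSpecResidueField _), deg_fiber, Scheme.Hom.fiberι_asFiber, rd_opens] at this
      exact_mod_cast this
    · intro h x' Z hZ
      obtain ⟨w, rfl, hw⟩ := FDescent.exists_maximal_of_mem_irreducibleComponents hZ
      rw [VarDim.topologicalKrullDim_closure_singleton (k := Y.residueField _)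
        ((U.ι ≫ f).fiberToSpecResidueField _), deg_fiber, rd_opens]
      rw [← fibMax_fiberι_iff, fibMax_opens_iff] at hw
      exact_mod_cast h _ ((U.ι ≫ f).fiberι _ w).2 hw

end Groth.Agent.FibDim
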