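import Groth.Agent.VarDim.Basic
import Mathlib.RingTheory.ZariskisMainTheorem
import Mathlib.RingTheory.NoetherNormalization
import Mathlib.RingTheory.KrullDimension.Polynomial
import Mathlib.Topology.KrullDimension

/-!
# Upper semicontinuity of fibre dimension, ring level (EGA IV 13.1.3)
-/

set_option autoImplicit false
set_option linter.style.haveILetI false

open TensorProduct Topology

namespace Groth.Agent.FibDim

universe u

variable {A B : Type u} [CommRing A] [CommRing B] [Algebra A B]

/-- The fibre of `Spec B → Spec A` over `y`, as a set. -/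
def fib (y : PrimeSpectrum A) : Set (PrimeSpectrum B) := PrimeSpectrum.comap (algebraMap A B) ⁻¹' {y}

theorem topologicalKrullDim_fib (y : PrimeSpectrum A) :
    topologicalKrullDim ↥(fib (B := B) y) = ringKrullDim (y.asIdeal.Fiber B) :=
  ((PrimeSpectrum.preimageHomeomorphFiber A B y).isHomeomorph.topologicalKrullDim_eq).trans
    (PrimeSpectrum.topologicalKrullDim_eq_ringKrullDim _)

theorem krullDim_fib (y : PrimeSpectrum A) :
    Order.krullDim ↥(fib (B := B) y) = ringKrullDim (y.asIdeal.Fiber B) :=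
  Order.krullDim_eq_of_orderIso (PrimeSpectrum.preimageOrderIsoFiber A B y)

theorem ringKrullDim_fiber_mvPolynomial (m : ℕ) (y : PrimeSpectrum A) :
    ringKrullDim (y.asIdeal.Fiber (MvPolynomial (Fin m) A)) = m := by
  rw [ringKrullDim_eq_of_ringEquiv (MvPolynomial.algebraTensorAlgEquiv A y.asIdeal.ResidueField).toRingEquiv,
    MvPolynomial.ringKrullDim_of_isNoetherianRing, ringKrullDim_eq_zero_of_field, zero_add]
  simp

/-- A quasi-finite algebra over a polynomial ring in `m` variables has fibres of dimension `≤ m`. -/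
theorem ringKrullDim_fiber_le_of_quasiFinite (m : ℕ) [Algebra (MvPolynomial (Fin m) A) B]
    [IsScalarTower A (MvPolynomial (Fin m) A) B] [Algebra.QuasiFinite (MvPolynomial (Fin m) A) B]
    (y : PrimeSpectrum A) : ringKrullDim (y.asIdeal.Fiber B) ≤ m := by
  rw [← ringKrullDim_fiber_mvPolynomial m y, ← krullDim_fib, ← krullDim_fib]
  refine Order.krullDim_le_of_strictMono
    (fun P => ⟨PrimeSpectrum.comap (algebraMap (MvPolynomial (Fin m) A) B) P.1, ?_⟩) ?_
  · have := P.2
    simp only [fib, Set.mem_preimage, Set.mem_singleton_iff] at this ⊢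
    rwa [← PrimeSpectrum.comap_comp_apply, ← IsScalarTower.algebraMap_eq]
  · intro P Q h
    refine lt_of_le_of_ne (Ideal.comap_mono h.le) fun he => h.ne (Subtype.ext (PrimeSpectrum.ext ?_))
    exact Algebra.QuasiFinite.eq_of_le_of_under_eq (R := MvPolynomial (Fin m) A) _ _ h.le
      (congrArg (fun z => z.1.asIdeal) he)

/-- Clearing denominators in `κ(p)[X]`. -/
theorem exists_C_mul_mem_range {σ : Type*} (p : Ideal A) [p.IsPrime]
    (G : MvPolynomial σ p.ResidueField) :
    ∃ s ∉ p, ∃ H : MvPolynomial σ A,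
      MvPolynomial.C (algebraMap A p.ResidueField s) * G = MvPolynomial.map (algebraMap A p.ResidueField) H := by
  induction G using MvPolynomial.induction_on with
  | C a =>
    obtain ⟨⟨b, ⟨t, ht⟩⟩, hb⟩ := IsLocalization.surj (nonZeroDivisors (A ⧸ p)) a
    obtain ⟨b, rfl⟩ := Ideal.Quotient.mk_surjective b
    obtain ⟨t, rfl⟩ := Ideal.Quotient.mk_surjective t
    refine ⟨t, fun h => nonZeroDivisors.ne_zero ht (Ideal.Quotient.eq_zero_iff_mem.mpr h),
      MvPolynomial.C b, ?_⟩
    rw [MvPolynomial.map_C, ← map_mul]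
    congr 1
    rw [mul_comm]
    simpa [← Ideal.Quotient.algebraMap_eq, ← IsScalarTower.algebraMap_apply] using hb
  | add G₁ G₂ h₁ h₂ =>
    obtain ⟨s₁, hs₁, H₁, e₁⟩ := h₁
    obtain ⟨s₂, hs₂, H₂, e₂⟩ := h₂
    refine ⟨s₁ * s₂, fun h => (Ideal.IsPrime.mem_or_mem ‹_› h).elim hs₁ hs₂,
      MvPolynomial.C s₂ * H₁ + MvPolynomial.C s₁ * H₂, ?_⟩
    simp only [map_add, map_mul, MvPolynomial.map_C, ← e₁, ← e₂]
    ring
  | mul_X G i h =>
    obtain ⟨s, hs, H, e⟩ := h
    refine ⟨s, hs, H * MvPolynomial.X i, ?_⟩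
    rw [map_mul, ← e, MvPolynomial.map_X]
    ring

theorem comap_map_residueField_injective {σ : Type*} (p : Ideal A) [p.IsPrime] :
    Function.Injective (PrimeSpectrum.comap
      (MvPolynomial.map (σ := σ) (algebraMap A p.ResidueField))) := by
  intro Q₁ Q₂ h
  ext G
  obtain ⟨s, hs, H, e⟩ := exists_C_mul_mem_range p G
  have hu : IsUnit (MvPolynomial.C (σ := σ) (algebraMap A p.ResidueField s)) :=
    (Ne.isUnit (by simpa using hs)).map _
  rw [← Ideal.unit_mul_mem_iff_mem Q₁.asIdeal hu, ← Ideal.unit_mul_mem_iff_mem Q₂.asIdeal hu, e]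
  exact SetLike.ext_iff.mp (congrArg PrimeSpectrum.asIdeal h) H

/-- If the fibre through `P` has dimension `≤ n`, then some `g` outside `P` and elements of `B`
make `B_g` quasi-finite over a polynomial ring in `m ≤ n` variables. -/
theorem exists_quasiFinite [Algebra.FiniteType A B] (P : PrimeSpectrum B) (n : ℕ)
    (h : ringKrullDim ((PrimeSpectrum.comap (algebraMap A B) P).asIdeal.Fiber B) ≤ n) :
    ∃ (m : ℕ) (_ : m ≤ n) (b : Fin m → B) (g : B),
      (ringKrullDim ((PrimeSpectrum.comap (algebraMap A B) P).asIdeal.Fiber B) = m) ∧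
      (MvPolynomial.aeval (R := (PrimeSpectrum.comap (algebraMap A B) P).asIdeal.ResidueField)
        fun i => (1 : (PrimeSpectrum.comap (algebraMap A B) P).asIdeal.ResidueField) ⊗ₜ[A] b i).Finite ∧
      g ∉ P.asIdeal ∧
      letI := (MvPolynomial.aeval (R := A) b).toRingHom.toAlgebra
      Algebra.QuasiFinite (MvPolynomial (Fin m) A) (Localization.Away g) := by
  set p := (PrimeSpectrum.comap (algebraMap A B) P).asIdeal with hp
  let P₀ : PrimeSpectrum (p.Fiber B) :=
    PrimeSpectrum.preimageHomeomorphFiber A B ⟨p, inferInstance⟩ ⟨P, rfl⟩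
  have : Nontrivial (p.Fiber B) :=
    ⟨0, 1, fun e => P₀.isPrime.ne_top ((Ideal.eq_top_iff_one _).mpr (e ▸ Submodule.zero_mem _))⟩
  obtain ⟨m, ψ, hinj, hfin⟩ := exists_finite_inj_algHom_of_fg p.ResidueField (p.Fiber B)
  have hm : ringKrullDim (p.Fiber B) = m := by
    letI := ψ.toRingHom.toAlgebra
    haveI : Module.Finite (MvPolynomial (Fin m) p.ResidueField) (p.Fiber B) := hfin
    haveI : FaithfulSMul (MvPolynomial (Fin m) p.ResidueField) (p.Fiber B) :=
      (faithfulSMul_iff_algebraMap_injective _ _).mpr hinj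
    rw [Groth.Agent.VarDim.ringKrullDim_eq_of_isIntegral (R := MvPolynomial (Fin m) p.ResidueField),
      MvPolynomial.ringKrullDim_of_isNoetherianRing, ringKrullDim_eq_zero_of_field, zero_add]
    simp
  have hmn : m ≤ n := by
    rw [hm] at h
    exact_mod_cast h
  choose s hs b hb using fun i => Ideal.Fiber.exists_smul_eq_one_tmul p (ψ (MvPolynomial.X i))
  refine ⟨m, hmn, b, ?_⟩
  set ψ' : MvPolynomial (Fin m) p.ResidueField →ₐ[p.ResidueField] p.Fiber B :=
    MvPolynomial.aeval fun i => (1 : p.ResidueField) ⊗ₜ[A] b i with hψ'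
  let σ : MvPolynomial (Fin m) p.ResidueField →ₐ[p.ResidueField] MvPolynomial (Fin m) p.ResidueField :=
    MvPolynomial.aeval fun i => MvPolynomial.C (algebraMap A p.ResidueField (s i)) * MvPolynomial.X i
  have hσ : Function.Surjective σ := by
    refine Function.RightInverse.surjective (g := MvPolynomial.aeval fun i =>
      MvPolynomial.C (algebraMap A p.ResidueField (s i))⁻¹ * MvPolynomial.X i) fun G => ?_
    suffices σ.comp (MvPolynomial.aeval fun i =>
      MvPolynomial.C (algebraMap A p.ResidueField (s i))⁻¹ * MvPolynomial.X i) = AlgHom.id _ _ from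
      DFunLike.congr_fun this G
    refine MvPolynomial.algHom_ext fun i => ?_
    have h0 : algebraMap A p.ResidueField (s i) ≠ 0 := by simpa using hs i
    simp only [σ, AlgHom.comp_apply, MvPolynomial.aeval_X, map_mul, AlgHom.id_apply,
      MvPolynomial.aeval_C, MvPolynomial.algebraMap_eq]
    rw [← mul_assoc, ← map_mul, inv_mul_cancel₀ h0, map_one, one_mul]
  have hψ'σ : ψ' = ψ.comp σ := by
    ext i
    simp only [hψ', σ, AlgHom.comp_apply, MvPolynomial.aeval_X, map_mul, ← hb i, Algebra.smul_def]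
    congr 1
    rw [← MvPolynomial.algebraMap_eq, AlgHom.commutes, ← IsScalarTower.algebraMap_apply]
  have hfin' : ψ'.Finite := hψ'σ ▸ hfin.comp (AlgHom.Finite.of_surjective σ hσ)
  letI := (MvPolynomial.aeval (R := A) b).toRingHom.toAlgebra
  haveI : IsScalarTower A (MvPolynomial (Fin m) A) B :=
    IsScalarTower.of_algebraMap_eq fun a => ((MvPolynomial.aeval (R := A) b).commutes a).symm
  haveI : Algebra.FiniteType (MvPolynomial (Fin m) A) B :=
    Algebra.FiniteType.of_restrictScalars_finiteType A _ B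
  have hcomm : ψ'.toRingHom.comp (MvPolynomial.map (algebraMap A p.ResidueField)) =
      (Algebra.TensorProduct.includeRight (R := A) (A := p.ResidueField) (B := B)).toRingHom.comp
        (algebraMap (MvPolynomial (Fin m) A) B) := by
    refine MvPolynomial.ringHom_ext (fun a => ?_) fun i => ?_
    · simp [hψ', RingHom.algebraMap_toAlgebra]
    · simp [hψ', RingHom.algebraMap_toAlgebra]
  have hQF : Algebra.QuasiFiniteAt (MvPolynomial (Fin m) A) P.asIdeal := by
    refine Algebra.QuasiFiniteAt.of_isOpen_singleton_fiber P ?_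
    set Q := PrimeSpectrum.comap (algebraMap (MvPolynomial (Fin m) A) B) P
    let e := PrimeSpectrum.preimageHomeomorphFiber A B ⟨p, inferInstance⟩
    have hmem : ∀ R : ↥(PrimeSpectrum.comap (algebraMap (MvPolynomial (Fin m) A) B) ⁻¹' {Q}),
        R.1 ∈ PrimeSpectrum.comap (algebraMap A B) ⁻¹' {⟨p, inferInstance⟩} := fun R => by
      have h1 : PrimeSpectrum.comap (algebraMap (MvPolynomial (Fin m) A) B) R.1 = Q := R.2
      show PrimeSpectrum.comap (algebraMap A B) R.1 = PrimeSpectrum.comap (algebraMap A B) P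
      rw [IsScalarTower.algebraMap_eq A (MvPolynomial (Fin m) A) B, PrimeSpectrum.comap_comp_apply, h1,
        ← PrimeSpectrum.comap_comp_apply]
    let j : ↥(PrimeSpectrum.comap (algebraMap (MvPolynomial (Fin m) A) B) ⁻¹' {Q}) →
        PrimeSpectrum (p.Fiber B) := fun R => e ⟨R.1, hmem R⟩
    have hj : IsInducing j := e.isEmbedding.isInducing.comp
      (IsInducing.subtypeVal.codRestrict fun R => hmem R)
    have hjinj : Function.Injective j := fun R R' hR =>
      Subtype.ext (congrArg (fun z => z.1) (e.injective hR) : _)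
    have hback : ∀ R, PrimeSpectrum.comap (MvPolynomial.map (algebraMap A p.ResidueField))
        (PrimeSpectrum.comap ψ'.toRingHom (j R)) = Q := fun R => by
      rw [← PrimeSpectrum.comap_comp_apply, hcomm, PrimeSpectrum.comap_comp_apply]
      have h1 : PrimeSpectrum.comap (Algebra.TensorProduct.includeRight (R := A)
          (A := p.ResidueField) (B := B)).toRingHom (j R) = R.1 :=
        congrArg (fun z => z.1) (e.symm_apply_apply ⟨R.1, hmem R⟩)
      rw [h1]
      exact R.2
    letI := ψ'.toRingHom.toAlgebra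
    haveI : Module.Finite (MvPolynomial (Fin m) p.ResidueField) (p.Fiber B) := hfin'
    have hdisc : IsDiscrete (Set.range j) := by
      refine (Algebra.QuasiFinite.isDiscrete_comap_preimage_singleton
        (R := MvPolynomial (Fin m) p.ResidueField) (S := p.Fiber B)
        (PrimeSpectrum.comap ψ'.toRingHom (j ⟨P, rfl⟩))).mono ?_
      rintro _ ⟨R, rfl⟩
      exact comap_map_residueField_injective p ((hback R).trans (hback _).symm)
    haveI := hdisc.1
    haveI : DiscreteTopology ↥(PrimeSpectrum.comap (algebraMap (MvPolynomial (Fin m) A) B) ⁻¹' {Q}) :=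
      ((IsEmbedding.mk hj hjinj).toHomeomorph).symm.discreteTopology
    exact isOpen_discrete _
  obtain ⟨S', hS', r, hr, hbij⟩ :=
    Algebra.QuasiFiniteAt.exists_fg_and_exists_notMem_and_awayMap_bijective
      (R := MvPolynomial (Fin m) A) P.asIdeal
  haveI : Module.Finite (MvPolynomial (Fin m) A) S' := ⟨(Submodule.fg_top _).mpr hS'⟩
  haveI : Algebra.QuasiFinite (MvPolynomial (Fin m) A) (Localization.Away r) :=
    .trans _ S' _
  have hsurj : Function.Surjective (Localization.awayMapₐ S'.val r) := hbij.2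
  refine ⟨r.1, hm, hfin', hr, ?_⟩
  exact Algebra.QuasiFinite.of_surjective_algHom (R := MvPolynomial (Fin m) A)
    (S := Localization.Away r) (Localization.awayMapₐ S'.val r) hsurj

/-- **Chevalley's semicontinuity**, ring level. -/
theorem exists_basicOpen_dim_le [Algebra.FiniteType A B] (P : PrimeSpectrum B) (n : ℕ)
    (W : Set (PrimeSpectrum B)) (hW : IsOpen W) (hP : P ∈ W)
    (h : topologicalKrullDim ↥(W ∩ fib (PrimeSpectrum.comap (algebraMap A B) P)) ≤ n) :
    ∃ U : Set (PrimeSpectrum B), IsOpen U ∧ P ∈ U ∧ U ⊆ W ∧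
      ∀ y : PrimeSpectrum A, topologicalKrullDim ↥(U ∩ fib y) ≤ n := by
  obtain ⟨_, ⟨g₀, rfl⟩, hg₀, hsub⟩ :=
    PrimeSpectrum.isTopologicalBasis_basic_opens.exists_subset_of_mem_open hP hW
  let B₀ := Localization.Away g₀
  haveI : Algebra.FiniteType A B₀ :=
    .trans (S := B) inferInstance (IsLocalization.finiteType_of_monoid_fg (.powers g₀) _)
  set ι := PrimeSpectrum.comap (algebraMap B B₀)
  have hι : IsOpenEmbedding ι := PrimeSpectrum.localization_away_isOpenEmbedding B₀ g₀
  have hr : Set.range ι = (PrimeSpectrum.basicOpen g₀ : Set (PrimeSpectrum B)) :=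
    PrimeSpectrum.localization_away_comap_range B₀ g₀
  have hcomp : ∀ R, PrimeSpectrum.comap (algebraMap A B₀) R =
      PrimeSpectrum.comap (algebraMap A B) (ι R) := fun R => by
    rw [← PrimeSpectrum.comap_comp_apply, ← IsScalarTower.algebraMap_eq]
  obtain ⟨P₀, hP₀⟩ := hr.ge hg₀
  have hdim : ringKrullDim ((PrimeSpectrum.comap (algebraMap A B₀) P₀).asIdeal.Fiber B₀) ≤ n := by
    rw [← topologicalKrullDim_fib]
    refine le_trans (IsInducing.topologicalKrullDim_le (f := fun R =>
      (⟨ι R.1, hsub (hr.le ⟨R.1, rfl⟩), ?_⟩ : ↥(W ∩ fib (PrimeSpectrum.comap (algebraMap A B) P))))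
      ((hι.isInducing.comp IsInducing.subtypeVal).codRestrict _)) h
    have := R.2
    simp only [fib, Set.mem_preimage, Set.mem_singleton_iff] at this ⊢
    rw [← hcomp, this, hcomp, hP₀]
  obtain ⟨m, hmn, b, g, -, -, hg, hQF⟩ := exists_quasiFinite P₀ n hdim
  refine ⟨ι '' PrimeSpectrum.basicOpen g, hι.isOpenMap _ (PrimeSpectrum.basicOpen g).isOpen,
    ⟨P₀, hg, hP₀⟩, (Set.image_subset_range _ _).trans (hr.le.trans hsub), fun y => ?_⟩
  letI := (MvPolynomial.aeval (R := A) b).toRingHom.toAlgebra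
  haveI : IsScalarTower A (MvPolynomial (Fin m) A) B₀ :=
    IsScalarTower.of_algebraMap_eq fun a => ((MvPolynomial.aeval (R := A) b).commutes a).symm
  let B₁ := Localization.Away g
  haveI : IsScalarTower A (MvPolynomial (Fin m) A) B₁ := IsScalarTower.to₁₂₄ A (MvPolynomial (Fin m) A) B₀ B₁
  haveI := hQF
  have h1 := ringKrullDim_fiber_le_of_quasiFinite (A := A) (B := B₁) m y
  rw [← topologicalKrullDim_fib] at h1
  refine le_trans ?_ (h1.trans (by exact_mod_cast hmn))
  set κ := PrimeSpectrum.comap (algebraMap B₀ B₁)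
  have hκ : IsOpenEmbedding κ := PrimeSpectrum.localization_away_isOpenEmbedding B₁ g
  have hκr : Set.range κ = (PrimeSpectrum.basicOpen g : Set (PrimeSpectrum B₀)) :=
    PrimeSpectrum.localization_away_comap_range B₁ g
  have hset : ι '' PrimeSpectrum.basicOpen g ∩ fib y = (ι ∘ κ) '' fib y := by
    have hc : ∀ R, PrimeSpectrum.comap (algebraMap A B) (ι (κ R)) =
        PrimeSpectrum.comap (algebraMap A B₁) R := fun R => by
      rw [← hcomp, ← PrimeSpectrum.comap_comp_apply, ← IsScalarTower.algebraMap_eq]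
    ext R
    constructor
    · rintro ⟨⟨R₀, hR₀, rfl⟩, hR⟩
      obtain ⟨R₁, rfl⟩ := hκr.ge hR₀
      exact ⟨R₁, (hc R₁).symm.trans hR, rfl⟩
    · rintro ⟨R₁, hR₁, rfl⟩
      exact ⟨⟨κ R₁, hκr.le ⟨R₁, rfl⟩, rfl⟩, (hc R₁).trans hR₁⟩
  rw [hset]
  exact le_of_eq (((hι.comp hκ).isEmbedding.homeomorphImage _).isHomeomorph.topologicalKrullDim_eq).symm

end Groth.Agent.FibDim
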