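import Groth.Agent.FibDim.LocDim
import Mathlib

/-!
# The local dimension of a fibre, ring level
-/

set_option autoImplicit false
set_option linter.style.haveILetI false

open AlgebraicGeometry CategoryTheory Topology TensorProduct

namespace Groth.Agent.FibDim

universe u

variable {A B : Type u} [CommRing A] [CommRing B] [Algebra A B]

theorem localDim_fiber_eq_fibreDimAt (q : PrimeSpectrum B)
    (Q : PrimeSpectrum ((q.asIdeal.under A).Fiber B))
    (hQ : Q.asIdeal.comap (Algebra.TensorProduct.includeRight.toRingHom) = q.asIdeal) :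
    FlatMor.localDim (PrimeSpectrum ((q.asIdeal.under A).Fiber B)) Q =
      FlatMor.fibreDimAt (Spec.map (CommRingCat.ofHom (algebraMap A B))) q := by
  let f := Spec.map (CommRingCat.ofHom (algebraMap A B))
  let y : PrimeSpectrum A := PrimeSpectrum.comap (algebraMap A B) q
  let e₂ := PrimeSpectrum.preimageHomeomorphFiber A B y
  let e₁ : ↥(f.fiber (f q)) ≃ₜ ↥(PrimeSpectrum.comap (algebraMap A B) ⁻¹' {y}) := f.fiberHomeo (f q)
  have h : e₂ ⟨q, rfl⟩ = Q := by
    refine e₂.symm.injective ?_
    rw [Homeomorph.symm_apply_apply]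
    exact Subtype.ext (PrimeSpectrum.ext hQ.symm)
  rw [← h]
  refine (localDim_homeomorph e₂ (⟨q, rfl⟩ : ↥(PrimeSpectrum.comap (algebraMap A B) ⁻¹' {y}))).trans ?_
  have : e₁ (f.asFiber q) = ⟨q, rfl⟩ := Subtype.ext (f.fiberι_asFiber q)
  rw [← this, localDim_homeomorph e₁]
  rfl

theorem exists_fiber_point (q : PrimeSpectrum B) :
    ∃ Q : PrimeSpectrum ((q.asIdeal.under A).Fiber B),
      Q.asIdeal.comap (Algebra.TensorProduct.includeRight.toRingHom) = q.asIdeal := by
  let y : PrimeSpectrum A := PrimeSpectrum.comap (algebraMap A B) q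
  let e₂ := PrimeSpectrum.preimageHomeomorphFiber A B y
  refine ⟨e₂ ⟨q, rfl⟩, ?_⟩
  exact congrArg (fun z => z.1.asIdeal) (e₂.symm_apply_apply ⟨q, rfl⟩)

end Groth.Agent.FibDim
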