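import Groth.Agent.FibDim.BaseField
import Groth.Agent.FibDim.Semicont

/-!
# Equidimensionality and flat base change
-/

set_option autoImplicit false
set_option linter.style.haveILetI false

open AlgebraicGeometry CategoryTheory Limits Topology

namespace Groth.Agent.FibDim

universe u

variable {X Y X' Y' : Scheme.{u}} {p : X' ⟶ X} {q : X' ⟶ Y'} {f : X ⟶ Y} {g : Y' ⟶ Y}

/-- Inside one fibre generizations lift through base change. -/
theorem exists_generization_lift (h : IsPullback p q f g) {x' : X'} {b : Y'} (hb : b ⤳ q x')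
    (hgb : g b = g (q x')) : ∃ u, u ⤳ x' ∧ q u = b := by
  set y := g (q x') with hy
  have hfy : f (p x') = y := by
    show (p ≫ f) x' = (q ≫ g) x'
    rw [h.w]
  haveI : IsIntegral (Spec (Y.residueField y)) := inferInstance
  haveI : Subsingleton ↥(Spec (Y.residueField y)) := subsingleton_spec_field (Y.residueField y)
  haveI : Flat (f.fiberToSpecResidueField y) := inferInstance
  let π := pullback.snd q (g.fiberι y)
  have big : IsPullback (pullback.fst q (g.fiberι y) ≫ p) π f
      (g.fiberToSpecResidueField y ≫ Y.fromSpecResidueField y) := by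
    rw [← g.fiber_fac y]
    exact (IsPullback.of_hasPullback q (g.fiberι y)).paste_horiz h
  have small : IsPullback (f.fiberι y) (f.fiberToSpecResidueField y) f (Y.fromSpecResidueField y) :=
    IsPullback.of_hasPullback _ _
  have hw : (pullback.fst q (g.fiberι y) ≫ p) ≫ f =
      (π ≫ g.fiberToSpecResidueField y) ≫ Y.fromSpecResidueField y := by
    rw [Category.assoc]; exact big.w
  have sq : IsPullback (small.lift _ _ hw) π (f.fiberToSpecResidueField y) (g.fiberToSpecResidueField y) := by
    refine IsPullback.of_right ?_ (small.lift_snd _ _ _) small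
    rw [small.lift_fst]
    exact big
  haveI : Flat π := MorphismProperty.of_isPullback sq ‹_›
  obtain ⟨a, ha⟩ : q x' ∈ Set.range (g.fiberι y) := by rw [Scheme.Hom.range_fiberι]; exact hy.symm
  obtain ⟨c, hc⟩ : b ∈ Set.range (g.fiberι y) := by rw [Scheme.Hom.range_fiberι]; exact hgb
  have hca : c ⤳ a := by
    rw [← (g.fiberι y).isEmbedding.isInducing.specializes_iff, hc, ha]
    exact hb
  obtain ⟨z, hz1, hz2⟩ := Scheme.Pullback.exists_preimage_pullback (f := q) (g := g.fiberι y) x' a ha.symm
  obtain ⟨v, hv, hπv⟩ := Flat.generalizingMap π (show c ⤳ π z from hz2.symm ▸ hca)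
  refine ⟨pullback.fst q (g.fiberι y) v, ?_, ?_⟩
  · rw [← hz1]; exact hv.map (pullback.fst q (g.fiberι y)).continuous
  · show (pullback.fst q (g.fiberι y) ≫ q) v = b
    rw [pullback.condition, ← hc, ← hπv]
    rfl

/-- Points maximal in their fibres go to such points under base change. -/
theorem fibMax_of_baseChange (h : IsPullback p q f g) {z : X'} (hz : FibMax q z) : FibMax f (p z) := by
  intro v hv hfv
  have h' : IsPullback (q.fiberι (q z) ≫ p) (q.fiberToSpecResidueField (q z)) f
      (Y'.fromSpecResidueField (q z) ≫ g) :=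
    (IsPullback.of_hasPullback q (Y'.fromSpecResidueField (q z))).paste_horiz h
  obtain ⟨u, hu, hpu⟩ := exists_generization_lift h'.flip (x' := q.asFiber z) (b := v)
    (by show v ⤳ p (q.fiberι (q z) (q.asFiber z)); rw [Scheme.Hom.fiberι_asFiber]; exact hv)
    (by show f v = f (p (q.fiberι (q z) (q.asFiber z))); rw [Scheme.Hom.fiberι_asFiber]; exact hfv)
  have hu' : q.fiberι (q z) u = z := hz _
    (by have := hu.map (q.fiberι (q z)).continuous; rwa [Scheme.Hom.fiberι_asFiber] at this)
    (fiber_apply_fiberι q u)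
  rw [← hu']
  exact hpu.symm

/-- Equidimensionality passes to flat base changes. -/
theorem isEquidimAt_baseChange [LocallyOfFiniteType f] [LocallyOfFiniteType q] [Flat g]
    [IsLocallyNoetherian Y'] (h : IsPullback p q f g) {x' : X'} (hx : EGA43.IsEquidimAt f (p x')) :
    EGA43.IsEquidimAt q x' := by
  haveI : Flat p := MorphismProperty.of_isPullback h.flip ‹Flat g›
  obtain ⟨e, U, hxU, hmax, hdim⟩ := (isEquidimAt_iff f _).1 hx
  obtain ⟨W, hxW, hW⟩ := exists_nhd_generizing (X := Y') (Z := Set.univ) isClosed_univ (q x')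
  refine (isEquidimAt_iff q x').2 ⟨e, p ⁻¹ᵁ U ⊓ q ⁻¹ᵁ W, ⟨hxU, hxW⟩, fun η hη hηmax => ?_, fun z hz hzm => ?_⟩
  · have hp : ∀ v, v ⤳ p η → v = p η := fun v hv => by
      obtain ⟨u, hu, rfl⟩ := Flat.generalizingMap p hv
      rw [hηmax u hu]
    obtain ⟨h1, -⟩ := hmax (p η) hη.1 hp
    have hq : ∀ v, v ⤳ q η → v = q η := fun v hv => by
      have he : g v = g (q η) := by
        have hfg : f (p η) = g (q η) := by
          show (p ≫ f) η = (q ≫ g) η
          rw [h.w]
        have hs : g v ⤳ f (p η) := hfg.symm ▸ hv.map g.continuous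
        exact (h1 _ hs).trans hfg
      obtain ⟨u, hu, rfl⟩ := exists_generization_lift h hv he
      rw [hηmax u hu]
    refine ⟨hq, ?_⟩
    obtain ⟨ζ, -, hζx, hζ⟩ := hW (q η) hη.2 trivial
    rw [← hq ζ hζ]
    exact hζx
  · rw [rd_baseChange_eq_of_minimal h z fun w hw _ hqw => hzm w hw hqw]
    exact hdim (p z) hz.1 (fibMax_of_baseChange h hzm)

end Groth.Agent.FibDim
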