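import Groth.Agent.FibDim.Basic
import Mathlib.RingTheory.AlgebraicIndependent.TranscendenceBasis

/-!
# Relative degree via elements independent modulo a prime; going down and relative degree
(EGA IV 14.2)
-/

set_option autoImplicit false
set_option linter.style.haveILetI false

open AlgebraicGeometry CategoryTheory Topology TensorProduct

namespace Groth.Agent.FibDim

universe u

section Alg

variable {A B : Type u} [CommRing A] [CommRing B] [Algebra A B]

/-- `t` is algebraically independent modulo `P` over `A`. -/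
def IndepMod {n : ℕ} (t : Fin n → B) (P : Ideal B) : Prop :=
  ∀ G : MvPolynomial (Fin n) A, MvPolynomial.aeval t G ∈ P → G ∈ (P.under A).map MvPolynomial.C

theorem IndepMod.mem_iff {n : ℕ} {t : Fin n → B} {P : Ideal B} (h : IndepMod (A := A) t P)
    (G : MvPolynomial (Fin n) A) :
    MvPolynomial.aeval t G ∈ P ↔ G ∈ (P.under A).map MvPolynomial.C := by
  refine ⟨h G, fun hG => ?_⟩
  have : (P.under A).map MvPolynomial.C ≤ P.comap (MvPolynomial.aeval (R := A) t).toRingHom :=
    Ideal.map_le_iff_le_comap.2 fun a ha => by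
      simpa [Ideal.mem_comap] using ha
  exact this hG

theorem isDomain_fiber_of_ker_eq {D : Type u} [CommRing D] [IsDomain D] [Algebra A D] (p : Ideal A)
    [p.IsPrime] (hker : RingHom.ker (algebraMap A D) = p) : IsDomain (p.Fiber D) := by
  let K := FractionRing D
  have hunit : ∀ a ∈ p.primeCompl, IsUnit (algebraMap A K a) := fun a ha => by
    refine Ne.isUnit fun h => ha ?_
    rw [IsScalarTower.algebraMap_apply A D K] at h
    have h' := IsFractionRing.injective D K (h.trans (map_zero _).symm)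
    rw [← hker]
    exact h'
  let φ : p.ResidueField →ₐ[A] K := Ideal.ResidueField.liftₐ p (Algebra.ofId A K) (fun a ha => by
      rw [← hker] at ha
      show algebraMap A K a = 0
      rw [IsScalarTower.algebraMap_apply A D K, show algebraMap A D a = 0 from ha, map_zero])
    (fun a ha => hunit a ha)
  let Φ : p.Fiber D →ₐ[A] K :=
    Algebra.TensorProduct.lift φ (IsScalarTower.toAlgHom A D K) fun _ _ => .all _ _
  have hinj : Function.Injective Φ := by
    rw [injective_iff_map_eq_zero]
    intro x hx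
    obtain ⟨r, hr, d, hd⟩ := Ideal.Fiber.exists_smul_eq_one_tmul p x
    have h1 : algebraMap D K d = 0 := by
      have := congrArg Φ hd
      rw [map_smul, hx, smul_zero] at this
      simpa [Φ] using this.symm
    rw [IsFractionRing.injective D K (h1.trans (map_zero _).symm), TensorProduct.tmul_zero] at hd
    have hu : IsUnit (algebraMap A (p.Fiber D) r) := by
      rw [IsScalarTower.algebraMap_apply A p.ResidueField (p.Fiber D)]
      exact (Ne.isUnit (by simpa using hr)).map _
    rw [Algebra.smul_def] at hd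
    exact hu.mul_right_eq_zero.1 hd
  exact hinj.isDomain

/-- The dimension of the fibre of `B/P` over the contraction of `P`, via independent elements. -/
theorem le_dim_fiber_quotient_iff [Algebra.FiniteType A B] (P : Ideal B) [P.IsPrime] (n : ℕ) :
    (n : WithBot ℕ∞) ≤ ringKrullDim ((P.under A).Fiber (B ⧸ P)) ↔
      ∃ t : Fin n → B, IndepMod (A := A) t P := by
  set p := P.under A with hp
  have hker : RingHom.ker (algebraMap A (B ⧸ P)) = p := by
    rw [IsScalarTower.algebraMap_eq A B (B ⧸ P), ← RingHom.comap_ker, Ideal.Quotient.algebraMap_eq,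
      Ideal.mk_ker]
  haveI := isDomain_fiber_of_ker_eq p hker
  obtain ⟨m, hdim, htr⟩ := VarDim.exists_dim_eq_trdeg (k := p.ResidueField) (p.Fiber (B ⧸ P))
  have hsq : ∀ {k : ℕ} (t : Fin k → B) (G : MvPolynomial (Fin k) A),
      MvPolynomial.aeval (fun i => (1 : p.ResidueField) ⊗ₜ[A] Ideal.Quotient.mk P (t i))
        (MvPolynomial.map (algebraMap A p.ResidueField) G) =
      (1 : p.ResidueField) ⊗ₜ[A] Ideal.Quotient.mk P (MvPolynomial.aeval t G) := fun t G => by
    rw [MvPolynomial.aeval_map_algebraMap]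
    have h1 := MvPolynomial.comp_aeval_apply t
      ((Algebra.TensorProduct.includeRight (R := A) (A := p.ResidueField) (B := B ⧸ P)).comp
        (Ideal.Quotient.mkₐ A P)) G
    exact h1.symm
  constructor
  · intro h
    rw [hdim] at h
    have hnm : n ≤ m := by exact_mod_cast h
    obtain ⟨k, ψ, hinj, hfin⟩ := exists_finite_inj_algHom_of_fg p.ResidueField (p.Fiber (B ⧸ P))
    have hk : k = m := by
      letI := ψ.toRingHom.toAlgebra
      haveI : Module.Finite (MvPolynomial (Fin k) p.ResidueField) (p.Fiber (B ⧸ P)) := hfin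
      haveI : FaithfulSMul (MvPolynomial (Fin k) p.ResidueField) (p.Fiber (B ⧸ P)) :=
        (faithfulSMul_iff_algebraMap_injective _ _).mpr hinj
      rw [VarDim.ringKrullDim_eq_of_isIntegral (R := MvPolynomial (Fin k) p.ResidueField),
        MvPolynomial.ringKrullDim_of_isNoetherianRing, ringKrullDim_eq_zero_of_field, zero_add] at hdim
      simpa using hdim
    subst hk
    choose s hs b hb using fun i => Ideal.Fiber.exists_smul_eq_one_tmul p (ψ (MvPolynomial.X i))
    choose t ht using fun i => Ideal.Quotient.mk_surjective (b i)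
    refine ⟨fun i => t (Fin.castLE hnm i), fun G hG => ?_⟩
    have h0 : ψ (MvPolynomial.rename (Fin.castLE hnm) (MvPolynomial.aeval (fun i =>
        MvPolynomial.C (algebraMap A p.ResidueField (s (Fin.castLE hnm i))) * MvPolynomial.X i)
        (MvPolynomial.map (algebraMap A p.ResidueField) G))) = 0 := by
      rw [← AlgHom.comp_apply, ← AlgHom.comp_apply, MvPolynomial.comp_aeval]
      have he : (fun i => (ψ.comp (MvPolynomial.rename (Fin.castLE hnm)))
          (MvPolynomial.C (algebraMap A p.ResidueField (s (Fin.castLE hnm i))) * MvPolynomial.X i)) =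
          fun i => (1 : p.ResidueField) ⊗ₜ[A] Ideal.Quotient.mk P (t (Fin.castLE hnm i)) := by
        funext i
        rw [AlgHom.comp_apply, map_mul, map_mul, MvPolynomial.rename_X, ← MvPolynomial.algebraMap_eq,
          AlgHom.commutes, AlgHom.commutes, ← IsScalarTower.algebraMap_apply, ← Algebra.smul_def, hb, ht]
      rw [he, hsq (fun i => t (Fin.castLE hnm i)) G, Ideal.Quotient.eq_zero_iff_mem.2 hG,
        TensorProduct.tmul_zero]
    rw [map_eq_zero_iff _ hinj, map_eq_zero_iff _ (MvPolynomial.rename_injective _ (Fin.castLE_injective _))]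
      at h0
    have h1 : MvPolynomial.map (algebraMap A p.ResidueField) G = 0 := by
      have hinv : ∀ H : MvPolynomial (Fin n) p.ResidueField,
          MvPolynomial.aeval (fun i => MvPolynomial.C (algebraMap A p.ResidueField (s (Fin.castLE hnm i)))⁻¹ *
            MvPolynomial.X i) (MvPolynomial.aeval (fun i =>
            MvPolynomial.C (algebraMap A p.ResidueField (s (Fin.castLE hnm i))) * MvPolynomial.X i) H) = H := by
        intro H
        rw [← AlgHom.comp_apply, show (MvPolynomial.aeval (fun i =>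
            MvPolynomial.C (algebraMap A p.ResidueField (s (Fin.castLE hnm i)))⁻¹ * MvPolynomial.X i)).comp
          (MvPolynomial.aeval (R := p.ResidueField) fun i =>
            MvPolynomial.C (algebraMap A p.ResidueField (s (Fin.castLE hnm i))) * MvPolynomial.X i) =
          AlgHom.id p.ResidueField _ from MvPolynomial.algHom_ext fun i => by
            have h0 : algebraMap A p.ResidueField (s (Fin.castLE hnm i)) ≠ 0 := by
              simpa using hs (Fin.castLE hnm i)
            simp only [AlgHom.comp_apply, MvPolynomial.aeval_X, map_mul, AlgHom.id_apply,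
              MvPolynomial.aeval_C, MvPolynomial.algebraMap_eq]
            rw [← mul_assoc, ← map_mul, mul_inv_cancel₀ h0, map_one, one_mul]]
        rfl
      rw [← hinv (MvPolynomial.map _ G), h0, map_zero]
    rw [MvPolynomial.mem_map_C_iff]
    intro d
    have := congrArg (MvPolynomial.coeff d) h1
    rw [MvPolynomial.coeff_map, MvPolynomial.coeff_zero, Ideal.algebraMap_residueField_eq_zero] at this
    exact this
  · rintro ⟨t, ht⟩
    have hind : AlgebraicIndependent p.ResidueField
        (fun i => (1 : p.ResidueField) ⊗ₜ[A] Ideal.Quotient.mk P (t i)) := by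
      rw [algebraicIndependent_iff]
      intro H hH
      obtain ⟨s, hs, G, hG⟩ := exists_C_mul_mem_range p H
      have h1 := congrArg (MvPolynomial.aeval fun i => (1 : p.ResidueField) ⊗ₜ[A] Ideal.Quotient.mk P (t i)) hG
      rw [map_mul, hH, mul_zero, hsq t G] at h1
      have h2 : MvPolynomial.aeval t G ∈ P := by
        by_contra hn
        have hne : (Ideal.Quotient.mk P (MvPolynomial.aeval t G)) ≠ 0 := by
          rwa [Ne, Ideal.Quotient.eq_zero_iff_mem]
        let φ : p.ResidueField →ₐ[A] FractionRing (B ⧸ P) := Ideal.ResidueField.liftₐ p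
          (Algebra.ofId A _) (fun a ha => by
            rw [← hker] at ha
            show algebraMap A _ a = 0
            rw [IsScalarTower.algebraMap_apply A (B ⧸ P), show algebraMap A (B ⧸ P) a = 0 from ha, map_zero])
          (fun a ha => Ne.isUnit fun h => ha (by
            rw [← hker]
            exact IsFractionRing.injective (B ⧸ P) _
              (((IsScalarTower.algebraMap_apply A (B ⧸ P) _ a).symm.trans h).trans (map_zero _).symm)))
        have h3 := congrArg (Algebra.TensorProduct.lift φ (IsScalarTower.toAlgHom A (B ⧸ P) _)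
          fun _ _ => .all _ _) h1
        rw [map_zero, Algebra.TensorProduct.lift_tmul, map_one, one_mul] at h3
        exact hne (IsFractionRing.injective (B ⧸ P) (FractionRing (B ⧸ P)) (h3.symm.trans (map_zero _).symm))
      have h4 : MvPolynomial.map (algebraMap A p.ResidueField) G = 0 := by
        ext d
        rw [MvPolynomial.coeff_map, MvPolynomial.coeff_zero, Ideal.algebraMap_residueField_eq_zero]
        exact MvPolynomial.mem_map_C_iff.1 (ht G h2) d
      rw [h4] at hG
      exact ((Ne.isUnit (by simpa using hs)).map MvPolynomial.C).mul_right_eq_zero.1 hG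
    have := hind.lift_cardinalMk_le_trdeg
    rw [Cardinal.mk_fin, htr, Cardinal.lift_natCast, Cardinal.lift_natCast] at this
    rw [hdim]
    exact_mod_cast this

theorem isPrime_map_C {σ : Type*} {p : Ideal A} [p.IsPrime] :
    (p.map (MvPolynomial.C : A →+* MvPolynomial σ A)).IsPrime := by
  rw [show p.map (MvPolynomial.C : A →+* MvPolynomial σ A) =
    RingHom.ker (MvPolynomial.map (σ := σ) (Ideal.Quotient.mk p)) by
      rw [MvPolynomial.ker_map, Ideal.mk_ker]]
  exact RingHom.ker_isPrime _

/-- Krull: nothing lies strictly between a prime `Q'` and a prime minimal over `Q' + (b)`. -/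
theorem not_lt_lt_of_minimalPrimes [IsNoetherianRing A] {Q' r s : Ideal A} {b : A} [Q'.IsPrime]
    [s.IsPrime] (hr : r ∈ Ideal.minimalPrimes (Q' ⊔ Ideal.span {b})) (h1 : Q' < s) : ¬ s < r := by
  intro h2
  set q := Ideal.Quotient.mk Q'
  haveI := hr.1.1
  have hQr : Q' ≤ r := le_sup_left.trans hr.1.2
  haveI : (r.map q).IsPrime :=
    Ideal.map_isPrime_of_surjective Ideal.Quotient.mk_surjective (by rw [Ideal.mk_ker]; exact hQr)
  haveI : (s.map q).IsPrime :=
    Ideal.map_isPrime_of_surjective Ideal.Quotient.mk_surjective (by rw [Ideal.mk_ker]; exact h1.le)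
  have hmem : r.map q ∈ Ideal.minimalPrimes (Ideal.span {q b}) := by
    have := Ideal.minimalPrimes_map_of_surjective (I := Q' ⊔ Ideal.span {b})
      (f := q) Ideal.Quotient.mk_surjective
    have h2 : (Q' ⊔ Ideal.span {b}).map q = Ideal.span {q b} := by
      rw [Ideal.map_sup, Ideal.map_quotient_self, bot_sup_eq, Ideal.map_span, Set.image_singleton]
    rw [h2] at this
    rw [this]
    exact ⟨r, by rwa [Ideal.mk_ker, sup_eq_left.2 le_sup_left], rfl⟩
  have hht := Ideal.height_le_one_of_isPrincipal_of_mem_minimalPrimes (Ideal.span {q b}) (r.map q) hmem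
  have hcomap : ∀ K : Ideal A, Q' ≤ K → (K.map q).comap q = K := fun K hK => by
    rw [Ideal.comap_map_of_surjective _ Ideal.Quotient.mk_surjective, sup_eq_left]
    rwa [← RingHom.ker_eq_comap_bot, Ideal.mk_ker]
  have g1 : (⊥ : Ideal (A ⧸ Q')) < s.map q := bot_lt_iff_ne_bot.2 fun h => h1.ne' (by
    rw [← hcomap s h1.le, h, ← RingHom.ker_eq_comap_bot, Ideal.mk_ker])
  have g2 : s.map q < r.map q := lt_of_le_of_ne (Ideal.map_mono h2.le) fun h => h2.ne (by
    rw [← hcomap s h1.le, h, hcomap r hQr])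
  have e1 := Ideal.height_strict_mono_of_isPrime_of_isPrime g1
  have e2 := Ideal.height_strict_mono_of_isPrime_of_isPrime g2
  have := (Order.add_one_le_of_lt e1).trans_lt (e2.trans_le hht)
  exact absurd this (by simp)

/-- In a Noetherian ring, below a prime `p` and above `Q < p`, avoiding `c ∉ Q`, there is a prime
immediately below `p`. -/
theorem exists_covBy_avoiding [IsNoetherianRing A] {Q p : Ideal A} [Q.IsPrime] [p.IsPrime]
    (hQp : Q < p) {c : A} (hc : c ∉ Q) :
    ∃ Q' : Ideal A, Q'.IsPrime ∧ Q ≤ Q' ∧ Q' < p ∧ c ∉ Q' ∧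
      ∀ R : Ideal A, R.IsPrime → Q' < R → ¬ R < p := by
  classical
  let S : Set (Ideal A) := {R | R.IsPrime ∧ Q ≤ R ∧ R < p ∧ c ∉ R}
  obtain ⟨Q', ⟨hQ'1, hQ'2, hQ'3, hQ'4⟩, hmax⟩ :=
    set_has_maximal_iff_noetherian.mpr inferInstance S ⟨Q, ⟨‹_›, le_rfl, hQp, hc⟩⟩
  refine ⟨Q', hQ'1, hQ'2, hQ'3, hQ'4, fun R hR hQR hRp => ?_⟩
  have hall : ∀ R : Ideal A, R.IsPrime → Q' < R → R < p → c ∈ R := fun R hR h1 h2 =>
    by_contra fun h => hmax R ⟨hR, hQ'2.trans h1.le, h2, h⟩ h1
  haveI := hQ'1
  let T : Set (Ideal A) := Ideal.minimalPrimes (Q' ⊔ Ideal.span {c}) ∩ {r | r < p}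
  have hT : T.Finite :=
    (Ideal.finite_minimalPrimes_of_isNoetherianRing A (Q' ⊔ Ideal.span {c} : Ideal A)).inter_of_left _
  have hnsub : ¬ (p : Set A) ⊆ ⋃ r ∈ hT.toFinset, (r : Set A) := by
    intro h
    obtain ⟨r, hr, hle⟩ := (Ideal.subset_union_prime R R
      (fun r hr _ _ => (hT.mem_toFinset.1 hr).1.1.1)).1 h
    exact not_le_of_gt (hT.mem_toFinset.1 hr).2 hle
  obtain ⟨b, hbp, hb⟩ := Set.not_subset.1 hnsub
  have hbQ' : b ∉ Q' := fun h => hb (by
    obtain ⟨r, hr, hrR⟩ := Ideal.exists_minimalPrimes_le (show Q' ⊔ Ideal.span {c} ≤ R from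
      sup_le hQR.le (Ideal.span_le.2 (Set.singleton_subset_iff.2 (hall R hR hQR hRp))))
    exact Set.mem_iUnion₂.2 ⟨r, hT.mem_toFinset.2 ⟨hr, hrR.trans_lt hRp⟩, (le_sup_left.trans hr.1.2) h⟩)
  obtain ⟨r, hr, hrp⟩ := Ideal.exists_minimalPrimes_le (show Q' ⊔ Ideal.span {b} ≤ p from
    sup_le hQ'3.le (Ideal.span_le.2 (Set.singleton_subset_iff.2 hbp)))
  have hbr : b ∈ r := (le_sup_right.trans hr.1.2) (Ideal.mem_span_singleton_self b)
  obtain heq | hlt := hrp.eq_or_lt
  · subst heq
    exact not_lt_lt_of_minimalPrimes hr hQR hRp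
  have hQr : Q' < r := lt_of_le_of_ne (le_sup_left.trans hr.1.2) fun h => hbQ' (h ▸ hbr)
  haveI := hr.1.1
  obtain ⟨r', hr', hr'r⟩ := Ideal.exists_minimalPrimes_le (show Q' ⊔ Ideal.span {c} ≤ r from
    sup_le hQr.le (Ideal.span_le.2 (Set.singleton_subset_iff.2 (hall r hr.1.1 hQr hlt))))
  haveI := hr'.1.1
  obtain heq | hlt' := hr'r.eq_or_lt
  · exact hb (Set.mem_iUnion₂.2 ⟨r, hT.mem_toFinset.2 ⟨heq ▸ hr', hlt⟩, hbr⟩)
  · have hQr' : Q' < r' := lt_of_le_of_ne (le_sup_left.trans hr'.1.2) fun h => hQ'4 (h ▸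
      (le_sup_right.trans hr'.1.2) (Ideal.mem_span_singleton_self c))
    exact not_lt_lt_of_minimalPrimes hr hQr' hlt'

/-- No prime lies strictly between `Q'[X]` and `p[X]` over `Q'` when `p` covers `Q'`. -/
theorem le_map_C_of_covBy [IsNoetherianRing A] {σ : Type*} [Finite σ] {Q' p : Ideal A} [Q'.IsPrime]
    [p.IsPrime] (hlt : Q' < p) (hcov : ∀ R : Ideal A, R.IsPrime → Q' < R → ¬ R < p)
    {R : Ideal (MvPolynomial σ A)} [R.IsPrime] (hR : R ≤ p.map MvPolynomial.C)
    (hRA : R.comap MvPolynomial.C = Q') : R ≤ Q'.map MvPolynomial.C := by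
  obtain ⟨a, hap, haQ⟩ := SetLike.exists_of_lt hlt
  have hQR : Q'.map MvPolynomial.C ≤ R := Ideal.map_le_iff_le_comap.2 hRA.ge
  haveI := isPrime_map_C (σ := σ) (p := p)
  haveI := isPrime_map_C (σ := σ) (p := Q')
  have hQp : Q'.map MvPolynomial.C ≤ p.map (MvPolynomial.C : A →+* MvPolynomial σ A) := Ideal.map_mono hlt.le
  have hmin : p.map MvPolynomial.C ∈ Ideal.minimalPrimes
      (Q'.map (MvPolynomial.C : A →+* MvPolynomial σ A) ⊔ Ideal.span {MvPolynomial.C a}) := by
    refine ⟨⟨isPrime_map_C, sup_le hQp (Ideal.span_le.2 (Set.singleton_subset_iff.2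
      (Ideal.mem_map_of_mem _ hap)))⟩, fun K ⟨hK, hle⟩ hKp => Ideal.map_le_iff_le_comap.2 ?_⟩
    haveI := hK
    have h1 : Q' ≤ K.comap MvPolynomial.C := Ideal.map_le_iff_le_comap.1 (le_sup_left.trans hle)
    have h2 : K.comap (MvPolynomial.C : A →+* MvPolynomial σ A) ≤ p := fun x hx => by
      have := MvPolynomial.mem_map_C_iff.1 (hKp (Ideal.mem_comap.1 hx)) 0
      simpa using this
    have h3 : Q' < K.comap MvPolynomial.C := lt_of_le_of_ne h1 fun h => haQ (h ▸
      (le_sup_right.trans hle) (Ideal.mem_span_singleton_self _))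
    obtain heq | hlt' := h2.eq_or_lt
    · exact heq.ge
    · exact absurd hlt' (hcov _ inferInstance h3)
  obtain heq | hlt' := hQR.eq_or_lt
  · exact heq.ge
  · refine absurd (lt_of_le_of_ne hR fun h => haQ ?_) (not_lt_lt_of_minimalPrimes hmin hlt')
    rw [← hRA, h]
    exact Ideal.mem_map_of_mem _ hap

/-- Going down at `P` carries independent elements to every generization of the contraction. -/
theorem exists_indepMod_below [IsNoetherianRing A] [IsNoetherianRing B] (P : Ideal B) [P.IsPrime]
    (hGD : ∀ Q' : Ideal A, Q'.IsPrime → Q' ≤ P.under A → ∃ R : Ideal B, R.IsPrime ∧ R ≤ P ∧ R.under A = Q')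
    {n : ℕ} {t : Fin n → B} (ht : IndepMod (A := A) t P) (Q : Ideal A) [Q.IsPrime]
    (hQ : Q ≤ P.under A) :
    ∃ R : Ideal B, R.IsPrime ∧ R ≤ P ∧ R.under A = Q ∧ IndepMod (A := A) t R := by
  classical
  obtain rfl | hlt := hQ.eq_or_lt
  · exact ⟨P, inferInstance, le_rfl, rfl, ht⟩
  haveI := isPrime_map_C (σ := Fin n) (p := Q)
  by_contra hne
  push Not at hne
  have hM := Ideal.finite_minimalPrimes_of_isNoetherianRing B (Q.map (algebraMap A B))
  have hG : ∀ R ∈ {R ∈ (Q.map (algebraMap A B)).minimalPrimes | R ≤ P},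
      ∃ G : MvPolynomial (Fin n) A, MvPolynomial.aeval t G ∈ R ∧ G ∉ Q.map MvPolynomial.C := by
    rintro R ⟨hR, hRP⟩
    haveI := hR.1.1
    have hQR : Q ≤ R.under A := Ideal.map_le_iff_le_comap.1 hR.1.2
    obtain heq | hlt' := hQR.eq_or_lt
    · obtain ⟨G, hG1, hG2⟩ : ∃ G : MvPolynomial (Fin n) A,
          MvPolynomial.aeval t G ∈ R ∧ G ∉ (R.under A).map MvPolynomial.C := by
        have := hne R hR.1.1 hRP heq.symm
        simpa [IndepMod] using this
      exact ⟨G, hG1, by rwa [heq]⟩
    · obtain ⟨a, ha, haQ⟩ := SetLike.exists_of_lt hlt'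
      refine ⟨MvPolynomial.C a, by simpa using ha, fun h => haQ ?_⟩
      simpa using MvPolynomial.mem_map_C_iff.1 h 0
  choose! G hG1 hG2 using hG
  have hfin : {R ∈ (Q.map (algebraMap A B)).minimalPrimes | R ≤ P}.Finite := hM.subset fun _ h => h.1
  let G₀ := ∏ R ∈ hfin.toFinset, G R
  have hG₀ : G₀ ∉ Q.map MvPolynomial.C := fun h => by
    obtain ⟨R, hR, hR'⟩ := (Ideal.IsPrime.prod_mem_iff (p := Q.map MvPolynomial.C)).1 h
    exact hG2 R (hfin.mem_toFinset.1 hR) hR'
  obtain ⟨d, hd⟩ : ∃ d, G₀.coeff d ∉ Q := by simpa [MvPolynomial.mem_map_C_iff] using hG₀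
  obtain ⟨Q', hQ'p, hQQ', hQ'lt, hcQ', hcov⟩ := exists_covBy_avoiding hlt hd
  obtain ⟨R, hRp, hRP, hRA⟩ := hGD Q' hQ'p hQ'lt.le
  obtain ⟨R₀, hR₀, hR₀R⟩ := Ideal.exists_minimalPrimes_le (show Q.map (algebraMap A B) ≤ R from
    Ideal.map_le_iff_le_comap.2 (hQQ'.trans hRA.ge))
  have hR₀' : R₀ ∈ {R ∈ (Q.map (algebraMap A B)).minimalPrimes | R ≤ P} := ⟨hR₀, hR₀R.trans hRP⟩
  have hG₀R : MvPolynomial.aeval t G₀ ∈ R := by
    have h1 : MvPolynomial.aeval t (G R₀) ∈ R := hR₀R (hG1 R₀ hR₀')
    simp only [G₀, map_prod]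
    exact Ideal.prod_mem _ (hfin.mem_toFinset.2 hR₀') h1
  have h2 : R.comap (MvPolynomial.aeval (R := A) t).toRingHom ≤ (P.under A).map MvPolynomial.C :=
    fun H hH => ht H (hRP hH)
  have h3 : (R.comap (MvPolynomial.aeval (R := A) t).toRingHom).comap MvPolynomial.C = Q' := by
    rw [← hRA]
    ext a
    simp [Ideal.mem_comap]
  exact hcQ' (MvPolynomial.mem_map_C_iff.1 (le_map_C_of_covBy hQ'lt hcov h2 h3 hG₀R) d)

/-- Over a valuation ring, independence modulo a prime implies independence modulo any smaller prime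
over the generic point. -/
theorem indepMod_of_valuationRing [IsDomain A] [ValuationRing A] {P Q : Ideal B} [P.IsPrime] [Q.IsPrime]
    (hQP : Q ≤ P) (hQ : Q.under A = ⊥) {n : ℕ} {t : Fin n → B} (ht : IndepMod (A := A) t P) :
    IndepMod (A := A) t Q := by
  classical
  intro G hG
  rw [hQ, Ideal.map_bot, Ideal.mem_bot]
  by_contra hG0
  have hne : G.support.Nonempty := MvPolynomial.support_nonempty.2 hG0
  have hmax : ∀ (s : Finset (Fin n →₀ ℕ)), s.Nonempty → ∃ d ∈ s, ∀ e ∈ s, G.coeff d ∣ G.coeff e := by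
    intro s hs
    induction hs using Finset.Nonempty.cons_induction with
    | singleton a => exact ⟨a, Finset.mem_singleton_self a, fun e he => by rw [Finset.mem_singleton.1 he]⟩
    | cons a s ha hs ih =>
      obtain ⟨d, hd, hdiv⟩ := ih
      rcases ValuationRing.dvd_total (G.coeff a) (G.coeff d) with h | h
      · exact ⟨a, Finset.mem_cons_self a s, fun e he => by
          rcases Finset.mem_cons.1 he with rfl | he
          · rfl
          · exact h.trans (hdiv e he)⟩
      · exact ⟨d, Finset.mem_cons.2 (Or.inr hd), fun e he => by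
          rcases Finset.mem_cons.1 he with rfl | he
          · exact h
          · exact hdiv e he⟩
  obtain ⟨d, hd, hdiv⟩ := hmax G.support hne
  have hc : G.coeff d ≠ 0 := MvPolynomial.mem_support_iff.1 hd
  obtain ⟨G', hG'⟩ : MvPolynomial.C (G.coeff d) ∣ G := by
    rw [MvPolynomial.C_dvd_iff_dvd_coeff]
    intro e
    by_cases he : e ∈ G.support
    · exact hdiv e he
    · rw [MvPolynomial.notMem_support_iff.1 he]; exact dvd_zero _
  have h2 : MvPolynomial.aeval t G' ∈ P := by
    rw [hG', map_mul, MvPolynomial.aeval_C] at hG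
    rcases Ideal.IsPrime.mem_or_mem inferInstance hG with h | h
    · have h' : G.coeff d ∈ Q.under A := h
      rw [hQ, Ideal.mem_bot] at h'
      exact absurd h' hc
    · exact hQP h
  have h3 := MvPolynomial.mem_map_C_iff.1 (ht G' h2) d
  have hne' : (P.under A) ≠ ⊤ := (inferInstance : (P.under A).IsPrime).ne_top
  have h4 : G.coeff d * G'.coeff d = G.coeff d := by
    conv_rhs => rw [hG', MvPolynomial.coeff_C_mul]
  rw [(mul_eq_left₀ hc).1 h4] at h3
  exact hne' ((Ideal.eq_top_iff_one _).2 h3)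

end Alg

end Groth.Agent.FibDim
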